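import Groth.Agent.H28Vert.Numerical
import Groth.Agent.H10Coh.Stab.TwistInt
import Groth.Agent.H10Coh.Pn.Results
import Groth.Agent.H10Coh.PushEdge
import Groth.Agent.H11Ample.RelAmple
import Groth.Agent.H11Ample.RelQuasiAffine
import Groth.Agent.H22Alg.RegSheaf
import Groth.Agent.H28Mero.Gen

/-!
# Numbers of exceptional curves of the first kind
-/

set_option autoImplicit false
set_option linter.style.haveILetI false
set_option backward.isDefEq.respectTransparency.types false
universe u

open CategoryTheory CategoryTheory.Limits AlgebraicGeometry Opposite TopologicalSpace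

namespace Groth.Agent.H28Vert

/-- Vanishing of the cohomology of a quasi-coherent module can be tested after an isomorphism of schemes. -/
theorem subsingleton_HH_of_pullback_iso {P E : Scheme.{u}} (e : P ≅ E) (F : E.Modules) [F.IsQuasicoherent]
    (q : ℕ) (h : Subsingleton (Coh.HH P ((Scheme.Modules.pullback e.hom).obj F) q)) :
    Subsingleton (Coh.HH E F q) := by
  haveI := H10Coh.enoughInjMod E
  let G : P.Modules := (Scheme.Modules.pushforward e.inv).obj F
  have e1 : F ≅ (Scheme.Modules.pushforward e.hom).obj G :=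
    ((Scheme.Modules.pushforwardId E).app F).symm ≪≫
      (Scheme.Modules.pushforwardCongr e.inv_hom_id.symm).app F ≪≫
      ((Scheme.Modules.pushforwardComp e.inv e.hom).app F).symm
  have e2 : (Scheme.Modules.pullback e.hom).obj F ≅ G :=
    ((Scheme.Modules.restrictFunctorIsoPullback e.hom).app F).symm ≪≫
      (Scheme.Modules.restrictFunctor e.hom).mapIso e1 ≪≫
      (Scheme.Modules.restrictFunctorAdjCounitIso e.hom).app G
  have h1 : Subsingleton (Coh.HH P G q) := H10Coh.subsingleton_HH_of_iso e2 q h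
  exact (H10Coh.bijective_pushEdge e.inv F (H10Coh.isAcyclic_push_of_isAffineHom e.inv F) q).2.subsingleton

variable {R : Type u} [CommRing R] [IsDomain R] [IsDiscreteValuationRing R]
  {X : Over (Spec (CommRingCat.of R))}

/-- An exceptional curve of the first kind has genus zero and self-intersection minus the degree of its
field of constants. -/
theorem exc_facts [IsProper X.hom] {Γ : ArSurf.VertComp R X} (hexc : Models.IsExcCurve Γ.ι) {L : X.left.Modules}
    (hinv : PicF.IsInvertible L) (hL : ClSub.IsInverseOf L (ClSub.idealMod Γ.ι.ker)) :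
    Models.h1 R X Γ = 0 ∧ ArSurf.inter R X L Γ = -(Models.wdeg R X Γ : ℤ) := by
  obtain ⟨hEff, k', hk', e, ⟨η⟩⟩ := hexc
  obtain ⟨ρ⟩ := hL
  let k := IsLocalRing.ResidueField R
  let E := Γ.curve.left
  let O : ℤ → (CohB1.ProjSpace 1 k').Modules := fun a => Twist.twistProjSpace 1 k' a
  have hO := H10Coh.Stab.isTwistFamily_projSpace 1 k'
  let M : E.Modules := (Scheme.Modules.pullback Γ.ι).obj L
  have hM : PicF.IsInvertible M := H11Ample.isInvertible_pullback Γ.ι hinv
  let N : (CohB1.ProjSpace 1 k').Modules := (Scheme.Modules.pullback (e.hom ≫ Γ.ι)).obj L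
  obtain ⟨π⟩ := H11Ample.exists_iso_pullback_tensor (e.hom ≫ Γ.ι) hinv
    (H29Blow.isInvertible_of_isEffCartierIdeal _ hEff)
  obtain ⟨s⟩ := H11Ample.nonempty_pullback_structureModule_iso (e.hom ≫ Γ.ι)
  obtain ⟨z⟩ := hO.zero
  obtain ⟨a⟩ := hO.add 1 (-1)
  have hN : N ≅ O (-1) :=
    (H10Coh.Tw.rightUnitIso N).symm ≪≫
      PicGrp.tensorModIso (Iso.refl N) (z.symm ≪≫ eqToIso (congrArg O (by norm_num)) ≪≫ a.symm) ≪≫
      (H10Coh.Tw.assoc N (O 1) (O (-1))).symm ≪≫
      PicGrp.tensorModIso (PicGrp.tensorModIso (Iso.refl N) η.symm ≪≫ π.symm ≪≫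
        (Scheme.Modules.pullback _).mapIso ρ ≪≫ s) (Iso.refl _) ≪≫
      H10Coh.Tw.leftUnitIso _
  haveI : M.IsQuasicoherent := H28Mero.isQCoh_of_isInvertible hM
  haveI : (Coh.structureModule E).IsQuasicoherent := H28Mero.isQCoh_of_isInvertible H11Ample.isInvertible_structureModule
  have hMq : ∀ q, Subsingleton (Coh.HH E M q) := fun q =>
    subsingleton_HH_of_pullback_iso e M q (H10Coh.subsingleton_HH_of_iso
      (hN.symm ≪≫ ((Scheme.Modules.pullbackComp e.hom Γ.ι).app L).symm) q
      (H10Coh.Pn.subsingleton_HH_Od (n := 1) (R := k') (d := -1) q (by omega) (by omega)))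
  obtain ⟨s'⟩ := H11Ample.nonempty_pullback_structureModule_iso e.hom
  haveI h1 : Subsingleton (Coh.HH E (Coh.structureModule E) 1) :=
    subsingleton_HH_of_pullback_iso e _ 1 (H10Coh.subsingleton_HH_of_iso s'.symm 1
      (H10Coh.Pn.subsingleton_HH_structureModule 1 k' 1 one_pos))
  refine ⟨Module.finrank_zero_of_subsingleton, ?_⟩
  haveI := hMq 0
  haveI := hMq 1
  show FGA.eulerCharLE k E M 1 - FGA.eulerCharLE k E (Coh.structureModule E) 1 = _
  simp only [FGA.eulerCharLE, Finset.sum_range_succ, Finset.sum_range_zero]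
  rw [Module.finrank_zero_of_subsingleton (R := k) (M := Coh.HH E M 0),
    Module.finrank_zero_of_subsingleton (R := k) (M := Coh.HH E M 1),
    Module.finrank_zero_of_subsingleton (R := k) (M := Coh.HH E (Coh.structureModule E) 1)]
  show _ = -((Module.finrank k (Coh.HH E (Coh.structureModule E) 0) : ℕ) : ℤ)
  simp

end Groth.Agent.H28Vert
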