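import Groth.Agent.H28Vert.Symm
import Groth.Agent.H11Ample.RelQuasiAffine
import Groth.Agent.H17.Image
import Mathlib.RingTheory.Length

/-!
# Additive functions and multiplicities along the components
-/

set_option autoImplicit false
set_option linter.style.haveILetI false
set_option backward.isDefEq.respectTransparency.types false
universe u

open CategoryTheory CategoryTheory.Limits AlgebraicGeometry Opposite TopologicalSpace

namespace Groth.Agent.H28Vert

open Groth.Agent.H28Int

variable {Y : Scheme.{u}}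

/-- The length of a stalk. -/
noncomputable def len (ξ : Y) (G : Y.Modules) : ℕ∞ :=
  Module.length (Y.presheaf.stalk ξ) ((DerSch.stalkFunctor Y ξ).obj G)

theorem len_congr {ξ : Y} {F G : Y.Modules} (e : F ≅ G) : len ξ F = len ξ G :=
  ((DerSch.stalkFunctor Y ξ).mapIso e).toLinearEquiv.length_eq

theorem len_eq_zero {ξ : Y} {G : Y.Modules} (h : ξ ∉ CohB1.support G) : len ξ G = 0 := by
  haveI : Subsingleton ((DerSch.stalkFunctor Y ξ).obj G) :=
    ModuleCat.subsingleton_of_isZero ((H25Euler.notMem_support_iff _ ξ).1 h)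
  exact Module.length_eq_zero

theorem len_add (ξ : Y) {S : ShortComplex Y.Modules} (hS : S.ShortExact) :
    len ξ S.X₂ = len ξ S.X₁ + len ξ S.X₃ := by
  let St := DerSch.stalkFunctor Y ξ
  haveI := hS.mono_f
  haveI := hS.epi_g
  have hinj : Function.Injective (St.map S.f).hom := (ModuleCat.mono_iff_injective _).1 inferInstance
  have hsurj : Function.Surjective (St.map S.g).hom := (ModuleCat.epi_iff_surjective _).1 inferInstance
  exact Module.length_eq_add_of_exact _ _ hinj hsurj
    ((ShortComplex.ShortExact.moduleCat_exact_iff_function_exact _).1 (hS.exact.map St))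

/-- The direct image of the structure sheaf of an integral closed subscheme has length one at its generic point. -/
theorem len_push_structure {Z : Scheme.{u}} (i : Z ⟶ Y) [IsClosedImmersion i] [IsIntegral Z] :
    len (i (genericPoint Z)) ((Coh.push i).obj (Coh.structureModule Z)) = 1 := by
  let η := genericPoint Z
  let A := Y.presheaf.stalk (i η)
  let K := Z.presheaf.stalk η
  have hK : IsField K := Field.toIsField Z.functionField
  let M := ((Coh.push i).obj (Coh.structureModule Z)).presheaf.stalk (i η)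
  let p := H16Derived.ProjFormula.pushStalk i (Coh.structureModule Z) η
  have hp := H16Derived.ProjFormula.pushStalk_bijective i (Coh.structureModule Z) η
  have hgen := H11Ample.isGen_one (⊤ : Z.Opens) η trivial
  let g := (Coh.structureModule Z).presheaf.germ ⊤ η trivial
    (show Γ(Coh.structureModule Z, ⊤) from (1 : Γ(Z, ⊤)))
  obtain ⟨e, he⟩ := hp.2 g
  let f : A →ₗ[A] M := LinearMap.toSpanSingleton A M e
  have hf : ∀ a : A, p (f a) = (i.stalkMap η).hom a • g := fun a => by
    show p (a • e) = _
    rw [H16Derived.ProjFormula.pushStalk_smul, he]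
  have hsurj : Function.Surjective f := fun m => by
    obtain ⟨c, hc⟩ := hgen.2 (p m)
    obtain ⟨a, rfl⟩ := i.stalkMap_surjective η c
    exact ⟨a, hp.1 ((hf a).trans hc)⟩
  have hker : LinearMap.ker f = RingHom.ker (i.stalkMap η).hom := by
    ext a
    rw [LinearMap.mem_ker, RingHom.mem_ker]
    constructor
    · intro h
      refine hgen.1 ?_
      show _ • g = (0 : K) • g
      rw [zero_smul, ← hf, h, map_zero]
    · intro h
      refine hp.1 ?_
      rw [hf, h, zero_smul, map_zero]
  haveI hmax : (RingHom.ker (i.stalkMap η).hom).IsMaximal := by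
    letI := hK.toField
    exact RingHom.ker_isMaximal_of_surjective _ (i.stalkMap_surjective η)
  haveI : IsSimpleModule A (A ⧸ RingHom.ker (i.stalkMap η).hom) :=
    isSimpleModule_iff_isCoatom.2 hmax.out
  show Module.length A M = 1
  rw [← ((Submodule.quotEquivOfEq _ _ hker.symm).trans (LinearMap.quotKerEquivOfSurjective f hsurj)).length_eq,
    Module.length_eq_one]

variable {n : ℕ} {C : Fin n → Scheme.{u}} (j : ∀ l, C l ⟶ Y) [∀ l, IsClosedImmersion (j l)]
  [∀ l, IsIntegral (C l)]

/-- An additive function which vanishes in dimension zero is a combination of the multiplicities. -/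
theorem eq_sum_len [IsNoetherian Y] (hdim : ∀ l, topologicalKrullDim (C l) = 1)
    (hcov : ∀ y : Y, ∃ l, y ∈ Set.range (j l))
    (hne : ∀ l m, l ≠ m → (j l) (genericPoint (C l)) ∉ Set.range (j m))
    {ψ : Y.Modules → ℤ} (hψ : IsAddFn ψ)
    (h0 : ∀ F, Coh.IsCoh F → topologicalKrullDim (CohB1.support F) < ((1 : ℕ) : WithBot ℕ∞) → ψ F = 0)
    (G : Y.Modules) (hG : Coh.IsCoh G) :
    ψ G = ∑ l, ((len ((j l) (genericPoint (C l))) G).toNat : ℤ) * ψ ((Coh.push (j l)).obj (Coh.structureModule (C l))) := by
  let ξ : Fin n → Y := fun l => (j l) (genericPoint (C l))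
  let E : Fin n → ℤ := fun l => ψ ((Coh.push (j l)).obj (Coh.structureModule (C l)))
  let P : Y.Modules → Prop := fun F =>
    (∀ l, len (ξ l) F ≠ ⊤) ∧ ψ F = ∑ l, ((len (ξ l) F).toNat : ℤ) * E l
  have hzero : ∀ F : Y.Modules, ψ F = 0 → (∀ l, ξ l ∉ CohB1.support F) → P F := fun F hF hl => by
    refine ⟨fun l => by simp [len_eq_zero (hl l)], ?_⟩
    rw [hF]
    exact (Finset.sum_eq_zero fun l _ => by simp [len_eq_zero (hl l)]).symm
  suffices h : P G from h.2
  refine LeadDev.devissage_induction (CohB1.support G) P ?_ ?_ ?_ ?_ G hG le_rfl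
  · rintro A B ⟨e⟩ ⟨h1, h2⟩
    exact ⟨fun l => len_congr (ξ := ξ l) e ▸ h1 l, by simp only [← hψ.congr e, ← len_congr e, h2]⟩
  · intro A hA
    exact hzero A (hψ.zero hA) fun l => by simp [LeadDev.support_eq_empty_of_isZero hA]
  · rintro S hS h₁ h₂ h₃ ⟨f₁, e₁⟩ ⟨f₃, e₃⟩
    refine ⟨fun l => by rw [len_add _ hS]; exact WithTop.add_ne_top.2 ⟨f₁ l, f₃ l⟩, ?_⟩
    rw [hψ.add S hS h₁ h₂ h₃, e₁, e₃, ← Finset.sum_add_distrib]
    refine Finset.sum_congr rfl fun l _ => ?_
    rw [len_add _ hS, ENat.toNat_add (f₁ l) (f₃ l)]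
    push_cast
    ring
  intro Z i _ _ _ ih I ι _ hI
  haveI : I.IsQuasicoherent := hI
  let η := i (genericPoint Z)
  let Q := (Coh.push i).obj (Coh.structureModule Z)
  let G' := (Coh.push i).obj I
  have hQ : Coh.IsCoh Q := LeadDev.isCoh_push_structure i
  have hG' : Coh.IsCoh G' :=
    H10Coh.isCoh_of_mono ((Coh.push i).map ι) (H10Coh.isQuasicoherent_pushforward i I) hQ
  have hGs : CohB1.support G' ⊆ Set.range i :=
    (LeadDev.support_subset_of_mono ((Coh.push i).map ι)).trans (support_push_structure_eq i).le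
  by_cases hA : ∃ l, ξ l ∈ Set.range i
  swap
  · refine hzero G' (h0 G' hG' ((dim_le_of_subset hGs).trans_lt ?_)) fun l hl => hA ⟨l, hGs hl⟩
    obtain ⟨l, hl⟩ := hcov η
    have hsub : ∀ x ∈ Set.range i, x ∈ Set.range (j l) := by
      rintro _ ⟨z, rfl⟩
      exact ((genericPoint_specializes z).map i.continuous).mem_closed (j l).isClosedEmbedding.isClosed_range hl
    exact dim_lt_of_notMem (C := Set.range (j l)) (LeadDev.range_eq_closure (j l) (ξ := ξ l) rfl).symm
      ((IsHomeomorph.topologicalKrullDim_eq _ (j l).isClosedEmbedding.isEmbedding.toHomeomorph.isHomeomorph).symm.trans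
        (hdim l)).le i.isClosedEmbedding.isClosed_range hsub fun h => hA ⟨l, h⟩
  obtain ⟨l, hl⟩ := hA
  have hrange : Set.range i = Set.range (j l) := by
    have hsub : Set.range (j l) ⊆ Set.range i := by
      rintro _ ⟨z, rfl⟩
      exact ((genericPoint_specializes z).map (j l).continuous).mem_closed i.isClosedEmbedding.isClosed_range hl
    refine Set.Subset.antisymm ?_ hsub
    obtain ⟨m, hm⟩ := hcov η
    have hsub' : Set.range i ⊆ Set.range (j m) := by
      rintro _ ⟨z, rfl⟩
      exact ((genericPoint_specializes z).map i.continuous).mem_closed (j m).isClosedEmbedding.isClosed_range hm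
    obtain rfl : l = m := by
      by_contra hlm
      exact hne l m hlm (hsub' hl)
    exact hsub'
  have hξ : ξ l = η := by
    have h1 : IsGenericPoint η (Set.range i) := (LeadDev.range_eq_closure i (ξ := η) rfl).symm
    have h2 : IsGenericPoint (ξ l) (Set.range i) :=
      hrange ▸ (LeadDev.range_eq_closure (j l) (ξ := ξ l) rfl).symm
    exact h2.eq h1
  have hother : ∀ m, m ≠ l → ξ m ∉ Set.range i := fun m hm h => hne m l hm (hrange ▸ h)
  by_cases hzI : IsZero I
  · exact hzero G' (hψ.zero ((Coh.push i).map_isZero hzI)) fun m => by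
      simp [LeadDev.support_eq_empty_of_isZero ((Coh.push i).map_isZero hzI), G']
  let φ := (Coh.push i).map ι
  have hC := H10Coh.isCoh_cokernel φ hG'.1 hQ
  have hS : (ShortComplex.mk φ (cokernel.π φ) (cokernel.condition φ)).ShortExact :=
    ShortComplex.ShortExact.mk' (ShortComplex.exact_cokernel φ) inferInstance inferInstance
  obtain ⟨W, hW, hηW, -⟩ := exists_isAffineOpen_mem_and_subset (U := (⊤ : Y.Opens)) (x := η) trivial
  have hCs : CohB1.support (cokernel φ) ⊆ Set.range i :=
    (LeadDev.support_subset_of_epi (cokernel.π φ)).trans (support_push_structure_eq i).le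
  have hηC : η ∉ CohB1.support (cokernel φ) :=
    LeadDev.notMem_support_cokernel φ hG'.1 hQ.1 hW hηW (LeadDev.surjAt_push_map i rfl I ι hI hzI hW hηW)
  have hClen : ∀ m, len (ξ m) (cokernel φ) = 0 := fun m => len_eq_zero fun h => by
    rcases eq_or_ne m l with rfl | hm
    · exact hηC (hξ ▸ h)
    · exact hother m hm (hCs h)
  have hψC : ψ (cokernel φ) = 0 := by
    rw [(ih (cokernel φ) hC hCs hηC).2]
    exact Finset.sum_eq_zero fun m _ => by simp [hClen m]
  have hlenG : ∀ m, len (ξ m) G' = len (ξ m) Q := fun m => by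
    have h := len_add (ξ m) hS
    change len (ξ m) Q = len (ξ m) G' + len (ξ m) (cokernel φ) at h
    rw [h, hClen m, add_zero]
  have hlenQ : ∀ m, len (ξ m) Q = if m = l then 1 else 0 := fun m => by
    rcases eq_or_ne m l with rfl | hm
    · rw [if_pos rfl, hξ]
      exact len_push_structure i
    · rw [if_neg hm]
      exact len_eq_zero fun h => hother m hm ((support_push_structure_eq i).le h)
  have hker : i.ker = (j l).ker := by
    rw [H17.ker_eq_vanishingIdeal i, H17.ker_eq_vanishingIdeal (j l)]
    simp only [show Set.range i = Set.range (j l) from hrange]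
  let eQ : Q ≅ (Coh.push (j l)).obj (Coh.structureModule (C l)) :=
    (quotModKerIso i).symm ≪≫ eqToIso (by rw [hker]) ≪≫ quotModKerIso (j l)
  have hadd := hψ.add _ hS hG' hQ hC
  change ψ Q = ψ G' + ψ (cokernel φ) at hadd
  refine ⟨fun m => by rw [hlenG, hlenQ]; split_ifs <;> simp, ?_⟩
  rw [show ψ G' = E l by
    have h : ψ Q = E l := hψ.congr eQ
    omega]
  rw [Finset.sum_eq_single l (fun m _ hm => by rw [hlenG, hlenQ, if_neg hm]; simp) (by simp)]
  show E l = ((len (ξ l) G').toNat : ℤ) * E l
  rw [hlenG, hlenQ, if_pos rfl, ENat.toNat_one, Nat.cast_one, one_mul]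

end Groth.Agent.H28Vert
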