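import Groth.Agent.H28Vert.FibrePrincipal
import Groth.Agent.H28Vert.Mult
import Groth.Agent.H17.KerStalk
import Groth.Prelude.Def_ModelsG

/-!
# The closed fibre is numerically trivial
-/

set_option autoImplicit false
set_option linter.style.haveILetI false
set_option backward.isDefEq.respectTransparency.types false
universe u

open CategoryTheory CategoryTheory.Limits AlgebraicGeometry Opposite TopologicalSpace

namespace Groth.Agent.H28Vert

open Groth.Agent.H28Int

variable {R : Type u} [CommRing R] [IsDomain R] [IsDiscreteValuationRing R]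
  {X : Over (Spec (CommRingCat.of R))}

/-- The intersection number as a first difference on the closed fibre. -/
theorem inter_eq_D [IsProper X.hom] (Γ : ArSurf.VertComp R X) {L M : X.left.Modules}
    (e : CohB1.tensorMod L M ≅ Coh.structureModule X.left) :
    ArSurf.inter R X L Γ = D (IsLocalRing.ResidueField R)
      [(Scheme.Modules.pullback (pullback.fst X.hom (closedPt R))).obj M]
      ((Coh.push (toFibre Γ)).obj (Coh.structureModule Γ.curve.left)) := by
  let k := IsLocalRing.ResidueField R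
  haveI := isProper_curve Γ
  haveI : IsProper (Γ.curve.left ↘ Spec (CommRingCat.of k)) := inferInstanceAs (IsProper Γ.curve.hom)
  have hLi : PicF.IsInvertible L := H17.InvertibleTensor.isInvertible_of_tensor_iso L _ e
  have hMi : PicF.IsInvertible M :=
    H17.InvertibleTensor.isInvertible_of_tensor_iso _ L (H10Coh.Tw.commIso _ _ ≪≫ e)
  let b := pullback.fst X.hom (closedPt R)
  let j := toFibre Γ
  have hj : j ≫ (pullback X.hom (closedPt R) ↘ Spec (CommRingCat.of k)) =
      Γ.curve.left ↘ Spec (CommRingCat.of k) := pullback.lift_snd _ _ _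
  let F := Scheme.Modules.pullback Γ.ι
  let P' := (Scheme.Modules.pullback j).obj ((Scheme.Modules.pullback b).obj M)
  let eM : F.obj M ≅ P' :=
    eqToIso (by rw [toFibre_fst]) ≪≫ ((Scheme.Modules.pullbackComp j b).app M).symm
  let eP : CohB1.tensorMod (F.obj L) P' ≅ Coh.structureModule _ :=
    PicGrp.tensorModIso (Iso.refl _) eM.symm ≪≫
      ((H16Derived.KFlat.Stalk.pullTensorLIso Γ.ι M).app L).symm ≪≫ F.mapIso e ≪≫
      H16Derived.KFlat.Stalk.structurePullbackIso Γ.ι
  have hP := H11Ample.isInvertible_pullback Γ.ι hLi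
  have hN := H11Ample.isInvertible_pullback b hMi
  have h1 : ArSurf.inter R X L Γ = - D k [F.obj L] (Coh.structureModule Γ.curve.left) :=
    Curves.curveDeg_eq k Γ.dim_eq hP
  rw [h1, D_flip k (l := []) (by simp) hP (H11Ample.isInvertible_pullback j hN) eP Γ.dim_eq.le, neg_neg,
    ← Curves.D_push_affine k j hj hN]

/-- The maximal ideal generates the kernel of the restriction to the closed fibre on stalks. -/
theorem ker_stalkMap_fst (y : ↥(pullback X.hom (closedPt R))) :
    RingHom.ker ((pullback.fst X.hom (closedPt R)).stalkMap y).hom =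
      Ideal.map (Models.stalkHom R X ((pullback.fst X.hom (closedPt R)) y)) (IsLocalRing.maximalIdeal R) := by
  let b := pullback.fst X.hom (closedPt R)
  obtain ⟨ϖ, hirr⟩ := IsDiscreteValuationRing.exists_irreducible R
  obtain ⟨U, hU, hyU, -⟩ := exists_isAffineOpen_mem_and_subset (U := (⊤ : X.left.Opens)) (x := b y) trivial
  rw [H17.ker_stalkMap_eq_map b hU y hyU, ker_fst_app hirr.maximalIdeal_eq hU, Ideal.map_span,
    Set.image_singleton, hirr.maximalIdeal_eq, Ideal.map_span, Set.image_singleton]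
  refine congrArg (fun a => Ideal.span {a}) ?_
  show (X.left.presheaf.germ U (b y) hyU) (baseSect X ϖ U) =
    (X.left.presheaf.germ ⊤ (b y) trivial) (X.hom.appTop ((Scheme.ΓSpecIso (CommRingCat.of R)).inv ϖ))
  rw [baseSect, Scheme.Hom.appLE]
  exact TopCat.Presheaf.germ_res_apply _ _ _ _ _

/-- The multiplicity as a length in the closed fibre. -/
theorem len_structure_eq (y : ↥(pullback X.hom (closedPt R))) :
    len y (Coh.structureModule (pullback X.hom (closedPt R))) =
      Module.length (X.left.presheaf.stalk ((pullback.fst X.hom (closedPt R)) y))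
        (X.left.presheaf.stalk ((pullback.fst X.hom (closedPt R)) y) ⧸
          Ideal.map (Models.stalkHom R X ((pullback.fst X.hom (closedPt R)) y)) (IsLocalRing.maximalIdeal R)) := by
  let Y := pullback X.hom (closedPt R)
  let b := pullback.fst X.hom (closedPt R)
  let B := Y.presheaf.stalk y
  let A := X.left.presheaf.stalk (b y)
  have hgen := H11Ample.isGen_one (⊤ : Y.Opens) y trivial
  let e : B ≃ₗ[B] (DerSch.stalkFunctor Y y).obj (Coh.structureModule Y) :=
    LinearEquiv.ofBijective (LinearMap.toSpanSingleton B _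
      ((Coh.structureModule Y).presheaf.germ ⊤ y trivial (show Γ(Coh.structureModule Y, ⊤) from (1 : Γ(Y, ⊤))))) hgen
  letI : Algebra A B := (b.stalkMap y).hom.toAlgebra
  have hs : Function.Surjective (algebraMap A B) := b.stalkMap_surjective y
  show Module.length B _ = _
  rw [← e.length_eq, ← Module.length_eq_of_surjective (R := B) (S := A) hs]
  have hk : LinearMap.ker (Algebra.linearMap A B) =
      Ideal.map (Models.stalkHom R X (b y)) (IsLocalRing.maximalIdeal R) := by
    rw [← ker_stalkMap_fst y]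
    rfl
  exact ((Submodule.quotEquivOfEq _ _ hk.symm).trans
    (LinearMap.quotKerEquivOfSurjective (Algebra.linearMap A B) hs)).length_eq.symm

theorem exists_mem_range_toFibre {n : ℕ} {Γ : Fin n → ArSurf.VertComp R X} (hΓ : Models.IsComponentList R X Γ)
    (y : ↥(pullback X.hom (closedPt R))) : ∃ l, y ∈ Set.range (toFibre (Γ l)) := by
  let b := pullback.fst X.hom (closedPt R)
  let S := Models.specialFibreSet R X
  have hbS : b y ∈ S := by
    show X.hom (b y) = IsLocalRing.closedPoint R
    rw [← Scheme.Hom.comp_apply, pullback.condition, Scheme.Hom.comp_apply]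
    exact IsLocalRing.PrimeSpectrum.comap_residue R _
  obtain ⟨C, hC, hCle⟩ := exists_mem_irreducibleComponents_subset_of_isIrreducible ({⟨b y, hbS⟩} : Set S)
    isIrreducible_singleton
  have hmax : Subtype.val '' C ∈ Models.fibreComponents R X := by
    refine ⟨⟨hC.1.image _ continuous_subtype_val.continuousOn, by rintro _ ⟨a, -, rfl⟩; exact a.2⟩, ?_⟩
    rintro T ⟨hT, hTS⟩ hCT x hx
    have hirr : IsIrreducible (Subtype.val ⁻¹' T : Set S) := by
      refine ⟨⟨⟨x, hTS hx⟩, hx⟩, ?_⟩
      rintro _ _ ⟨u, hu, rfl⟩ ⟨v, hv, rfl⟩ ⟨a, ha, hau⟩ ⟨c, hc, hcv⟩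
      obtain ⟨d, hd, hdu, hdv⟩ := hT.2 u v hu hv ⟨a, ha, hau⟩ ⟨c, hc, hcv⟩
      exact ⟨⟨d, hTS hd⟩, hd, hdu, hdv⟩
    exact ⟨⟨x, hTS hx⟩, hC.2 hirr (fun a ha => hCT ⟨a, ha, rfl⟩) hx, rfl⟩
  obtain ⟨l, hl⟩ := hΓ.2 ▸ hmax
  obtain ⟨z, hz⟩ : b y ∈ Set.range (Γ l).ι := hl.ge ⟨_, hCle rfl, rfl⟩
  refine ⟨l, z, b.isClosedEmbedding.injective ?_⟩
  rw [← Scheme.Hom.comp_apply, show toFibre (Γ l) ≫ b = (Γ l).ι from toFibre_fst _]
  exact hz

theorem genPt_notMem_range {n : ℕ} {Γ : Fin n → ArSurf.VertComp R X} (hΓ : Models.IsComponentList R X Γ)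
    {i j : Fin n} (hij : i ≠ j) :
    (Γ i).ι.base (genericPoint ↥(Γ i).curve.left) ∉ Set.range (Γ j).ι.base := by
  intro h
  have hsub : Set.range (Γ i).ι.base ⊆ Set.range (Γ j).ι.base := by
    rintro _ ⟨z, rfl⟩
    exact ((genericPoint_specializes z).map (Γ i).ι.continuous).mem_closed
      (Γ j).ι.isClosedEmbedding.isClosed_range h
  have hmax : ∀ l, Set.range ((Γ l).ι.base : (Γ l).curve.left → X.left) ∈ Models.fibreComponents R X :=
    fun l => hΓ.2 ▸ ⟨l, rfl⟩
  exact hij (hΓ.1 (Set.Subset.antisymm hsub ((hmax i).2 (hmax j).1 hsub)))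

theorem sum_mult_inter [IsProper X.hom] [Flat X.hom] {n : ℕ} (Γ : Fin n → ArSurf.VertComp R X)
    (hΓ : Models.IsComponentList R X Γ) (i : Fin n) {L : X.left.Modules}
    (hL : ClSub.IsInverseOf L (ClSub.idealMod (Γ i).ι.ker)) :
    ∑ j, (Models.mult R X (Γ j) : ℤ) * ArSurf.inter R X L (Γ j) = 0 := by
  let k := IsLocalRing.ResidueField R
  let Y := pullback X.hom (closedPt R)
  let b := pullback.fst X.hom (closedPt R)
  haveI := isNoetherian k (X := Y)
  obtain ⟨e⟩ := hL
  let J := ClSub.idealMod (Γ i).ι.ker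
  have hJ : PicF.IsInvertible J :=
    H17.InvertibleTensor.isInvertible_of_tensor_iso _ L (H10Coh.Tw.commIso _ _ ≪≫ e)
  let N := (Scheme.Modules.pullback b).obj J
  have hN : ∀ A ∈ [N], PicF.IsInvertible A := by simpa using H11Ample.isInvertible_pullback b hJ
  have h0 : ∀ F, Coh.IsCoh F → topologicalKrullDim (CohB1.support F) < ((1 : ℕ) : WithBot ℕ∞) →
      D k [N] F = 0 := fun F hF hd => D_eq_zero k [N] hN F hF hd
  have hmain := eq_sum_len (fun l => toFibre (Γ l)) (fun l => (Γ l).dim_eq) (exists_mem_range_toFibre hΓ)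
    (fun l m hlm h => by
      obtain ⟨z, hz⟩ := h
      refine genPt_notMem_range hΓ hlm ⟨z, ?_⟩
      rw [← toFibre_fst (Γ l), ← toFibre_fst (Γ m)]
      exact congrArg b hz)
    (isAddFn_D k [N] hN) h0 (Coh.structureModule Y) (H10Coh.isCoh_structureModule' Y)
  have hO : D k [N] (Coh.structureModule Y) = 0 := by
    show Curv2.euler k Y (Coh.structureModule Y) - Curv2.euler k Y (CohB1.tensorMod N (Coh.structureModule Y)) = 0
    rw [H25Euler.euler_congr (H10Coh.Tw.rightUnitIso N), euler_pullback_ideal (Γ i) hJ, sub_self]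
  rw [hO] at hmain
  refine (Finset.sum_congr rfl fun l _ => ?_).trans hmain.symm
  refine congrArg₂ (fun (a : ℕ) (c : ℤ) => (a : ℤ) * c) ?_ (inter_eq_D (Γ l) e)
  rw [len_structure_eq]
  have hpt : b ((toFibre (Γ l)) (genericPoint (Γ l).curve.left)) = Models.genPtOf R X (Γ l) := by
    show (toFibre (Γ l) ≫ b) _ = _
    rw [show toFibre (Γ l) ≫ b = (Γ l).ι from toFibre_fst _]
    rfl
  unfold Models.mult
  rw [← hpt]

end Groth.Agent.H28Vert
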