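import Groth.Prelude.Def_ModelsG
import Groth.Agent.H28Vert.Mult
import Groth.Agent.H28Vert.ClosedFibre
import Groth.Agent.H28Alg.RegularUFD
import Groth.Agent.H29Blow.OfStalk
import Groth.Agent.S1684
import Mathlib.RingTheory.DiscreteValuationRing.Basic

/-!
# Components of the closed fibre of a regular model as effective Cartier divisors
-/

set_option autoImplicit false

universe u

open CategoryTheory Limits AlgebraicGeometry TopologicalSpace

namespace Groth.Agent.H28Vert

/-- In a factorial domain two non-zero elements with the same prime power divisors are associated. -/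
theorem dvd_of_forall_prime_pow {A : Type u} [CommRing A] [IsDomain A] [UniqueFactorizationMonoid A]
    {f : A} (hf : f ≠ 0) : ∀ g : A, (∀ q, Prime q → ∀ k : ℕ, q ^ k ∣ f → q ^ k ∣ g) → f ∣ g := by
  induction f using UniqueFactorizationMonoid.induction_on_prime with
  | h₁ => exact absurd rfl hf
  | h₂ x hx => exact fun g _ => hx.dvd
  | h₃ a p ha hp ih =>
    intro g hg
    obtain ⟨c, rfl⟩ : p ∣ g := by simpa using hg p hp 1 (by simp)
    refine mul_dvd_mul_left p (ih ha c fun q hq k hk => ?_)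
    by_cases hqp : Associated q p
    · have h1 : q ^ (k + 1) ∣ p * c := hg q hq (k + 1) (by
        rw [pow_succ']; exact mul_dvd_mul hqp.dvd hk)
      rw [pow_succ'] at h1
      exact (mul_dvd_mul_iff_left hq.ne_zero).1 (h1.trans (mul_dvd_mul_right hqp.symm.dvd c))
    · have h1 : q ^ k ∣ p * c := hg q hq k (hk.mul_left p)
      refine hq.pow_dvd_of_dvd_mul_left k (fun hd => hqp ?_) h1
      exact hq.associated_of_dvd hp hd

theorem associated_of_forall_prime_pow {A : Type u} [CommRing A] [IsDomain A] [UniqueFactorizationMonoid A]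
    {f g : A} (hf : f ≠ 0) (hg : g ≠ 0) (h : ∀ q, Prime q → ∀ k : ℕ, q ^ k ∣ f ↔ q ^ k ∣ g) :
    Associated f g :=
  associated_of_dvd_dvd (dvd_of_forall_prime_pow hf g fun q hq k => (h q hq k).1)
    (dvd_of_forall_prime_pow hg f fun q hq k => (h q hq k).2)

section Ext

variable {X : Scheme.{u}} [IsLocallyNoetherian X]

/-- The stalk at `x` of an ideal sheaf, computed in an affine open. -/
noncomputable abbrev stalkId (I : X.IdealSheafData) (V : X.affineOpens) {x : X} (hx : x ∈ V.1) : Ideal (X.presheaf.stalk x) :=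
  (I.ideal V).map (X.presheaf.germ V.1 x hx).hom

theorem le_of_stalk (I J : X.IdealSheafData)
    (h : ∀ (x : X) (V : X.affineOpens) (hx : x ∈ V.1), stalkId I V hx ≤ stalkId J V hx) : I ≤ J := by
  intro V b hb
  by_contra hbJ
  have hne : (J.ideal V).colon {b} ≠ ⊤ := fun htop => hbJ <| by
    have h1 := Submodule.mem_colon_singleton.1 (htop.symm ▸ Submodule.mem_top : (1 : Γ(X, V.1)) ∈ (J.ideal V).colon {b})
    simpa using h1
  obtain ⟨P, hP, hle⟩ := Ideal.exists_le_maximal _ hne
  let q : PrimeSpectrum Γ(X, V.1) := ⟨P, hP.isPrime⟩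
  have hxV : V.2.fromSpec q ∈ V.1 := by
    have h1 : V.2.fromSpec q ∈ Set.range V.2.fromSpec := ⟨q, rfl⟩
    rwa [V.2.range_fromSpec] at h1
  letI := (X.presheaf.germ V.1 (V.2.fromSpec q) hxV).hom.toAlgebra
  haveI : IsLocalization.AtPrime (X.presheaf.stalk (V.2.fromSpec q)) q.asIdeal :=
    V.2.isLocalization_stalk' q hxV
  obtain ⟨s, hs, hsb⟩ := (IsLocalization.algebraMap_mem_map_algebraMap_iff q.asIdeal.primeCompl
    (X.presheaf.stalk (V.2.fromSpec q)) (J.ideal V) b).1 (h _ V hxV (Ideal.mem_map_of_mem _ hb))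
  exact hs (hle (Submodule.mem_colon_singleton.2 hsb))

/-- Two effective Cartier ideals on a scheme with factorial stalks agreeing in codimension one agree. -/
theorem ext_of_height_one (hufd : ∀ x : X, IsDomain (X.presheaf.stalk x) ∧ UniqueFactorizationMonoid (X.presheaf.stalk x))
    (I J : X.IdealSheafData)
    (hI : ∀ (x : X) (V : X.affineOpens) (hx : x ∈ V.1), ∃ g ≠ 0, stalkId I V hx = Ideal.span {g})
    (hJ : ∀ (x : X) (V : X.affineOpens) (hx : x ∈ V.1), ∃ g ≠ 0, stalkId J V hx = Ideal.span {g})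
    (h : ∀ (y : X) (V : X.affineOpens) (hy : y ∈ V.1), ringKrullDim (X.presheaf.stalk y) = 1 →
      stalkId I V hy = stalkId J V hy) : I = J := by
  suffices ∀ (x : X) (V : X.affineOpens) (hx : x ∈ V.1), stalkId I V hx = stalkId J V hx from
    le_antisymm (le_of_stalk I J fun x V hx => (this x V hx).le)
      (le_of_stalk J I fun x V hx => (this x V hx).ge)
  intro x V hx
  obtain ⟨hd, hu⟩ := hufd x
  obtain ⟨f, hf0, hf⟩ := hI x V hx
  obtain ⟨g, hg0, hg⟩ := hJ x V hx
  rw [hf, hg, Ideal.span_singleton_eq_span_singleton]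
  refine associated_of_forall_prime_pow hf0 hg0 fun q hq k => ?_
  haveI : IsNoetherianRing Γ(X, V.1) := IsLocallyNoetherian.component_noetherian V
  letI := TopCat.Presheaf.algebra_section_stalk X.presheaf (⟨x, hx⟩ : V.1)
  haveI hloc := V.2.isLocalization_stalk ⟨x, hx⟩
  haveI : IsNoetherianRing (X.presheaf.stalk x) :=
    IsLocalization.isNoetherianRing (V.2.primeIdealOf ⟨x, hx⟩).asIdeal.primeCompl _ inferInstance
  haveI hqP : (Ideal.span {q}).IsPrime := (Ideal.span_singleton_prime hq.ne_zero).2 hq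
  let Q : Ideal Γ(X, V.1) := (Ideal.span {q}).under Γ(X, V.1)
  have hQh : Q.height = 1 := by
    rw [IsLocalization.height_under (V.2.primeIdealOf ⟨x, hx⟩).asIdeal.primeCompl]
    exact Ideal.height_span_singleton_eq_one_of_mem_nonZeroDivisors
      (mem_nonZeroDivisors_of_ne_zero hq.ne_zero) hq.not_unit
  let z : PrimeSpectrum Γ(X, V.1) := ⟨Q, inferInstance⟩
  have hyV : V.2.fromSpec z ∈ V.1 := by
    have h1 : V.2.fromSpec z ∈ Set.range V.2.fromSpec := ⟨z, rfl⟩
    rwa [V.2.range_fromSpec] at h1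
  letI := (X.presheaf.germ V.1 (V.2.fromSpec z) hyV).hom.toAlgebra
  haveI : IsLocalization.AtPrime (X.presheaf.stalk (V.2.fromSpec z)) z.asIdeal :=
    V.2.isLocalization_stalk' z hyV
  have hdim : ringKrullDim (X.presheaf.stalk (V.2.fromSpec z)) = 1 := by
    rw [IsLocalization.AtPrime.ringKrullDim_eq_height z.asIdeal, show z.asIdeal.height = 1 from hQh]
    rfl
  have heq := h (V.2.fromSpec z) V hyV hdim
  have key : ∀ (K L : X.IdealSheafData), stalkId L V hyV ≤ stalkId K V hyV →
      stalkId K V hx ≤ Ideal.span {q ^ k} → stalkId L V hx ≤ Ideal.span {q ^ k} := by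
    intro K L hKL hK
    refine Ideal.map_le_iff_le_comap.2 fun b hb => ?_
    obtain ⟨s, hs, hsb⟩ := (IsLocalization.algebraMap_mem_map_algebraMap_iff z.asIdeal.primeCompl
      (X.presheaf.stalk (V.2.fromSpec z)) (K.ideal V) b).1 (hKL (Ideal.mem_map_of_mem _ hb))
    have h1 : q ^ k ∣ (X.presheaf.germ V.1 x hx).hom s * (X.presheaf.germ V.1 x hx).hom b := by
      rw [← map_mul]
      exact Ideal.mem_span_singleton.1 (hK (Ideal.mem_map_of_mem _ hsb))
    exact Ideal.mem_span_singleton.2 (hq.pow_dvd_of_dvd_mul_left k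
      (fun hd => hs (Ideal.mem_span_singleton.2 hd)) h1)
  constructor
  · intro hk
    have h1 := key I J heq.ge (by rw [hf]; exact Ideal.span_singleton_le_span_singleton.2 hk)
    rw [hg] at h1
    exact Ideal.span_singleton_le_span_singleton.1 h1
  · intro hk
    have h1 := key J I heq.le (by rw [hg]; exact Ideal.span_singleton_le_span_singleton.2 hk)
    rw [hf] at h1
    exact Ideal.span_singleton_le_span_singleton.1 h1

end Ext

section StalkId

variable {X : Scheme.{u}}

theorem stalkId_of_le (I : X.IdealSheafData) {U V : X.affineOpens} (h : U.1 ≤ V.1) {x : X} (hx : x ∈ U.1) :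
    stalkId I U hx = stalkId I V (h hx) := by
  rw [stalkId, stalkId, ← I.map_ideal (U := U) (V := V) h, Ideal.map_map]
  refine congrArg (fun φ => Ideal.map φ (I.ideal V)) ?_
  rw [← CommRingCat.hom_comp]
  exact congrArg CommRingCat.Hom.hom (X.presheaf.germ_res (homOfLE h) x hx)

theorem stalkId_congr (I : X.IdealSheafData) (U V : X.affineOpens) {x : X} (hx : x ∈ U.1) (hx' : x ∈ V.1) :
    stalkId I U hx = stalkId I V hx' := by
  obtain ⟨W, hW, hxW, hWle⟩ := exists_isAffineOpen_mem_and_subset (U := U.1 ⊓ V.1) (x := x) ⟨hx, hx'⟩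
  rw [← stalkId_of_le I (U := ⟨W, hW⟩) (V := U) (le_inf_iff.1 hWle).1 hxW,
    stalkId_of_le I (U := ⟨W, hW⟩) (V := V) (le_inf_iff.1 hWle).2 hxW]

theorem stalkId_prod {ι : Type*} (s : Finset ι) (I : ι → X.IdealSheafData) (e : ι → ℕ) (V : X.affineOpens) {x : X}
    (hx : x ∈ V.1) :
    stalkId (∏ i ∈ s, I i ^ e i) V hx = ∏ i ∈ s, stalkId (I i) V hx ^ e i := by
  classical
  induction s using Finset.induction with
  | empty =>
    show Ideal.map _ ((⊤ : X.IdealSheafData).ideal V) = _
    rw [Finset.prod_empty, Ideal.one_eq_top, Scheme.IdealSheafData.ideal_top, Pi.top_apply, Ideal.map_top]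
  | insert a s ha ih =>
    rw [Finset.prod_insert ha, Finset.prod_insert ha, ← ih]
    simp only [stalkId, Scheme.IdealSheafData.ideal_mul, Scheme.IdealSheafData.ideal_pow, Pi.mul_apply,
      Pi.pow_apply, Ideal.map_mul, Ideal.map_pow]

theorem exists_gen_of_isEffCartierIdeal {I : X.IdealSheafData} (hI : BlowUp.IsEffCartierIdeal I)
    [∀ x : X, IsDomain (X.presheaf.stalk x)] (x : X) (V : X.affineOpens) (hx : x ∈ V.1) :
    ∃ g ≠ 0, stalkId I V hx = Ideal.span {g} := by
  obtain ⟨U, hxU, f, hf, hfI⟩ := hI x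
  refine ⟨(X.presheaf.germ U.1 x hxU).hom f, ?_, ?_⟩
  · letI := TopCat.Presheaf.algebra_section_stalk X.presheaf (⟨x, hxU⟩ : U.1)
    haveI := U.2.isLocalization_stalk ⟨x, hxU⟩
    exact nonZeroDivisors.ne_zero (IsLocalization.map_nonZeroDivisors_le (U.2.primeIdealOf ⟨x, hxU⟩).asIdeal.primeCompl
      (X.presheaf.stalk x) ⟨f, hf, rfl⟩)
  · rw [stalkId_congr I V U hx hxU, stalkId, hfI, Ideal.map_span, Set.image_singleton]

end StalkId

section Fibre

variable {R : Type u} [CommRing R] [IsDomain R] [IsDiscreteValuationRing R]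
  {X : Over (Spec (CommRingCat.of R))}

theorem germ_appLE_top (V : X.left.Opens) {x : X.left} (hx : x ∈ V) (a : Γ(Spec (CommRingCat.of R), ⊤)) :
    (X.left.presheaf.germ V x hx).hom ((X.hom.appLE ⊤ V le_top).hom a) =
      (X.left.presheaf.germ ⊤ x trivial).hom (X.hom.appTop.hom a) := by
  unfold Scheme.Hom.appLE
  exact TopCat.Presheaf.germ_res_apply _ _ _ _ _

theorem specialFibreIdeal_stalk (V : X.left.affineOpens) {x : X.left} (hx : x ∈ V.1) :
    stalkId (Models.specialFibreIdeal R X) V hx =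
      Ideal.map (Models.stalkHom R X x) (IsLocalRing.maximalIdeal R) := by
  let S := Spec (CommRingCat.of R)
  have h : (Curv2.idealSheaf R (IsLocalRing.maximalIdeal R)).ideal ⟨⊤, isAffineOpen_top S⟩ =
      (IsLocalRing.maximalIdeal R).map (Scheme.ΓSpecIso (CommRingCat.of R)).inv.hom := by
    show Ideal.map (S.presheaf.map (homOfLE le_top).op).hom _ = _
    rw [show (homOfLE (le_top : (⊤ : S.Opens) ≤ ⊤)).op = 𝟙 _ from rfl, CategoryTheory.Functor.map_id,
      CommRingCat.hom_id, Ideal.map_id]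
  rw [stalkId, Models.specialFibreIdeal, H29Blow.ideal_comap _ X.hom ⟨⊤, isAffineOpen_top S⟩ V le_top, h,
    Ideal.map_map, Ideal.map_map]
  refine congrArg (fun φ => Ideal.map φ (IsLocalRing.maximalIdeal R)) (RingHom.ext fun r => ?_)
  show (X.left.presheaf.germ V.1 x hx) (X.hom.appLE ⊤ V.1 le_top _) =
    (X.left.presheaf.germ ⊤ x trivial) (X.hom.appTop ((Scheme.ΓSpecIso (CommRingCat.of R)).inv r))
  exact germ_appLE_top V.1 hx _

theorem notMem_specialFibreSet_iff {ϖ : R} (hϖ : Irreducible ϖ) (x : X.left) :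
    x ∉ Models.specialFibreSet R X ↔ IsUnit (Models.stalkHom R X x ϖ) := by
  let S := Spec (CommRingCat.of R)
  have h1 : IsUnit (Models.stalkHom R X x ϖ) ↔
      x ∈ X.left.basicOpen (X.hom.appTop ((Scheme.ΓSpecIso (CommRingCat.of R)).inv ϖ)) :=
    (X.left.mem_basicOpen (U := ⊤) _ x trivial).symm
  rw [h1, ← Scheme.preimage_basicOpen_top X.hom, AlgebraicGeometry.basicOpen_eq_of_affine]
  show ¬ X.hom x = IsLocalRing.closedPoint R ↔ ϖ ∉ (X.hom x).asIdeal
  refine not_congr ⟨fun h => ?_, fun h => ?_⟩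
  · rw [h]
    exact hϖ.not_isUnit
  · have hle : IsLocalRing.maximalIdeal R ≤ (X.hom x).asIdeal := by
      rw [hϖ.maximalIdeal_eq]
      exact (Ideal.span_singleton_le_iff_mem _).2 h
    exact PrimeSpectrum.ext ((IsLocalRing.maximalIdeal.isMaximal R).eq_of_le (X.hom x).isPrime.ne_top hle).symm

variable [IsLocallyNoetherian X.left]

theorem ufd_stalk (hreg : Models.IsRegularScheme X.left) (x : X.left) :
    IsDomain (X.left.presheaf.stalk x) ∧ UniqueFactorizationMonoid (X.left.presheaf.stalk x) := by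
  haveI := hreg x
  haveI := H4Depth.isDomain_of_isRegularLocalRing (X.left.presheaf.stalk x)
  exact ⟨inferInstance, H28Alg.ufd_of_regular _⟩

variable [Flat X.hom]

theorem stalkHom_ne_zero {ϖ : R} (hϖ : ϖ ≠ 0) (x : X.left) : Models.stalkHom R X x ϖ ≠ 0 := by
  intro h0
  obtain ⟨V, hV, hxV, -⟩ := exists_isAffineOpen_mem_and_subset (U := (⊤ : X.left.Opens)) (x := x) trivial
  letI := TopCat.Presheaf.algebra_section_stalk X.left.presheaf (⟨x, hxV⟩ : V)
  haveI := hV.isLocalization_stalk ⟨x, hxV⟩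
  have h1 : (X.left.presheaf.germ V x hxV) (baseSect X ϖ V) = 0 := by
    refine Eq.trans ?_ h0
    show _ = (X.left.presheaf.germ ⊤ x trivial) (X.hom.appTop ((Scheme.ΓSpecIso (CommRingCat.of R)).inv ϖ))
    exact germ_appLE_top V hxV _
  obtain ⟨m, hm⟩ := (IsLocalization.map_eq_zero_iff (hV.primeIdealOf ⟨x, hxV⟩).asIdeal.primeCompl
    (X.left.presheaf.stalk x) _).1 h1
  have h2 : (m : Γ(X.left, V)) = 0 := baseSect_mul_cancel hϖ hV (by rw [mul_zero, mul_comm]; exact hm)
  exact m.2 (h2 ▸ Ideal.zero_mem _)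

variable {n : ℕ} {Γ : Fin n → ArSurf.VertComp R X}

/-- The generic point of a component has a one dimensional local ring. -/
theorem dim_stalk_genPt (hreg : Models.IsRegularScheme X.left) (hΓ : Models.IsComponentList R X Γ) (i : Fin n) :
    ringKrullDim (X.left.presheaf.stalk (Models.genPtOf R X (Γ i))) = 1 := by
  obtain ⟨ϖ, hϖ⟩ := IsDiscreteValuationRing.exists_irreducible R
  let ξ := Models.genPtOf R X (Γ i)
  let A := X.left.presheaf.stalk ξ
  haveI := (ufd_stalk hreg ξ).1
  obtain ⟨V, hV, hξV, -⟩ := exists_isAffineOpen_mem_and_subset (U := (⊤ : X.left.Opens)) (x := ξ) trivial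
  letI := TopCat.Presheaf.algebra_section_stalk X.left.presheaf (⟨ξ, hξV⟩ : V)
  haveI hloc := hV.isLocalization_stalk ⟨ξ, hξV⟩
  haveI : IsNoetherianRing A := (hreg ξ).toIsNoetherian
  have hmax : Set.range (Γ i).ι.base ∈ Models.fibreComponents R X := hΓ.2 ▸ ⟨i, rfl⟩
  have hξs : ξ ∈ Models.specialFibreSet R X := hmax.1.2 ⟨_, rfl⟩
  have hu : ¬ IsUnit (Models.stalkHom R X ξ ϖ) := fun h => (notMem_specialFibreSet_iff hϖ ξ).2 h hξs
  have hmin : IsLocalRing.maximalIdeal A ∈ (Ideal.span {Models.stalkHom R X ξ ϖ}).minimalPrimes := by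
    refine ⟨⟨inferInstance, (Ideal.span_singleton_le_iff_mem _).2 hu⟩, ?_⟩
    rintro Q ⟨hQ, hQϖ⟩ -
    let z : PrimeSpectrum Γ(X.left, V) := ⟨Q.under Γ(X.left, V), inferInstance⟩
    have hzle : z.asIdeal ≤ (hV.primeIdealOf ⟨ξ, hξV⟩).asIdeal := by
      rw [← IsLocalization.AtPrime.under_maximalIdeal A (hV.primeIdealOf ⟨ξ, hξV⟩).asIdeal]
      exact Ideal.comap_mono (IsLocalRing.le_maximalIdeal hQ.ne_top)
    have hsp : hV.fromSpec z ⤳ ξ := by
      have h1 := ((PrimeSpectrum.le_iff_specializes z (hV.primeIdealOf ⟨ξ, hξV⟩)).1 hzle).map hV.fromSpec.continuous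
      rwa [hV.fromSpec_primeIdealOf] at h1
    have hzV : hV.fromSpec z ∈ V := by
      have h1 : hV.fromSpec z ∈ Set.range hV.fromSpec := ⟨z, rfl⟩
      rwa [hV.range_fromSpec] at h1
    have hzs : hV.fromSpec z ∈ Models.specialFibreSet R X := by
      by_contra hzs
      have h2 := (notMem_specialFibreSet_iff hϖ _).1 hzs
      letI := (X.left.presheaf.germ V (hV.fromSpec z) hzV).hom.toAlgebra
      haveI : IsLocalization.AtPrime (X.left.presheaf.stalk (hV.fromSpec z)) z.asIdeal :=
        hV.isLocalization_stalk' z hzV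
      have h3 : ∀ (w : X.left) (hw : w ∈ V),
          (X.left.presheaf.germ V w hw) (baseSect X ϖ V) = Models.stalkHom R X w ϖ := fun w hw => by
        show _ = (X.left.presheaf.germ ⊤ w trivial) (X.hom.appTop ((Scheme.ΓSpecIso (CommRingCat.of R)).inv ϖ))
        exact germ_appLE_top V hw _
      rw [← h3 _ hzV] at h2
      refine (IsLocalization.AtPrime.isUnit_to_map_iff (X.left.presheaf.stalk (hV.fromSpec z)) z.asIdeal _).1 h2 ?_
      show algebraMap Γ(X.left, V) A (baseSect X ϖ V) ∈ Q
      exact (h3 ξ hξV).symm ▸ hQϖ (Ideal.mem_span_singleton_self _)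
    have heq : hV.fromSpec z = ξ := by
      have hsub : Set.range (Γ i).ι.base ⊆ closure {hV.fromSpec z} := by
        rintro _ ⟨w, rfl⟩
        exact (hsp.trans ((genericPoint_specializes w).map (Γ i).ι.continuous)).mem_closure
      have hle := hmax.2 ⟨isIrreducible_singleton.closure,
        closure_minimal (Set.singleton_subset_iff.2 hzs) (Models.isClosed_specialFibreSet R X)⟩ hsub
      obtain ⟨w, hw⟩ := hle (subset_closure rfl)
      have h4 : ξ ⤳ hV.fromSpec z := hw ▸ (genericPoint_specializes w).map (Γ i).ι.continuous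
      exact (hsp.antisymm h4).eq
    have hz : z = hV.primeIdealOf ⟨ξ, hξV⟩ :=
      hV.fromSpec.isOpenEmbedding.injective (heq.trans (hV.fromSpec_primeIdealOf ⟨ξ, hξV⟩).symm)
    rw [← IsLocalization.map_under (hV.primeIdealOf ⟨ξ, hξV⟩).asIdeal.primeCompl A (IsLocalRing.maximalIdeal A),
      ← IsLocalization.map_under (hV.primeIdealOf ⟨ξ, hξV⟩).asIdeal.primeCompl A Q,
      IsLocalization.AtPrime.under_maximalIdeal A (hV.primeIdealOf ⟨ξ, hξV⟩).asIdeal]
    exact Ideal.map_mono (congrArg PrimeSpectrum.asIdeal hz).ge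
  rw [← IsLocalRing.maximalIdeal_height_eq_ringKrullDim]
  refine le_antisymm (WithBot.coe_le_coe.2
    (Ideal.height_le_one_of_isPrincipal_of_mem_minimalPrimes _ _ hmin)) (WithBot.coe_le_coe.2 ?_)
  rw [← Ideal.height_span_singleton_eq_one_of_mem_nonZeroDivisors
    (mem_nonZeroDivisors_of_ne_zero (stalkHom_ne_zero hϖ.ne_zero ξ)) hu]
  exact Ideal.height_mono ((Ideal.span_singleton_le_iff_mem _).2 hu)

theorem isEffCartierIdeal_ker (hreg : Models.IsRegularScheme X.left) (hΓ : Models.IsComponentList R X Γ)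
    (i : Fin n) : BlowUp.IsEffCartierIdeal (Γ i).ι.ker := by
  let j := (Γ i).ι
  haveI : IsIso j.toImage := inferInstance
  haveI : Nonempty j.ker.subscheme := ⟨j.toImage (genericPoint (Γ i).curve.left)⟩
  haveI : IsIntegral j.ker.subscheme := isIntegral_of_isOpenImmersion (inv j.toImage)
  refine S1684.result X.left j.ker ?_ fun x _ => ufd_stalk hreg x
  have h : j.ker.subschemeι (genericPoint ↥j.ker.subscheme) = Models.genPtOf R X (Γ i) := by
    have h1 : j.toImage (genericPoint (Γ i).curve.left) = genericPoint ↥j.ker.subscheme := by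
      obtain ⟨w, hw⟩ := j.toImage.homeomorph.surjective (genericPoint ↥j.ker.subscheme)
      exact (((genericPoint_specializes w).map j.toImage.continuous).antisymm
        (hw ▸ genericPoint_specializes (j.toImage (genericPoint (Γ i).curve.left)))).eq.trans hw
    rw [← h1, ← Scheme.Hom.comp_apply, Scheme.Hom.toImage_imageι]
    rfl
  rw [h]
  exact dim_stalk_genPt hreg hΓ i

theorem stalkId_ker_genPt (i : Fin n) (V : X.left.affineOpens) (hx : Models.genPtOf R X (Γ i) ∈ V.1) :
    stalkId (Γ i).ι.ker V hx = IsLocalRing.maximalIdeal _ := by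
  let j := (Γ i).ι
  let η := genericPoint (Γ i).curve.left
  rw [stalkId, Scheme.Hom.ker_apply]
  refine (H17.ker_stalkMap_eq_map j V.2 η hx).symm.trans (IsLocalRing.eq_maximalIdeal ?_)
  letI : Field ((Γ i).curve.left.presheaf.stalk η) :=
    inferInstanceAs (Field (Γ i).curve.left.functionField)
  exact RingHom.ker_isMaximal_of_surjective (j.stalkMap η).hom (j.stalkMap_surjective η)

/-- The closed fibre of a regular model is the sum of its components with their multiplicities. -/
theorem specialFibreIdeal_eq_prod (hreg : Models.IsRegularScheme X.left) (hΓ : Models.IsComponentList R X Γ) :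
    Models.specialFibreIdeal R X = ∏ i, (Γ i).ι.ker ^ Models.mult R X (Γ i) := by
  classical
  obtain ⟨ϖ, hϖ⟩ := IsDiscreteValuationRing.exists_irreducible R
  have hdom : ∀ x : X.left, IsDomain (X.left.presheaf.stalk x) := fun x => (ufd_stalk hreg x).1
  have hsp : ∀ (x : X.left) (V : X.left.affineOpens) (hx : x ∈ V.1),
      stalkId (Models.specialFibreIdeal R X) V hx = Ideal.span {Models.stalkHom R X x ϖ} := fun x V hx => by
    rw [specialFibreIdeal_stalk V hx, hϖ.maximalIdeal_eq, Ideal.map_span, Set.image_singleton]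
  refine ext_of_height_one (ufd_stalk hreg) _ _
    (fun x V hx => ⟨_, stalkHom_ne_zero hϖ.ne_zero x, hsp x V hx⟩) (fun x V hx => ?_) fun y V hy hdim => ?_
  · choose g hg0 hg using fun i => exists_gen_of_isEffCartierIdeal (isEffCartierIdeal_ker hreg hΓ i) x V hx
    refine ⟨∏ i, g i ^ Models.mult R X (Γ i), Finset.prod_ne_zero_iff.2 fun i _ => pow_ne_zero _ (hg0 i), ?_⟩
    rw [stalkId_prod Finset.univ, ← Ideal.prod_span_singleton]
    exact Finset.prod_congr rfl fun i _ => by rw [hg i, Ideal.span_singleton_pow]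
  · rw [hsp y V hy, stalkId_prod Finset.univ]
    have htop : ∀ i, y ∉ Set.range (Γ i).ι.base → stalkId (Γ i).ι.ker V hy = 1 := fun i h => by
      rw [Ideal.one_eq_top]
      refine H29Blow.map_germ_eq_top_of_notMem_support _ y V hy fun h' => h ?_
      exact ((Γ i).ι.support_ker.trans (Γ i).ι.isClosedEmbedding.isClosed_range.closure_eq).subset h'
    by_cases hys : y ∈ Models.specialFibreSet R X
    · obtain ⟨l, hl⟩ : ∃ l, y ∈ Set.range (Γ l).ι.base := by
        obtain ⟨z, hz⟩ : y ∈ Set.range (pullback.fst X.hom (closedPt R)) := by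
          rw [Scheme.Pullback.range_fst]
          exact ⟨IsLocalRing.closedPoint _, (IsLocalRing.PrimeSpectrum.comap_residue R _).trans
            (show X.hom y = IsLocalRing.closedPoint R from hys).symm⟩
        obtain ⟨l, w, hw⟩ := exists_mem_range_toFibre hΓ z
        refine ⟨l, w, ?_⟩
        rw [← hz, ← hw, ← Scheme.Hom.comp_apply, show toFibre (Γ l) ≫ pullback.fst X.hom (closedPt R) = _ from
          toFibre_fst _]
      have hy0 : y = Models.genPtOf R X (Γ l) := by
        obtain ⟨w, hw⟩ := hl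
        have hsp' : Models.genPtOf R X (Γ l) ⤳ y := hw ▸ (genericPoint_specializes w).map (Γ l).ι.continuous
        letI := TopCat.Presheaf.algebra_section_stalk X.left.presheaf (⟨y, hy⟩ : V.1)
        haveI := V.2.isLocalization_stalk ⟨y, hy⟩
        have hmV : Models.genPtOf R X (Γ l) ∈ V.1 := hsp'.mem_open V.1.2 hy
        have hle : (V.2.primeIdealOf ⟨_, hmV⟩).asIdeal ≤ (V.2.primeIdealOf ⟨y, hy⟩).asIdeal := by
          refine (PrimeSpectrum.le_iff_specializes _ _).2 ((@Scheme.Hom.isOpenEmbedding _ _ V.2.fromSpec V.2.isOpenImmersion_fromSpec).isInducing.specializes_iff.1 ?_)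
          rwa [V.2.fromSpec_primeIdealOf, V.2.fromSpec_primeIdealOf]
        have h1 : (V.2.primeIdealOf ⟨y, hy⟩).asIdeal.height = 1 := by
          have h2 := IsLocalization.AtPrime.ringKrullDim_eq_height (V.2.primeIdealOf ⟨y, hy⟩).asIdeal
            (X.left.presheaf.stalk y)
          rw [hdim] at h2
          exact (WithBot.coe_eq_coe.1 h2).symm
        have h3 : (V.2.primeIdealOf ⟨_, hmV⟩).asIdeal.height = 1 := by
          letI := TopCat.Presheaf.algebra_section_stalk X.left.presheaf (⟨_, hmV⟩ : V.1)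
          haveI := V.2.isLocalization_stalk ⟨_, hmV⟩
          have h2 := IsLocalization.AtPrime.ringKrullDim_eq_height (V.2.primeIdealOf ⟨_, hmV⟩).asIdeal
            (X.left.presheaf.stalk (Models.genPtOf R X (Γ l)))
          rw [dim_stalk_genPt hreg hΓ l] at h2
          exact (WithBot.coe_eq_coe.1 h2).symm
        by_contra hne
        have hlt : (V.2.primeIdealOf ⟨_, hmV⟩).asIdeal < (V.2.primeIdealOf ⟨y, hy⟩).asIdeal := by
          refine lt_of_le_of_ne hle fun he => hne ?_
          have h5 := congrArg V.2.fromSpec (PrimeSpectrum.ext he)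
          rw [V.2.fromSpec_primeIdealOf, V.2.fromSpec_primeIdealOf] at h5
          exact h5.symm
        haveI : IsNoetherianRing Γ(X.left, V.1) := IsLocallyNoetherian.component_noetherian V
        have h4 := Ideal.height_strict_mono_of_isPrime_of_isPrime hlt
        rw [h1, h3] at h4
        exact lt_irrefl _ h4
      subst hy0
      rw [Finset.prod_eq_single l (fun j _ hjl => by
        rw [htop j (genPt_notMem_range hΓ (Ne.symm hjl)), one_pow]) (fun h => absurd (Finset.mem_univ l) h),
        stalkId_ker_genPt l V hy]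
      let ξ := Models.genPtOf R X (Γ l)
      let A := X.left.presheaf.stalk ξ
      haveI := hdom ξ
      haveI : UniqueFactorizationMonoid A := (ufd_stalk hreg ξ).2
      haveI : IsNoetherianRing A := (hreg ξ).toIsNoetherian
      have hu : ¬ IsUnit (Models.stalkHom R X ξ ϖ) := fun h => (notMem_specialFibreSet_iff hϖ ξ).2 h hys
      have hne0 : IsLocalRing.maximalIdeal A ≠ ⊥ := fun h => stalkHom_ne_zero hϖ.ne_zero ξ
        (by simpa [h] using (show Models.stalkHom R X ξ ϖ ∈ IsLocalRing.maximalIdeal A from hu))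
      obtain ⟨π, hπm, hπ⟩ := Ideal.IsPrime.exists_mem_prime_of_ne_bot (IsLocalRing.maximalIdeal.isMaximal A).isPrime hne0
      have hm : IsLocalRing.maximalIdeal A = Ideal.span {π} := by
        haveI : (Ideal.span {π}).IsPrime := (Ideal.span_singleton_prime hπ.ne_zero).2 hπ
        refine le_antisymm ?_ ((Ideal.span_singleton_le_iff_mem _).2 hπm)
        by_contra hnle
        have hlt : Ideal.span {π} < IsLocalRing.maximalIdeal A :=
          lt_of_le_not_ge ((Ideal.span_singleton_le_iff_mem _).2 hπm) hnle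
        have h4 := Ideal.height_strict_mono_of_isPrime_of_isPrime hlt
        rw [Ideal.height_span_singleton_eq_one_of_mem_nonZeroDivisors (mem_nonZeroDivisors_of_ne_zero hπ.ne_zero)
          hπ.not_unit] at h4
        have h5 : ((IsLocalRing.maximalIdeal A).height : WithBot ℕ∞) = 1 := by
          rw [IsLocalRing.maximalIdeal_height_eq_ringKrullDim]; exact hdim
        exact h4.ne' (WithBot.coe_eq_coe.1 h5)
      haveI : IsDiscreteValuationRing A := by
        refine ((IsDiscreteValuationRing.TFAE A ?_).out 4 0).1 (show (IsLocalRing.maximalIdeal A).IsPrincipal from ⟨⟨π, hm⟩⟩)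
        exact fun hf => hne0 (IsLocalRing.isField_iff_maximalIdeal_eq.1 hf)
      obtain ⟨e, he⟩ := IsDiscreteValuationRing.associated_pow_irreducible (stalkHom_ne_zero hϖ.ne_zero ξ)
        hπ.irreducible
      have hspan : Ideal.span {Models.stalkHom R X ξ ϖ} = IsLocalRing.maximalIdeal A ^ e := by
        rw [hm, Ideal.span_singleton_pow, Ideal.span_singleton_eq_span_singleton]
        exact he
      have hmult : Models.mult R X (Γ l) = e := by
        unfold Models.mult
        rw [show Ideal.map (Models.stalkHom R X (Models.genPtOf R X (Γ l))) (IsLocalRing.maximalIdeal R) =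
            IsLocalRing.maximalIdeal A ^ e by
          rw [hϖ.maximalIdeal_eq, Ideal.map_span, Set.image_singleton]; exact hspan]
        rw [IsDiscreteValuationRing.length_quotient_pow_maximalIdeal]
        rfl
      rw [hmult]
      exact hspan
    · rw [Finset.prod_eq_one fun i _ => by
        rw [htop i fun ⟨w, hw⟩ => hys ((hΓ.2 ▸ ⟨i, rfl⟩ : Set.range (Γ i).ι.base ∈ Models.fibreComponents R X).1.2
          ⟨w, hw⟩), one_pow],
        Ideal.one_eq_top, Ideal.span_singleton_eq_top]
      exact (notMem_specialFibreSet_iff hϖ y).1 hys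

end Fibre

end Groth.Agent.H28Vert
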