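import Groth.Agent.H28Vert.QuotTensor
import Groth.Agent.H28Pinch.GlueModule
import Groth.Agent.H29Blow.Basic
import Groth.Agent.H29Blow.IdealMod
import Groth.Agent.H11Tilde.StalkGen
import Groth.Agent.H11Ample.Basic

/-!
# The closed fibre is a principal divisor: Euler characteristics of the restricted ideals
-/

set_option autoImplicit false
set_option linter.style.haveILetI false
set_option backward.isDefEq.respectTransparency.types false
universe u

open CategoryTheory CategoryTheory.Limits AlgebraicGeometry Opposite TopologicalSpace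

namespace Groth.Agent.H28Vert

open Groth.Agent.H28Int

variable {R : Type u} [CommRing R] [IsDomain R] [IsDiscreteValuationRing R]
  {X : Over (Spec (CommRingCat.of R))}

/-- An element of `R` as a section over an open. -/
noncomputable def baseSect (X : Over (Spec (CommRingCat.of R))) (ϖ : R) (U : X.left.Opens) : Γ(X.left, U) :=
  X.hom.appLE ⊤ U le_top ((Scheme.ΓSpecIso (CommRingCat.of R)).inv ϖ)

theorem baseSect_res (ϖ : R) {U V : X.left.Opens} (h : V ≤ U) :
    X.left.presheaf.map (homOfLE h).op (baseSect X ϖ U) = baseSect X ϖ V := by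
  show (X.hom.appLE ⊤ U le_top ≫ X.left.presheaf.map (homOfLE h).op) _ = _
  rw [Scheme.Hom.appLE_map]
  rfl

/-- Multiplication by an element of `R` on the structure sheaf. -/
noncomputable def baseMul (X : Over (Spec (CommRingCat.of R))) (ϖ : R) :
    Coh.structureModule X.left ⟶ Coh.structureModule X.left :=
  ⟨PresheafOfModules.homMk
    { app := fun W => AddCommGrpCat.ofHom (AddMonoidHom.mk'
        (fun c : Γ(X.left, W.unop) => (baseSect X ϖ W.unop * c : Γ(X.left, W.unop))) fun (a b : Γ(X.left, W.unop)) => (mul_add (baseSect X ϖ W.unop) a b : _ * (a + b) = _ * a + _ * b))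
      naturality := fun W W' i => by
        ext (c : Γ(X.left, W.unop))
        show baseSect X ϖ W'.unop * X.left.presheaf.map i c = X.left.presheaf.map i (baseSect X ϖ W.unop * c)
        rw [map_mul]
        exact congrArg (· * _) (baseSect_res ϖ i.unop.le).symm }
    fun W (r : Γ(X.left, W.unop)) (c : Γ(X.left, W.unop)) => (mul_left_comm (baseSect X ϖ W.unop) r c : baseSect X ϖ W.unop * (r * c) = r * (baseSect X ϖ W.unop * c))⟩

theorem baseMul_app (ϖ : R) (U : X.left.Opens) (c : Γ(X.left, U)) :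
    (baseMul X ϖ).app U c = (baseSect X ϖ U * c : Γ(X.left, U)) := rfl

/-- The ideal of the closed fibre on an affine open. -/
theorem ker_fst_app {ϖ : R} (hϖ : IsLocalRing.maximalIdeal R = Ideal.span {ϖ}) {U : X.left.Opens}
    (hU : IsAffineOpen U) :
    RingHom.ker ((pullback.fst X.hom (closedPt R)).app U).hom = Ideal.span {baseSect X ϖ U} := by
  let S := Spec (CommRingCat.of R)
  rw [← Scheme.Hom.ker_apply (pullback.fst X.hom (closedPt R)) ⟨U, hU⟩,
    Scheme.IdealSheafData.ker_fst_of_isClosedImmersion,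
    H29Blow.ideal_comap (closedPt R).ker X.hom ⟨⊤, isAffineOpen_top S⟩ ⟨U, hU⟩ le_top]
  have h : (closedPt R).ker.ideal ⟨⊤, isAffineOpen_top S⟩ =
      Ideal.span {(Scheme.ΓSpecIso (CommRingCat.of R)).inv ϖ} := by
    rw [Scheme.Hom.ker_apply]
    refine le_antisymm (fun a ha => ?_) ((Ideal.span_singleton_le_iff_mem _).2 ?_)
    · obtain ⟨r, rfl⟩ : ∃ r, (Scheme.ΓSpecIso (CommRingCat.of R)).inv r = a :=
        (ConcreteCategory.bijective_of_isIso (Scheme.ΓSpecIso (CommRingCat.of R)).inv).2 a
      have h1 : (Scheme.ΓSpecIso (CommRingCat.of (IsLocalRing.ResidueField R))).inv (IsLocalRing.residue R r) = 0 :=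
        (congr($(Scheme.ΓSpecIso_inv_naturality (CommRingCat.ofHom (IsLocalRing.residue R))) r)).trans
          (RingHom.mem_ker.1 ha)
      have h2 : r ∈ IsLocalRing.maximalIdeal R := (IsLocalRing.residue_eq_zero_iff r).1
        ((ConcreteCategory.bijective_of_isIso (Scheme.ΓSpecIso (CommRingCat.of (IsLocalRing.ResidueField R))).inv).1
          (h1.trans (map_zero _).symm))
      rw [hϖ, Ideal.mem_span_singleton] at h2
      obtain ⟨t, rfl⟩ := h2
      rw [map_mul]
      exact Ideal.mul_mem_right _ _ (Ideal.mem_span_singleton_self _)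
    · rw [RingHom.mem_ker]
      have h2 : IsLocalRing.residue R ϖ = 0 :=
        (IsLocalRing.residue_eq_zero_iff ϖ).2 (hϖ ▸ Ideal.mem_span_singleton_self ϖ)
      refine (congr($(Scheme.ΓSpecIso_inv_naturality (CommRingCat.ofHom (IsLocalRing.residue R))) ϖ)).symm.trans ?_
      show (Scheme.ΓSpecIso (CommRingCat.of (IsLocalRing.ResidueField R))).inv (IsLocalRing.residue R ϖ) = 0
      rw [h2, map_zero]
  rw [h, Ideal.map_span, Set.image_singleton]
  rfl

theorem baseSect_mul_cancel [Flat X.hom] {ϖ : R} (hϖ : ϖ ≠ 0) {U : X.left.Opens} (hU : IsAffineOpen U)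
    {a b : Γ(X.left, U)} (h : baseSect X ϖ U * a = baseSect X ϖ U * b) : a = b := by
  let S := Spec (CommRingCat.of R)
  have hf : (X.hom.appLE ⊤ U le_top).hom.Flat :=
    Flat.flat_appLE X.hom (isAffineOpen_top S) hU le_top
  letI := (X.hom.appLE ⊤ U le_top).hom.toAlgebra
  haveI : Module.Flat Γ(S, ⊤) Γ(X.left, U) := hf
  haveI : IsDomain Γ(S, ⊤) :=
    ((Scheme.ΓSpecIso (CommRingCat.of R)).commRingCatIsoToRingEquiv).toMulEquiv.isDomain _
  have hne : (Scheme.ΓSpecIso (CommRingCat.of R)).inv ϖ ≠ 0 := fun h0 => hϖ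
    ((ConcreteCategory.bijective_of_isIso (Scheme.ΓSpecIso (CommRingCat.of R)).inv).1 (h0.trans (map_zero _).symm))
  refine (IsSMulRegular.of_ne_zero hne : IsSMulRegular Γ(X.left, U) _) ?_
  show _ • a = _ • b
  rw [Algebra.smul_def, Algebra.smul_def]
  exact h

theorem pullSect_eq_zero_iff {ϖ : R} (hϖ : IsLocalRing.maximalIdeal R = Ideal.span {ϖ})
    {G : X.left.Modules} {U : X.left.Opens} (hU : IsAffineOpen U) {e : Γ(G, U)} (he : H11Tilde.IsGen G e)
    (z : Γ(G, U)) :
    OmegaSh.pullSect (pullback.fst X.hom (closedPt R)) G U z = 0 ↔ ∃ y : Γ(G, U), z = baseSect X ϖ U • y := by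
  let b := pullback.fst X.hom (closedPt R)
  constructor
  · intro hz
    obtain ⟨a, rfl⟩ := (he.bijective le_rfl).2 z
    have he' : ∀ r : Γ(X.left, U), G.presheaf.map (homOfLE (le_refl U)).op e = e := fun _ =>
      H10Coh.mres_self G le_rfl e
    simp only [he' a] at hz ⊢
    rw [OmegaSh.pullSect_smul] at hz
    have hpe := (he.pullSect b).bijective (W := b ⁻¹ᵁ U) le_rfl
    have h0 : b.app U a = 0 := by
      apply hpe.1
      show _ • _ = (0 : Γ(pullback X.hom (closedPt R), b ⁻¹ᵁ U)) • _
      rw [zero_smul, H10Coh.mres_self _ le_rfl]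
      exact hz
    have hm : a ∈ Ideal.span {baseSect X ϖ U} := (ker_fst_app hϖ hU).le h0
    obtain ⟨t, rfl⟩ := Ideal.mem_span_singleton.1 hm
    exact ⟨t • e, mul_smul _ _ _⟩
  · rintro ⟨y, rfl⟩
    rw [OmegaSh.pullSect_smul]
    have h0 : b.app U (baseSect X ϖ U) = 0 :=
      (ker_fst_app hϖ hU).ge (Ideal.mem_span_singleton_self _)
    rw [h0, zero_smul]

theorem exists_affine_gen {G : X.left.Modules} (hG : PicF.IsInvertible G) {W : X.left.Opens}
    {x : X.left} (hx : x ∈ W) :
    ∃ (U : X.left.Opens) (_ : IsAffineOpen U) (e : Γ(G, U)), U ≤ W ∧ x ∈ U ∧ H11Tilde.IsGen G e := by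
  obtain ⟨V, e, hxV, he⟩ := H11Ample.exists_gen hG x
  obtain ⟨U, hU, hxU, hUW⟩ := exists_isAffineOpen_mem_and_subset (U := W ⊓ V) (x := x) ⟨hx, hxV⟩
  exact ⟨U, hU, _, (le_inf_iff.1 hUW).1, hxU, H11Tilde.IsGen.res he (le_inf_iff.1 hUW).2⟩

/-- The Euler characteristic does not change in restricting the ideal of a vertical curve to the closed fibre. -/
theorem euler_pullback_ideal [IsProper X.hom] [Flat X.hom] (Γ : ArSurf.VertComp R X)
    (hI : PicF.IsInvertible (ClSub.idealMod Γ.ι.ker)) :
    Curv2.euler (IsLocalRing.ResidueField R) (pullback X.hom (closedPt R))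
        ((Scheme.Modules.pullback (pullback.fst X.hom (closedPt R))).obj (ClSub.idealMod Γ.ι.ker)) =
      Curv2.euler (IsLocalRing.ResidueField R) (pullback X.hom (closedPt R)) (Coh.structureModule _) := by
  let k := IsLocalRing.ResidueField R
  let b := pullback.fst X.hom (closedPt R)
  obtain ⟨ϖ, hirr⟩ := IsDiscreteValuationRing.exists_irreducible R
  have hϖ : IsLocalRing.maximalIdeal R = Ideal.span {ϖ} := hirr.maximalIdeal_eq
  let I := Γ.ι.ker
  let J := ClSub.idealMod I
  let O := Coh.structureModule X.left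
  let ι := ClSub.idealModι I
  let π := ClSub.toSubscheme I
  haveI := H10Coh.epi_toSubscheme I
  have hO : PicF.IsInvertible O := H28Int.isInvertible_structureModule X.left
  have hJq : Coh.IsQCoh J := (H11Ample.isCoh_of_isInvertible hI).1
  have hker : b.ker ≤ I := by
    show b.ker ≤ Γ.ι.ker
    rw [← toFibre_fst Γ]
    exact Scheme.Hom.le_ker_comp _ _
  have hmem : ∀ (U : X.left.Opens) (hU : IsAffineOpen U), baseSect X ϖ U ∈ I.ideal ⟨U, hU⟩ := fun U hU => by
    refine hker ⟨U, hU⟩ ?_
    rw [Scheme.Hom.ker_apply]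
    exact (ker_fst_app hϖ hU).ge (Ideal.mem_span_singleton_self _)
  have hbπ : baseMul X ϖ ≫ π = 0 := by
    refine Scheme.Modules.hom_ext _ _ fun W => ?_
    ext c
    refine H11Tilde.eq_of_locally _ _ fun x hx => ?_
    obtain ⟨U, hU, hxU, hUW⟩ := exists_isAffineOpen_mem_and_subset hx
    refine ⟨U, hUW, hxU, ?_⟩
    rw [← H11Tilde.app_map_apply, ← H11Tilde.app_map_apply]
    exact ((H17.IdealPair.app_eq_zero_iff I hU _).2 (Ideal.mul_mem_right _ _ (hmem U hU))).trans rfl
  let s : O ⟶ J := kernel.lift π (baseMul X ϖ) hbπ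
  have hs : ∀ (U : X.left.Opens) (c : Γ(X.left, U)),
      OmegaSh.idealSect I U (s.app U c) = baseSect X ϖ U * c := fun U c => by
    show (s ≫ ι).app U c = _
    rw [show s ≫ ι = baseMul X ϖ from kernel.lift_ι _ _ _]
    rfl
  let F := Scheme.Modules.pullback b
  let P := Coh.push b
  let η := (Scheme.Modules.pullbackPushforwardAdjunction b).unit
  let β : P.obj (F.obj J) ⟶ P.obj (F.obj O) := P.map (F.map ι)
  let s' : O ⟶ P.obj (F.obj J) := s ≫ η.app J
  have hz : ∀ {G : X.left.Modules} {U : X.left.Opens} (z : Γ(G, U)),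
      (η.app G).app U z = OmegaSh.pullSect b G U z := fun _ => rfl
  have hsι : ι ≫ s' = 0 := by
    refine Scheme.Modules.hom_ext _ _ fun W => ?_
    ext a
    refine H11Tilde.eq_of_locally _ _ fun x hx => ?_
    obtain ⟨U, hU, e, hUW, hxU, he⟩ := exists_affine_gen hI hx
    refine ⟨U, hUW, hxU, ?_⟩
    rw [← H11Tilde.app_map_apply, ← H11Tilde.app_map_apply]
    let a' : Γ(J, U) := J.presheaf.map (homOfLE hUW).op a
    have h1 : s.app U (OmegaSh.idealSect I U a') = baseSect X ϖ U • a' := by
      refine H29Blow.idealSect_injective I U ?_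
      rw [hs, H29Blow.idealSect_smul]
    show (η.app J).app U (s.app U (OmegaSh.idealSect I U a')) = 0
    rw [h1, hz]
    exact (pullSect_eq_zero_iff hϖ hU he _).2 ⟨a', rfl⟩
  let hπ := (H10Coh.shortExact_kernel π).gIsCokernel
  let δ : ClSub.quotMod I ⟶ P.obj (F.obj J) := hπ.desc (CokernelCofork.ofπ s' hsι)
  have hδ : π ≫ δ = s' := hπ.fac _ WalkingParallelPair.one
  have hnat : ∀ {U : X.left.Opens} (z : Γ(J, U)),
      β.app U (OmegaSh.pullSect b J U z) = OmegaSh.pullSect b O U (OmegaSh.idealSect I U z) := fun {U} z =>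
    (congr($(congrArg (fun f => Scheme.Modules.Hom.app f U) (η.naturality ι)) z)).symm
  have w : δ ≫ β = 0 := by
    rw [← cancel_epi π, reassoc_of% hδ, comp_zero]
    refine Scheme.Modules.hom_ext _ _ fun W => ?_
    ext c
    refine H11Tilde.eq_of_locally _ _ fun x hx => ?_
    obtain ⟨U, hU, e, hUW, hxU, he⟩ := exists_affine_gen hO hx
    refine ⟨U, hUW, hxU, ?_⟩
    rw [← H11Tilde.app_map_apply, ← H11Tilde.app_map_apply]
    let c' : Γ(X.left, U) := O.presheaf.map (homOfLE hUW).op c
    show β.app U (OmegaSh.pullSect b J U (s.app U c')) = 0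
    rw [hnat, hs]
    exact (pullSect_eq_zero_iff hϖ hU he _).2 ⟨c', rfl⟩
  haveI : Mono δ := by
    refine H11Tilde.mono_of_injective δ fun W q hq x hx => ?_
    obtain ⟨U, hU, e, hUW, hxU, he⟩ := exists_affine_gen hI hx
    refine ⟨U, hUW, hxU, ?_⟩
    obtain ⟨c, hc⟩ := I.subschemeι_app_surjective ⟨U, hU⟩
      ((ClSub.quotMod I).presheaf.map (homOfLE hUW).op q)
    have hsc : OmegaSh.pullSect b J U (s.app U c) = 0 := by
      refine (congr($(congrArg (fun f => Scheme.Modules.Hom.app f U) hδ) c)).symm.trans ?_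
      show δ.app U (π.app U c) = 0
      rw [show π.app U c = (ClSub.quotMod I).presheaf.map (homOfLE hUW).op q from hc]
      exact (H11Tilde.app_map_apply δ hUW q).trans ((congrArg _ hq).trans (map_zero _))
    obtain ⟨y, hy⟩ := (pullSect_eq_zero_iff hϖ hU he _).1 hsc
    have h1 : baseSect X ϖ U * c = baseSect X ϖ U * OmegaSh.idealSect I U y := by
      rw [← hs, hy, H29Blow.idealSect_smul]
    rw [← hc]
    exact (H17.IdealPair.app_eq_zero_iff I hU c).2 ((H29Blow.mem_ideal_iff_exists_idealSect I hU c).2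
      ⟨y, (baseSect_mul_cancel hirr.ne_zero hU h1).symm⟩)
  have hex : (ShortComplex.mk δ β w).Exact := by
    refine H11Tilde.exact_of_locally _ fun W t ht x hx => ?_
    obtain ⟨U, hU, e, hUW, hxU, he⟩ := exists_affine_gen hO hx
    refine ⟨U, hUW, hxU, ?_⟩
    obtain ⟨z, hzt⟩ := H28Pinch.exists_pullSect_eq b J hJq hU
      ((P.obj (F.obj J)).presheaf.map (homOfLE hUW).op t)
    have h0 : OmegaSh.pullSect b O U (OmegaSh.idealSect I U z) = 0 := by
      rw [← hnat, hzt]
      exact (H11Tilde.app_map_apply β hUW t).trans ((congrArg _ ht).trans (map_zero _))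
    obtain ⟨c, hc⟩ := (pullSect_eq_zero_iff hϖ hU he _).1 h0
    refine ⟨π.app U c, ?_⟩
    show (π ≫ δ).app U c = _
    rw [hδ]
    show OmegaSh.pullSect b J U (s.app U c) = _
    refine (congrArg (OmegaSh.pullSect b J U) (?_ : s.app U c = z)).trans hzt
    refine H29Blow.idealSect_injective I U ?_
    rw [hs]
    exact hc.symm
  haveI : P.IsRightAdjoint := (Scheme.Modules.pullbackPushforwardAdjunction b).isRightAdjoint
  let φ := F.map ι
  let u := H16Derived.KFlat.Stalk.structurePullbackIso b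
  let ν : F.obj J ⟶ Coh.structureModule _ := φ ≫ u.hom
  let E := (Coh.push (toFibre Γ)).obj (Coh.structureModule Γ.curve.left)
  haveI := H16Derived.ProjFormula.isIso_counit_of_isClosedImmersion b (kernel φ)
  haveI := H16Derived.ProjFormula.isIso_counit_of_isClosedImmersion b E
  let eQ : F.obj (ClSub.quotMod I) ≅ E :=
    F.mapIso (quotModKerIso Γ.ι ≪≫ eqToIso (by rw [toFibre_fst]) ≪≫
      ((Scheme.Modules.pushforwardComp (toFibre Γ) b).app _).symm) ≪≫
      asIso ((Scheme.Modules.pullbackPushforwardAdjunction b).counit.app E)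
  let eK : kernel ν ≅ E :=
    kernelCompMono φ u.hom ≪≫
      (asIso ((Scheme.Modules.pullbackPushforwardAdjunction b).counit.app (kernel φ))).symm ≪≫
      F.mapIso (PreservesKernel.iso P φ ≪≫ (kernelIsKernel β).conePointUniqueUpToIso hex.fIsKernel) ≪≫ eQ
  let eC : cokernel ν ≅ E := fibreCokerIso Γ
  haveI := isNoetherian k (X := pullback X.hom (closedPt R))
  have hN : Coh.IsCoh (F.obj J) := H11Ample.isCoh_of_isInvertible (H11Ample.isInvertible_pullback b hI)
  have hO₀ : Coh.IsCoh (Coh.structureModule (pullback X.hom (closedPt R))) := H10Coh.isCoh_structureModule' _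
  have hK : Coh.IsCoh (kernel ν) := H10Coh.isCoh_of_iso eK.symm (LeadDev.isCoh_push_structure _)
  have hC : Coh.IsCoh (cokernel ν) := H10Coh.isCoh_cokernel ν hN.1 hO₀
  let M := cokernel (kernel.ι ν)
  have hM : Coh.IsCoh M := H10Coh.isCoh_cokernel _ hK.1 hN
  let m : M ⟶ Coh.structureModule _ := cokernel.desc (kernel.ι ν) ν (kernel.condition ν)
  haveI : Mono m := inferInstanceAs (Mono (Abelian.factorThruCoimage ν))
  have hS₁ : (ShortComplex.mk (kernel.ι ν) (cokernel.π (kernel.ι ν)) (cokernel.condition _)).ShortExact :=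
    ShortComplex.ShortExact.mk' (ShortComplex.exact_cokernel _) inferInstance inferInstance
  have hS₂ : (ShortComplex.mk m (cokernel.π m) (cokernel.condition m)).ShortExact :=
    ShortComplex.ShortExact.mk' (ShortComplex.exact_cokernel _) inferInstance inferInstance
  let eCm : cokernel ν ≅ cokernel m :=
    cokernelIsoOfEq (cokernel.π_desc (kernel.ι ν) ν (kernel.condition ν)).symm ≪≫
      cokernelEpiComp (cokernel.π (kernel.ι ν)) m
  have h1 := (isAddFn_euler k).add _ hS₁ hK hN hM
  have h2 := (isAddFn_euler k).add _ hS₂ hM hO₀ (H10Coh.isCoh_of_iso eCm hC)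
  change Curv2.euler k _ (F.obj J) = Curv2.euler k _ (kernel ν) + Curv2.euler k _ M at h1
  change Curv2.euler k _ (Coh.structureModule _) = Curv2.euler k _ M + Curv2.euler k _ (cokernel m) at h2
  have h3 : Curv2.euler k _ (kernel ν) = Curv2.euler k _ E := H25Euler.euler_congr eK
  have h4 : Curv2.euler k _ (cokernel m) = Curv2.euler k _ E := H25Euler.euler_congr (eCm.symm ≪≫ eC)
  show Curv2.euler k _ (F.obj J) = Curv2.euler k _ (Coh.structureModule _)
  omega

end Groth.Agent.H28Vert
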