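import Groth.Agent.H28Vert.IdealProd
import Groth.Agent.H28Vert.Cartier
import Groth.Agent.H11Sym.InvertibleInverse
import Groth.Agent.H10Coh.SerreVanishing
import Groth.Prelude.Def_PicGrp
import Groth.Agent.H28Vert.FibrePrincipal
import Groth.Agent.H11Tilde.ProjUPUnique

/-!
# Classes of vertical divisors in the Picard group
-/

set_option autoImplicit false
set_option linter.style.haveILetI false
set_option backward.isDefEq.respectTransparency.types false
universe u

open CategoryTheory CategoryTheory.Limits AlgebraicGeometry Opposite TopologicalSpace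

namespace Groth.Agent.H28Vert

section Law

variable {Y : Scheme.{u}}

theorem mulCl_mem (a b : PicLoc.PicSet Y) :
    ∃ c : PicLoc.PicSet Y, c.1 = PicGrp.mulCl a.1 b.1 := by
  obtain ⟨L, hL, rfl⟩ := PicGrp.exists_eq_cls a
  obtain ⟨M, hM, rfl⟩ := PicGrp.exists_eq_cls b
  exact ⟨PicGrp.cls _ (H11Ample.isInvertible_tensor hL hM), rfl⟩

/-- The group law on invertible classes. -/
noncomputable def picLaw (Y : Scheme.{u}) : PicGrp.Law Y :=
  letI mul : Mul (PicLoc.PicSet Y) := ⟨fun a b => (mulCl_mem a b).choose⟩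
  have hmul : ∀ a b : PicLoc.PicSet Y, (a * b).1 = PicGrp.mulCl a.1 b.1 := fun a b => (mulCl_mem a b).choose_spec
  letI one : One (PicLoc.PicSet Y) := ⟨PicLoc.unitPicSet Y⟩
  have hinv : ∀ a : PicLoc.PicSet Y, ∃ b : PicLoc.PicSet Y, b * a = 1 := fun a => by
    obtain ⟨L, hL, rfl⟩ := PicGrp.exists_eq_cls a
    obtain ⟨L', hL', ⟨e⟩⟩ := H11Sym.exists_inverse hL
    refine ⟨PicGrp.cls L' hL', Subtype.ext ?_⟩
    rw [hmul]
    exact Quot.sound ⟨e⟩
  letI inv : Inv (PicLoc.PicSet Y) := ⟨fun a => (hinv a).choose⟩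
  { CommGroup.mk (toGroup := Group.ofLeftAxioms
      (fun a b c => by
        obtain ⟨L, hL, rfl⟩ := PicGrp.exists_eq_cls a
        obtain ⟨M, hM, rfl⟩ := PicGrp.exists_eq_cls b
        obtain ⟨N, hN, rfl⟩ := PicGrp.exists_eq_cls c
        refine Subtype.ext ?_
        simp only [hmul, PicGrp.cls_val, PicGrp.mulCl_cl]
        exact Quot.sound ⟨H10Coh.Tw.assoc L M N⟩)
      (fun a => by
        obtain ⟨L, hL, rfl⟩ := PicGrp.exists_eq_cls a
        refine Subtype.ext ?_
        rw [hmul]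
        exact Quot.sound ⟨H10Coh.Tw.leftUnitIso L⟩)
      (fun a => (hinv a).choose_spec))
      (fun a b => by
        obtain ⟨L, hL, rfl⟩ := PicGrp.exists_eq_cls a
        obtain ⟨M, hM, rfl⟩ := PicGrp.exists_eq_cls b
        refine Subtype.ext ?_
        simp only [hmul, PicGrp.cls_val, PicGrp.mulCl_cl]
        exact Quot.sound ⟨H10Coh.Tw.commIso L M⟩) with
    mul_val := hmul
    one_eq := rfl }

attribute [local instance] picLaw

theorem isInvertible_tensorPow {L : Y.Modules} (hL : PicF.IsInvertible L) :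
    ∀ m : ℕ, PicF.IsInvertible (CohB1.tensorPow L m)
  | 0 => PicLoc.isInvertible_structureModule Y
  | m + 1 => H11Ample.isInvertible_tensor (isInvertible_tensorPow hL m) hL

theorem cls_tensorPow {L : Y.Modules} (hL : PicF.IsInvertible L) (m : ℕ) :
    PicGrp.cls (CohB1.tensorPow L m) (isInvertible_tensorPow hL m) = PicGrp.cls L hL ^ m :=
  Subtype.ext (PicGrp.cls_pow_val hL m).symm

theorem isInvertible_list : ∀ l : List Y.Modules, (∀ A ∈ l, PicF.IsInvertible A) →
    PicF.IsInvertible (FGA.tensorList l)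
  | [], _ => PicLoc.isInvertible_structureModule Y
  | A :: l, h => H11Ample.isInvertible_tensor (h A List.mem_cons_self)
      (isInvertible_list l fun B hB => h B (List.mem_cons_of_mem _ hB))

theorem cls_tensorList {ι : Type*} (M : ι → Y.Modules) (hM : ∀ i, PicF.IsInvertible (M i)) :
    ∀ l : List ι, ∃ h : PicF.IsInvertible (FGA.tensorList (l.map M)),
      PicGrp.cls (FGA.tensorList (l.map M)) h = (l.map fun i => PicGrp.cls (M i) (hM i)).prod
  | [] => ⟨PicLoc.isInvertible_structureModule Y, PicGrp.cls_structureModule_eq_one⟩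
  | i :: l => by
    obtain ⟨h, e⟩ := cls_tensorList M hM l
    refine ⟨H11Ample.isInvertible_tensor (hM i) h, ?_⟩
    show PicGrp.cls (CohB1.tensorMod (M i) (FGA.tensorList (l.map M))) (H11Ample.isInvertible_tensor (hM i) h) =
      PicGrp.cls (M i) (hM i) * (l.map fun i => PicGrp.cls (M i) (hM i)).prod
    rw [← e]
    exact Subtype.ext (PicGrp.cls_mul_cls_val (hM i) h).symm

theorem cls_multiTwist {n : ℕ} {L : Fin n → Y.Modules} (hL : ∀ i, PicF.IsInvertible (L i)) (a : Fin n → ℕ) :
    ∃ h : PicF.IsInvertible (FGA.multiTwist L a),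
      PicGrp.cls (FGA.multiTwist L a) h = ∏ i, PicGrp.cls (L i) (hL i) ^ a i := by
  obtain ⟨h, e⟩ := cls_tensorList (fun i => CohB1.tensorPow (L i) (a i))
    (fun i => isInvertible_tensorPow (hL i) (a i)) (List.finRange n)
  refine ⟨h, e.trans ?_⟩
  rw [← List.ofFn_eq_map, List.prod_ofFn]
  exact Finset.prod_congr rfl fun i _ => cls_tensorPow (hL i) (a i)

/-- The class of the ideal of an effective Cartier divisor. -/
noncomputable def idealCls {I : Y.IdealSheafData} (hI : BlowUp.IsEffCartierIdeal I) : PicLoc.PicSet Y :=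
  PicGrp.cls (ClSub.idealMod I) (H29Blow.isInvertible_of_isEffCartierIdeal I hI)

theorem idealCls_mul {A B : Y.IdealSheafData} (hA : BlowUp.IsEffCartierIdeal A) (hB : BlowUp.IsEffCartierIdeal B) :
    idealCls (isEffCartierIdeal_mul hA hB) = idealCls hA * idealCls hB := by
  obtain ⟨e⟩ := nonempty_idealMod_mul hA hB
  refine Subtype.ext ?_
  rw [idealCls, idealCls, idealCls, PicGrp.cls_mul_cls_val, PicGrp.cls_val]
  exact Quot.sound ⟨e.symm⟩

theorem idealCls_congr {A B : Y.IdealSheafData} (hA : BlowUp.IsEffCartierIdeal A) (hB : BlowUp.IsEffCartierIdeal B)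
    (h : A = B) : idealCls hA = idealCls hB := by
  subst h
  rfl

theorem idealCls_one : idealCls (H29Blow.isEffCartierIdeal_top (X := Y)) = 1 := by
  have h := idealCls_mul (H29Blow.isEffCartierIdeal_top (X := Y)) H29Blow.isEffCartierIdeal_top
  rw [idealCls_congr (isEffCartierIdeal_mul H29Blow.isEffCartierIdeal_top H29Blow.isEffCartierIdeal_top)
    H29Blow.isEffCartierIdeal_top (one_mul (⊤ : Y.IdealSheafData))] at h
  exact left_eq_mul.1 h

theorem idealCls_prod {ι : Type*} (s : Finset ι) (I : ι → Y.IdealSheafData) (hI : ∀ i, BlowUp.IsEffCartierIdeal (I i))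
    (e : ι → ℕ) :
    idealCls (isEffCartierIdeal_prod s I (fun i _ => hI i) e) = ∏ i ∈ s, idealCls (hI i) ^ e i := by
  classical
  have hpow : ∀ i (m : ℕ), ∃ h : BlowUp.IsEffCartierIdeal (I i ^ m), idealCls h = idealCls (hI i) ^ m := by
    intro i m
    induction m with
    | zero =>
      refine ⟨by rw [pow_zero]; exact H29Blow.isEffCartierIdeal_top, ?_⟩
      rw [pow_zero (idealCls (hI i))]
      exact (idealCls_congr _ H29Blow.isEffCartierIdeal_top (pow_zero (I i))).trans idealCls_one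
    | succ m ih =>
      obtain ⟨h, e'⟩ := ih
      refine ⟨by rw [pow_succ]; exact isEffCartierIdeal_mul h (hI i), ?_⟩
      rw [idealCls_congr _ (isEffCartierIdeal_mul h (hI i)) (pow_succ (I i) m), idealCls_mul h (hI i), e', pow_succ]
  induction s using Finset.induction with
  | empty =>
    exact ((idealCls_congr _ H29Blow.isEffCartierIdeal_top Finset.prod_empty).trans idealCls_one).trans
      Finset.prod_empty.symm
  | insert a s ha ih =>
    obtain ⟨h, e'⟩ := hpow a (e a)
    have h2 := isEffCartierIdeal_prod s I (fun i _ => hI i) e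
    have heq : ∏ i ∈ insert a s, I i ^ e i = I a ^ e a * ∏ i ∈ s, I i ^ e i :=
      Finset.prod_insert (f := fun i => I i ^ e i) ha
    refine (idealCls_congr (isEffCartierIdeal_prod (insert a s) I (fun i _ => hI i) e)
      (isEffCartierIdeal_mul h h2) heq).trans ?_
    rw [idealCls_mul h h2, e', Finset.prod_insert ha]
    rw [← ih]

end Law

section Vertical

attribute [local instance] picLaw

variable {R : Type u} [CommRing R] [IsDomain R] [IsDiscreteValuationRing R]
  {X : Over (Spec (CommRingCat.of R))}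

theorem specialFibreIdeal_ideal' {ϖ : R} (hϖ : IsLocalRing.maximalIdeal R = Ideal.span {ϖ}) (V : X.left.affineOpens) :
    (Models.specialFibreIdeal R X).ideal V = Ideal.span {baseSect X ϖ V.1} := by
  let S := Spec (CommRingCat.of R)
  have h : (Curv2.idealSheaf R (IsLocalRing.maximalIdeal R)).ideal ⟨⊤, isAffineOpen_top S⟩ =
      (IsLocalRing.maximalIdeal R).map (Scheme.ΓSpecIso (CommRingCat.of R)).inv.hom := by
    show Ideal.map (S.presheaf.map (homOfLE le_top).op).hom _ = _
    rw [show (homOfLE (le_top : (⊤ : S.Opens) ≤ ⊤)).op = 𝟙 _ from rfl, CategoryTheory.Functor.map_id,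
      CommRingCat.hom_id, Ideal.map_id]
  rw [Models.specialFibreIdeal, H29Blow.ideal_comap _ X.hom ⟨⊤, isAffineOpen_top S⟩ V le_top, h, hϖ,
    Ideal.map_span, Set.image_singleton, Ideal.map_span, Set.image_singleton]
  rfl

variable [IsLocallyNoetherian X.left] [Flat X.hom] {n : ℕ} {Γ : Fin n → ArSurf.VertComp R X}
  (hreg : Models.IsRegularScheme X.left) (hΓ : Models.IsComponentList R X Γ)

include hreg hΓ in
/-- Exponents of a vertical divisor are determined by its ideal. -/
theorem exponent_unique {e e' : Fin n → ℕ}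
    (h : ∏ j, (Γ j).ι.ker ^ e j = ∏ j, (Γ j).ι.ker ^ e' j) : e = e' := by
  classical
  funext l
  let ξ := Models.genPtOf R X (Γ l)
  obtain ⟨V, hV, hξV, -⟩ := exists_isAffineOpen_mem_and_subset (U := (⊤ : X.left.Opens)) (x := ξ) trivial
  have hval : ∀ a : Fin n → ℕ, stalkId (∏ j, (Γ j).ι.ker ^ a j) ⟨V, hV⟩ hξV =
      IsLocalRing.maximalIdeal (X.left.presheaf.stalk ξ) ^ a l := by
    intro a
    rw [stalkId_prod Finset.univ, Finset.prod_eq_single l (fun j _ hjl => ?_) (fun h => absurd (Finset.mem_univ l) h),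
      stalkId_ker_genPt l ⟨V, hV⟩ hξV]
    have h1 : stalkId (Γ j).ι.ker ⟨V, hV⟩ hξV = ⊤ := by
      refine H29Blow.map_germ_eq_top_of_notMem_support _ ξ ⟨V, hV⟩ hξV fun h' =>
        genPt_notMem_range hΓ (Ne.symm hjl) ?_
      exact ((Γ j).ι.support_ker.trans (Γ j).ι.isClosedEmbedding.isClosed_range.closure_eq).subset h'
    rw [h1, Ideal.top_pow]
    exact Ideal.one_eq_top.symm
  haveI := (ufd_stalk hreg ξ).1
  haveI : IsNoetherianRing (X.left.presheaf.stalk ξ) := (hreg ξ).toIsNoetherian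
  have hne0 : IsLocalRing.maximalIdeal (X.left.presheaf.stalk ξ) ≠ ⊥ := by
    intro h0
    obtain ⟨ϖ, hϖ⟩ := IsDiscreteValuationRing.exists_irreducible R
    refine stalkHom_ne_zero (X := X) hϖ.ne_zero ξ ?_
    have hs : ξ ∈ Models.specialFibreSet R X :=
      (hΓ.2 ▸ ⟨l, rfl⟩ : Set.range (Γ l).ι.base ∈ Models.fibreComponents R X).1.2 ⟨_, rfl⟩
    have hm : Models.stalkHom R X ξ ϖ ∈ IsLocalRing.maximalIdeal _ := fun hu =>
      (notMem_specialFibreSet_iff hϖ ξ).2 hu hs
    rw [h0] at hm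
    exact Ideal.mem_bot.1 hm
  have hs := congrArg (fun I => stalkId I ⟨V, hV⟩ hξV) h
  simp only [hval] at hs
  let m := IsLocalRing.maximalIdeal (X.left.presheaf.stalk ξ)
  have key : ∀ a b : ℕ, a < b → m ^ a ≠ m ^ b := by
    intro a b hab heq
    have hle : m ^ a ≤ m • (m ^ a) := by
      rw [smul_eq_mul, ← pow_succ']
      exact heq.le.trans (Ideal.pow_le_pow_right hab)
    exact pow_ne_zero a hne0
      (Submodule.eq_bot_of_le_smul_of_le_jacobson_bot m (m ^ a) (IsNoetherian.noetherian _) hle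
        (IsLocalRing.maximalIdeal_le_jacobson _))
  rcases lt_trichotomy (e l) (e' l) with h1 | h1 | h1
  · exact absurd hs (key _ _ h1)
  · exact h1
  · exact absurd hs.symm (key _ _ h1)

omit [IsLocallyNoetherian X.left] in
theorem baseSect_mem_nonZeroDivisors {ϖ : R} (hϖ : ϖ ≠ 0) {U : X.left.Opens} (hU : IsAffineOpen U) :
    baseSect X ϖ U ∈ nonZeroDivisors Γ(X.left, U) :=
  mem_nonZeroDivisors_iff_left.2 fun a ha => baseSect_mul_cancel hϖ hU (ha.trans (mul_zero _).symm)

omit [IsLocallyNoetherian X.left] in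
theorem isEffCartierIdeal_specialFibre : BlowUp.IsEffCartierIdeal (Models.specialFibreIdeal R X) := fun x => by
  obtain ⟨ϖ, hϖ⟩ := IsDiscreteValuationRing.exists_irreducible R
  obtain ⟨U, hU, hxU, -⟩ := exists_isAffineOpen_mem_and_subset (U := (⊤ : X.left.Opens)) (x := x) trivial
  exact ⟨⟨U, hU⟩, hxU, _, baseSect_mem_nonZeroDivisors hϖ.ne_zero hU, specialFibreIdeal_ideal' hϖ.maximalIdeal_eq _⟩

omit [IsLocallyNoetherian X.left] in
theorem idealCls_specialFibre : idealCls (isEffCartierIdeal_specialFibre (R := R) (X := X)) = 1 := by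
  obtain ⟨ϖ, hϖ⟩ := IsDiscreteValuationRing.exists_irreducible R
  let I := Models.specialFibreIdeal R X
  have hmem : ∀ (U : X.left.Opens) (hU : IsAffineOpen U), baseSect X ϖ U ∈ I.ideal ⟨U, hU⟩ := fun U hU => by
    rw [specialFibreIdeal_ideal' hϖ.maximalIdeal_eq]
    exact Ideal.mem_span_singleton_self _
  have hbπ : baseMul X ϖ ≫ ClSub.toSubscheme I = 0 := by
    refine Scheme.Modules.hom_ext _ _ fun W => ?_
    ext c
    refine H11Tilde.eq_of_locally _ _ fun x hx => ?_
    obtain ⟨U, hU, hxU, hUW⟩ := exists_isAffineOpen_mem_and_subset hx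
    refine ⟨U, hUW, hxU, ?_⟩
    rw [← H11Tilde.app_map_apply, ← H11Tilde.app_map_apply]
    exact ((H17.IdealPair.app_eq_zero_iff I hU _).2 (Ideal.mul_mem_right _ _ (hmem U hU))).trans rfl
  let s : Coh.structureModule X.left ⟶ ClSub.idealMod I := kernel.lift (ClSub.toSubscheme I) (baseMul X ϖ) hbπ
  haveI : IsIso s := by
    refine H11Tilde.isIso_of_gen s fun x => ?_
    obtain ⟨U, hU, hxU, -⟩ := exists_isAffineOpen_mem_and_subset (U := (⊤ : X.left.Opens)) (x := x) trivial
    refine ⟨U, (1 : Γ(X.left, U)), hxU, H11Ample.isGen_one U, isGen_idealSect isEffCartierIdeal_specialFibre hU ?_⟩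
    rw [specialFibreIdeal_ideal' hϖ.maximalIdeal_eq]
    refine congrArg (fun c => Ideal.span {c}) ?_
    show _ = (s ≫ ClSub.idealModι I).app U (1 : Γ(X.left, U))
    rw [show s ≫ ClSub.idealModι I = baseMul X ϖ from kernel.lift_ι _ _ _]
    exact (mul_one (baseSect X ϖ U : Γ(X.left, U))).symm
  exact (PicGrp.cls_eq_one_iff _).2 ⟨(asIso s).symm⟩

include hreg hΓ in
theorem prod_idealCls_mult :
    ∏ j, idealCls (isEffCartierIdeal_ker hreg hΓ j) ^ Models.mult R X (Γ j) = 1 := by
  rw [← idealCls_prod Finset.univ (fun j => (Γ j).ι.ker) (fun j => isEffCartierIdeal_ker hreg hΓ j)]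
  exact (idealCls_congr _ (isEffCartierIdeal_specialFibre (R := R) (X := X))
    (specialFibreIdeal_eq_prod hreg hΓ).symm).trans idealCls_specialFibre

include hreg hΓ in
/-- The only vertical divisors with trivial class are multiples of the fibre. -/
theorem exists_mult_of_idealCls_eq_one (hsurj : Function.Surjective (Coh.toGlobal X.hom)) (hne : 0 < n)
    (e : Fin n → ℕ)
    (h : idealCls (isEffCartierIdeal_prod Finset.univ (fun j => (Γ j).ι.ker)
      (fun j _ => isEffCartierIdeal_ker hreg hΓ j) e) = 1) :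
    ∃ c : ℕ, ∀ j, e j = c * Models.mult R X (Γ j) := by
  classical
  let E := ∏ j, (Γ j).ι.ker ^ e j
  have hE : BlowUp.IsEffCartierIdeal E :=
    isEffCartierIdeal_prod Finset.univ (fun j => (Γ j).ι.ker) (fun j _ => isEffCartierIdeal_ker hreg hΓ j) e
  obtain ⟨φ⟩ := (PicGrp.cls_eq_one_iff _).1 h
  let σ : Γ(ClSub.idealMod E, ⊤) := φ.inv.app ⊤ (1 : Γ(X.left, ⊤))
  obtain ⟨r, hr⟩ := hsurj (OmegaSh.idealSect E ⊤ σ)
  obtain ⟨ϖ, hϖ⟩ := IsDiscreteValuationRing.exists_irreducible R
  have hgen : ∀ (U : X.left.Opens) (hU : IsAffineOpen U),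
      E.ideal ⟨U, hU⟩ = Ideal.span {baseSect X r U} := by
    intro U hU
    have hg : H11Tilde.IsGen (ClSub.idealMod E) (φ.inv.app U (1 : Γ(X.left, U))) :=
      H11Tilde.IsGen.map_iso φ.symm (H11Ample.isGen_one U)
    have hσ : OmegaSh.idealSect E U (φ.inv.app U (1 : Γ(X.left, U))) = baseSect X r U := by
      have h1 : φ.inv.app U (1 : Γ(X.left, U)) = (ClSub.idealMod E).presheaf.map (homOfLE le_top).op σ := by
        refine Eq.trans ?_ (H11Tilde.app_map_apply φ.inv (le_top : U ≤ ⊤) (1 : Γ(X.left, ⊤)))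
        exact congrArg (φ.inv.app U) (RingHom.map_one (X.left.presheaf.map (homOfLE (le_top : U ≤ ⊤)).op).hom).symm
      rw [h1, H29Blow.idealSect_res, ← hr, baseSect, Scheme.Hom.appLE]
      rfl
    refine le_antisymm (fun a ha => ?_) ((Ideal.span_singleton_le_iff_mem _).2
      (hσ ▸ (H29Blow.mem_ideal_iff_exists_idealSect E hU _).2 ⟨_, rfl⟩))
    obtain ⟨z, hz⟩ := (H29Blow.mem_ideal_iff_exists_idealSect E hU a).1 ha
    obtain ⟨t, ht⟩ := (hg.bijective (le_refl U)).2 z
    rw [← hz, ← show t • φ.inv.app U (1 : Γ(X.left, U)) = z from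
      Eq.trans (congrArg (t • ·) (H10Coh.mres_self _ le_rfl _).symm) ht, H29Blow.idealSect_smul, hσ]
    exact Ideal.mul_mem_left _ t (Ideal.mem_span_singleton_self _)
  have hr0 : r ≠ 0 := by
    rintro rfl
    obtain ⟨l⟩ : Nonempty (Fin n) := ⟨⟨0, hne⟩⟩
    let x := Models.genPtOf R X (Γ l)
    obtain ⟨V, hV, hxV, -⟩ := exists_isAffineOpen_mem_and_subset (U := (⊤ : X.left.Opens)) (x := x) trivial
    haveI := (ufd_stalk hreg x).1
    haveI : ∀ x : X.left, IsDomain (X.left.presheaf.stalk x) := fun x => (ufd_stalk hreg x).1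
    obtain ⟨g, hg0, hg⟩ := exists_gen_of_isEffCartierIdeal hE x ⟨V, hV⟩ hxV
    rw [stalkId, hgen V hV, Ideal.map_span, Set.image_singleton, baseSect, map_zero, map_zero, map_zero,
      Ideal.span_singleton_eq_span_singleton] at hg
    exact hg0 (hg.symm.eq_zero_iff.2 rfl)
  obtain ⟨c, hc⟩ := IsDiscreteValuationRing.associated_pow_irreducible hr0 hϖ
  refine ⟨c, fun j => congrFun (exponent_unique hreg hΓ (e := e) (e' := fun j => c * Models.mult R X (Γ j)) ?_) j⟩
  rw [show ∏ j, (Γ j).ι.ker ^ (c * Models.mult R X (Γ j)) = Models.specialFibreIdeal R X ^ c by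
    rw [specialFibreIdeal_eq_prod hreg hΓ, ← Finset.prod_pow]
    exact Finset.prod_congr rfl fun j _ => by rw [← pow_mul, mul_comm]]
  refine Scheme.IdealSheafData.ext (funext fun U => ?_)
  show E.ideal U = _
  rw [hgen U.1 U.2, Scheme.IdealSheafData.ideal_pow, Pi.pow_apply, specialFibreIdeal_ideal' hϖ.maximalIdeal_eq,
    Ideal.span_singleton_pow]
  let ψ : R →+* Γ(X.left, U.1) :=
    (X.hom.appLE ⊤ U.1 le_top).hom.comp (Scheme.ΓSpecIso (CommRingCat.of R)).inv.hom
  show Ideal.span {ψ r} = Ideal.span {ψ ϖ ^ c}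
  rw [← map_pow]
  exact le_antisymm (Ideal.span_singleton_le_span_singleton.2 (map_dvd ψ hc.symm.dvd))
    (Ideal.span_singleton_le_span_singleton.2 (map_dvd ψ hc.dvd))

end Vertical

end Groth.Agent.H28Vert
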