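import Groth.Agent.H28Vert.PicVert
import Groth.Agent.LeadFF.Coh

/-!
# The sequence of multiplication by a uniformizer
-/

set_option autoImplicit false
set_option linter.style.haveILetI false
set_option backward.isDefEq.respectTransparency.types false
universe u

open CategoryTheory CategoryTheory.Limits AlgebraicGeometry Opposite TopologicalSpace

namespace Groth.Agent.H28Vert

variable {R : Type u} [CommRing R] [IsDomain R] [IsDiscreteValuationRing R]
  {X : Over (Spec (CommRingCat.of R))} [Flat X.hom]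

/-- Multiplication by a uniformizer identifies the functions with the ideal of the closed fibre. -/
theorem exists_iso_idealMod_baseMul {ϖ : R} (hϖ : Irreducible ϖ) :
    ∃ s : Coh.structureModule X.left ⟶ kernel (ClSub.toSubscheme (Models.specialFibreIdeal R X)),
      IsIso s ∧ s ≫ kernel.ι _ = baseMul X ϖ := by
  let I := Models.specialFibreIdeal R X
  have hmem : ∀ (U : X.left.Opens) (hU : IsAffineOpen U), baseSect X ϖ U ∈ I.ideal ⟨U, hU⟩ := fun U hU => by
    rw [specialFibreIdeal_ideal' hϖ.maximalIdeal_eq]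
    exact Ideal.mem_span_singleton_self _
  have hbπ : baseMul X ϖ ≫ ClSub.toSubscheme I = 0 := by
    refine Scheme.Modules.hom_ext _ _ fun W => ?_
    ext c
    refine H11Tilde.eq_of_locally _ _ fun x hx => ?_
    obtain ⟨U, hU, hxU, hUW⟩ := exists_isAffineOpen_mem_and_subset hx
    refine ⟨U, hUW, hxU, ?_⟩
    rw [← H11Tilde.app_map_apply, ← H11Tilde.app_map_apply]
    exact ((H17.IdealPair.app_eq_zero_iff I hU _).2 (Ideal.mul_mem_right _ _ (hmem U hU))).trans rfl
  have hI : BlowUp.IsEffCartierIdeal I := fun x => by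
    obtain ⟨U, hU, hxU, -⟩ := exists_isAffineOpen_mem_and_subset (U := (⊤ : X.left.Opens)) (x := x) trivial
    exact ⟨⟨U, hU⟩, hxU, _, mem_nonZeroDivisors_iff_left.2 fun a ha =>
      baseSect_mul_cancel hϖ.ne_zero hU (ha.trans (mul_zero _).symm), specialFibreIdeal_ideal' hϖ.maximalIdeal_eq _⟩
  refine ⟨kernel.lift (ClSub.toSubscheme I) (baseMul X ϖ) hbπ, ?_, kernel.lift_ι _ _ _⟩
  refine H11Tilde.isIso_of_gen (N := ClSub.idealMod I) _ fun x => ?_
  obtain ⟨U, hU, hxU, -⟩ := exists_isAffineOpen_mem_and_subset (U := (⊤ : X.left.Opens)) (x := x) trivial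
  refine ⟨U, (1 : Γ(X.left, U)), hxU, H11Ample.isGen_one U, isGen_idealSect hI hU ?_⟩
  rw [specialFibreIdeal_ideal' hϖ.maximalIdeal_eq]
  refine congrArg (fun c => Ideal.span {c}) ?_
  show _ = (kernel.lift (ClSub.toSubscheme I) (baseMul X ϖ) hbπ ≫ ClSub.idealModι I).app U (1 : Γ(X.left, U))
  rw [show kernel.lift (ClSub.toSubscheme I) (baseMul X ϖ) hbπ ≫ ClSub.idealModι I = baseMul X ϖ from
    kernel.lift_ι _ _ _]
  exact (mul_one (baseSect X ϖ U : Γ(X.left, U))).symm

variable {C : Type*} [Category C] [Abelian C] [HasExt C] {A : C} {S : ShortComplex C} (hS : S.ShortExact)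

theorem ext_g_comp_extClass (t : Abelian.Ext A S.X₂ 0) :
    (t.comp (Abelian.Ext.mk₀ S.g) (add_zero 0)).comp hS.extClass (zero_add 1) = 0 := by simp

theorem ext_extClass_comp_f (z : Abelian.Ext A S.X₃ 0) :
    (z.comp hS.extClass (zero_add 1)).comp (Abelian.Ext.mk₀ S.f) (add_zero 1) = 0 := by simp

end Groth.Agent.H28Vert
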