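import Groth.Agent.H28Vert.Filtration

/-!
# Restriction between quotients of the structure sheaf
-/

set_option autoImplicit false
set_option linter.style.haveILetI false
set_option backward.isDefEq.respectTransparency.types false
universe u

open CategoryTheory CategoryTheory.Limits AlgebraicGeometry Opposite TopologicalSpace

namespace Groth.Agent.H28Vert

variable {X : Scheme.{u}}

/-- The restriction of functions from a closed subscheme to a smaller one. -/
noncomputable def quotRes {A B : X.IdealSheafData} (h : A ≤ B) : ClSub.quotMod A ⟶ ClSub.quotMod B :=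
  haveI := H10Coh.epi_toSubscheme A
  ((H10Coh.shortExact_kernel (ClSub.toSubscheme A)).gIsCokernel).desc
    (CokernelCofork.ofπ (ClSub.toSubscheme B) (le_of_ideal h))

theorem toSubscheme_quotRes {A B : X.IdealSheafData} (h : A ≤ B) :
    ClSub.toSubscheme A ≫ quotRes h = ClSub.toSubscheme B :=
  haveI := H10Coh.epi_toSubscheme A
  ((H10Coh.shortExact_kernel (ClSub.toSubscheme A)).gIsCokernel).fac _ WalkingParallelPair.one

theorem quotRes_unique {A B : X.IdealSheafData} (h : A ≤ B) (q : ClSub.quotMod A ⟶ ClSub.quotMod B)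
    (hq : ClSub.toSubscheme A ≫ q = ClSub.toSubscheme B) : q = quotRes h := by
  haveI := H10Coh.epi_toSubscheme A
  rw [← cancel_epi (ClSub.toSubscheme A), hq, toSubscheme_quotRes]

theorem quotRes_self {A : X.IdealSheafData} (h : A ≤ A) : quotRes h = 𝟙 _ :=
  (quotRes_unique h (𝟙 _) (Category.comp_id _)).symm

theorem quotRes_comp {A B C : X.IdealSheafData} (h : A ≤ B) (h' : B ≤ C) :
    quotRes h ≫ quotRes h' = quotRes (h.trans h') :=
  quotRes_unique _ _ (by rw [← Category.assoc, toSubscheme_quotRes, toSubscheme_quotRes])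

theorem quotRes_app {A B : X.IdealSheafData} (h : A ≤ B) (U : X.Opens) (c : Γ(X, U)) :
    (quotRes h).app U (A.subschemeι.app U c) = (B.subschemeι.app U c : Γ(ClSub.quotMod B, U)) :=
  congr($(congrArg (fun f => Scheme.Modules.Hom.app f U) (toSubscheme_quotRes h)) c)

theorem quotRes_top_eq_zero {A : X.IdealSheafData} (h : A ≤ (⊤ : X.IdealSheafData)) (f : Γ(ClSub.quotMod A, ⊤)) :
    (quotRes h).app ⊤ f = 0 := by
  refine H11Tilde.eq_of_locally _ _ fun x _ => ?_
  obtain ⟨U, hU, hxU, -⟩ := exists_isAffineOpen_mem_and_subset (U := (⊤ : X.Opens)) (x := x) trivial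
  refine ⟨U, le_top, hxU, ?_⟩
  obtain ⟨c, hc⟩ := A.subschemeι_app_surjective ⟨U, hU⟩
    ((ClSub.quotMod A).presheaf.map (homOfLE (le_top : U ≤ ⊤)).op f)
  rw [map_zero]
  refine (H11Tilde.app_map_apply (quotRes h) (le_top : U ≤ ⊤) f).symm.trans ?_
  rw [← hc, quotRes_app]
  refine (H17.IdealPair.app_eq_zero_iff (⊤ : X.IdealSheafData) hU c).2 ?_
  rw [Scheme.IdealSheafData.ideal_top]
  trivial

/-- A function on a closed subscheme is invertible when its restrictions to covering closed subschemes are. -/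
theorem isUnit_of_quotRes {ι : Type*} (A : X.IdealSheafData) (B : ι → X.IdealSheafData) (h : ∀ i, A ≤ B i)
    (hcov : ∀ x ∈ (A.support : Set X), ∃ i, x ∈ ((B i).support : Set X)) (f : Γ(A.subscheme, ⊤))
    (hu : ∀ i, IsUnit (show Γ((B i).subscheme, ⊤) from (quotRes (h i)).app ⊤ (show Γ(ClSub.quotMod A, ⊤) from f))) :
    IsUnit f := by
  refine RingedSpace.isUnit_of_isUnit_germ A.subscheme.toSheafedSpace ⊤ f fun w _ => ?_
  let x := A.subschemeι w
  obtain ⟨i, hxi⟩ := hcov x (A.range_subschemeι.le ⟨w, rfl⟩)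
  obtain ⟨v, hv⟩ : x ∈ Set.range (B i).subschemeι := (B i).range_subschemeι.ge hxi
  obtain ⟨U, hU, hxU, -⟩ := exists_isAffineOpen_mem_and_subset (U := (⊤ : X.Opens)) (x := x) trivial
  obtain ⟨c, hc⟩ := A.subschemeι_app_surjective ⟨U, hU⟩
    ((ClSub.quotMod A).presheaf.map (homOfLE (le_top : U ≤ ⊤)).op f)
  have hvU : (B i).subschemeι v ∈ U := hv.symm ▸ hxU
  have hcb : (B i).subschemeι.app U c =
      (ClSub.quotMod (B i)).presheaf.map (homOfLE (le_top : U ≤ ⊤)).op ((quotRes (h i)).app ⊤ f) := by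
    refine (quotRes_app (h i) U c).symm.trans ?_
    rw [hc]
    exact H11Tilde.app_map_apply (quotRes (h i)) (le_top : U ≤ ⊤) f
  have hu2 : IsUnit ((B i).subscheme.presheaf.germ ((B i).subschemeι ⁻¹ᵁ U) v hvU ((B i).subschemeι.app U c)) := by
    rw [hcb]
    exact ((hu i).map ((B i).subscheme.presheaf.map ((Opens.map (B i).subschemeι.base).map
      (homOfLE (le_top : U ≤ ⊤))).op).hom).map ((B i).subscheme.presheaf.germ _ v hvU).hom
  rw [← Scheme.Hom.germ_stalkMap_apply] at hu2
  have h3 := (isUnit_map_iff ((B i).subschemeι.stalkMap v).hom _).1 hu2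
  have key : ∀ (y : X) (_ : y = x) (hy : y ∈ U), IsUnit (X.presheaf.germ U y hy c) →
      IsUnit (X.presheaf.germ U x hxU c) := by
    rintro y rfl hy h'; exact h'
  have hu3 := ((key _ hv hvU h3)).map (A.subschemeι.stalkMap w).hom
  erw [Scheme.Hom.germ_stalkMap_apply] at hu3
  rw [show A.subschemeι.app U c =
    (ClSub.quotMod A).presheaf.map (homOfLE (le_top : U ≤ ⊤)).op f from hc] at hu3
  refine (iff_of_eq (congrArg IsUnit ?_)).1 hu3
  exact TopCat.Presheaf.germ_res_apply A.subscheme.presheaf _ _ _ _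

variable {C : Scheme.{u}}

/-- A function vanishing on `A` but not on `A·I_C` gives a non-zero section of `I_A|_C`. -/
theorem exists_section_of_quotRes (ι : C ⟶ X) [IsClosedImmersion ι] (hB : BlowUp.IsEffCartierIdeal ι.ker)
    {A E : X.IdealSheafData} (hA : BlowUp.IsEffCartierIdeal A) (hE : E = A * ι.ker) (hle : E ≤ A)
    (f : Γ(ClSub.quotMod E, ⊤)) (hf : f ≠ 0) (h0 : (quotRes hle).app ⊤ f = 0) :
    ∃ s : Γ((Scheme.Modules.pullback ι).obj (ClSub.idealMod A), ι ⁻¹ᵁ ⊤), s ≠ 0 := by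
  subst hE
  obtain ⟨q, hq, hepi, ⟨e⟩⟩ := exists_quot ι hB A hA
  haveI := hepi
  rw [← quotRes_unique hle q hq] at h0
  obtain ⟨y, hy⟩ := H10Coh.exists_app_eq_of_exact (H10Coh.shortExact_kernel q) ⊤ f h0
  refine ⟨e.hom.app ⊤ y, fun hs => hf ?_⟩
  have hy0 : y = 0 := by
    refine Eq.trans ?_ (map_zero (e.inv.app ⊤).hom)
    refine Eq.trans ?_ (congrArg (e.inv.app ⊤) hs)
    exact (congr($(congrArg (fun k => Scheme.Modules.Hom.app k ⊤) e.hom_inv_id) y)).symm
  rw [← hy, hy0, map_zero]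

end Groth.Agent.H28Vert
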