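import Groth.Agent.H28Vert.Euler
import Groth.Agent.H06EGA9.StructureStalk
import Groth.Agent.H29Fitt.FreeLocal
import Groth.Agent.H11Sym.InvertibleInverse
import Groth.Agent.H28Vert.QuotRes

/-!
# Functions on a vertical divisor
-/

set_option autoImplicit false
set_option linter.style.haveILetI false
set_option backward.isDefEq.respectTransparency.types false
universe u

open CategoryTheory CategoryTheory.Limits AlgebraicGeometry Opposite TopologicalSpace

namespace Groth.Agent.H28Vert

open Groth.Agent.H28Int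

section Curve

variable {Y : Scheme.{u}} [IsIntegral Y]

/-- A non-zero section of an invertible module is a generator at the generic point. -/
theorem isIso_stalk_homSec {M : Y.Modules} (hM : PicF.IsInvertible M) (s : Γ(M, ⊤)) (hs : s ≠ 0) :
    IsIso ((DerSch.stalkFunctor Y (genericPoint Y)).map (H29Fitt.homSec M s)) := by
  let ξ := genericPoint Y
  have hgerm : ∀ (U : Y.Opens) (e : Γ(M, U)), H11Tilde.IsGen M e →
      ∃ a : Γ(Y, U), M.presheaf.map (homOfLE le_top).op s = a • e := fun U e he => by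
    obtain ⟨a, ha⟩ := (he.bijective (le_refl U)).2 (M.presheaf.map (homOfLE le_top).op s)
    exact ⟨a, ha.symm.trans (congrArg (a • ·) (H10Coh.mres_self M le_rfl e))⟩
  have hne : M.presheaf.germ ⊤ ξ trivial s ≠ 0 := by
    intro h0
    refine hs (H11Tilde.eq_of_locally s 0 fun x _ => ?_)
    obtain ⟨U, e, hxU, he⟩ := H11Ample.exists_gen hM x
    have hξU : ξ ∈ U := ((genericPoint_spec Y).specializes trivial).mem_open U.2 hxU
    refine ⟨U, le_top, hxU, ?_⟩
    obtain ⟨a, ha⟩ := hgerm U e he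
    have h1 : Y.presheaf.germ U ξ hξU a • M.presheaf.germ U ξ hξU e =
        (0 : Y.presheaf.stalk ξ) • M.presheaf.germ U ξ hξU e := by
      rw [zero_smul, ← H06Mod.germ_smul, ← ha, TopCat.Presheaf.germ_res_apply]
      exact h0
    have h2 := (he ξ hξU).1 h1
    have h3 : a = 0 := germ_injective_of_isIntegral Y ξ hξU (h2.trans (map_zero _).symm)
    rw [ha, h3, zero_smul, map_zero]
  obtain ⟨U, e, hξU, he⟩ := H11Ample.exists_gen hM ξ
  obtain ⟨a, ha⟩ := hgerm U e he
  have hu : IsUnit (Y.presheaf.germ U ξ hξU a) := by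
    letI : Field (Y.presheaf.stalk ξ) := inferInstanceAs (Field Y.functionField)
    refine isUnit_iff_ne_zero.2 fun h0 => hne ?_
    rw [← TopCat.Presheaf.germ_res_apply M.presheaf (homOfLE (le_top : U ≤ ⊤)) ξ hξU s, ha, H06Mod.germ_smul, h0,
      zero_smul]
  have hmap : ∀ r : Y.presheaf.stalk ξ,
      ((DerSch.stalkFunctor Y ξ).map (H29Fitt.homSec M s)).hom (r • H06EGA9.oneStalk ξ) =
        (r * Y.presheaf.germ U ξ hξU a) • M.presheaf.germ U ξ hξU e := by
    intro r
    rw [mul_smul, ← H06Mod.germ_smul, ← ha, TopCat.Presheaf.germ_res_apply]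
    refine (LinearMap.map_smul ((DerSch.stalkFunctor Y ξ).map (H29Fitt.homSec M s)).hom r _).trans
      (congrArg (r • ·) ?_)
    refine (H10Coh.germ_app (H29Fitt.homSec M s) ⊤ ξ trivial _).trans (congrArg (M.presheaf.germ ⊤ ξ trivial) ?_)
    rw [H29Fitt.homSec_app]
    exact (one_smul Γ(Y, ⊤) _).trans (H10Coh.mres_self M le_rfl s)
  refine (ConcreteCategory.isIso_iff_bijective _).2 ?_
  refine (Function.Bijective.of_comp_iff _ (H06EGA9.bijective_smul_oneStalk ξ)).1 ?_
  refine (congrArg Function.Bijective (funext fun r => ?_)).mp ((he ξ hξU).comp hu.unit.mulRight_bijective)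
  exact (hmap r).symm

variable (k : Type u) [Field k] [Y.Over (Spec (CommRingCat.of k))]
  [IsProper (Y ↘ Spec (CommRingCat.of k))]

/-- A bundle with a non-zero section has non-negative degree. -/
theorem D_nonpos_of_section (hY : topologicalKrullDim Y = 1) {M : Y.Modules} (hM : PicF.IsInvertible M)
    (s : Γ(M, ⊤)) (hs : s ≠ 0) : D k [M] (Coh.structureModule Y) ≤ 0 := by
  haveI := isNoetherian k (X := Y)
  obtain ⟨M', hM', ⟨e⟩⟩ := H11Sym.exists_inverse hM
  let ξ := genericPoint Y
  let St := DerSch.stalkFunctor Y ξ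
  let T := (DCoh.tensorBi (X := Y)).obj M'
  let μ : M' ⟶ Coh.structureModule Y := H25Euler.mulHom M' (H29Fitt.homSec M s) ≫ e.hom
  have hx : IsIso (St.map (T.map (H29Fitt.homSec M s))) := by
    have h2 : IsIso ((T ⋙ St).map (H29Fitt.homSec M s)) := by
      rw [NatIso.isIso_map_iff (H16Derived.KFlat.Stalk.leftIso M' ξ) _]
      haveI := isIso_stalk_homSec hM s hs
      exact inferInstanceAs (IsIso ((MonoidalCategory.tensorLeft _).map _))
    exact h2
  have hμ : IsIso (St.map μ) := by
    haveI := hx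
    show IsIso (St.map (H25Euler.mulHom M' (H29Fitt.homSec M s) ≫ e.hom))
    rw [H25Euler.mulHom, Functor.map_comp, Functor.map_comp, Functor.map_comp, Functor.map_comp]
    infer_instance
  have hn := H25Euler.notMem_support_kernel_cokernel μ hμ
  obtain ⟨h0, -, -⟩ := curveDeg_nonneg k hY hM hM' (H10Coh.Tw.commIso M M' ≪≫ e) μ hn.1 hn.2
  have h1 : ArSurf.curveDeg k Y M = - D k [M] (Coh.structureModule Y) := Curves.curveDeg_eq k hY hM
  omega

end Curve

variable {R : Type u} [CommRing R] [IsDomain R] [IsDiscreteValuationRing R]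
  {X : Over (Spec (CommRingCat.of R))} [IsProper X.hom] {r : ℕ} {Γ : Fin r → ArSurf.VertComp R X}
  {L : Fin r → X.left.Modules} (hL : ∀ j, ClSub.IsInverseOf (L j) (ClSub.idealMod (Γ j).ι.ker))

omit [IsProper X.hom] in
theorem divIdeal_zero : divIdeal Γ (0 : Fin r → ℕ) = ⊤ := Finset.prod_eq_one fun j _ => pow_zero _

omit [IsProper X.hom] in
theorem divIdeal_single (i : Fin r) : divIdeal Γ (fun j => if j = i then 1 else 0) = (Γ i).ι.ker := by
  rw [divIdeal, Finset.prod_eq_single i (fun j _ hj => by rw [if_neg hj, pow_zero]) (fun h =>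
    absurd (Finset.mem_univ i) h), if_pos rfl, pow_one]

omit [IsProper X.hom] in
theorem support_divIdeal (a : Fin r → ℕ) :
    ∀ x ∈ ((divIdeal Γ a).support : Set X.left), ∃ i, 1 ≤ a i ∧ x ∈ Set.range (Γ i).ι.base := by
  intro x hx
  by_contra hne
  push Not at hne
  obtain ⟨V, hV, hxV, -⟩ := exists_isAffineOpen_mem_and_subset (U := (⊤ : X.left.Opens)) (x := x) trivial
  have h1 := (Scheme.IdealSheafData.mem_support_iff_of_mem (I := divIdeal Γ a) (U := ⟨V, hV⟩) hxV).1 hx
  have h2 : stalkId (divIdeal Γ a) ⟨V, hV⟩ hxV = ⊤ := by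
    rw [divIdeal, stalkId_prod Finset.univ]
    refine (Finset.prod_eq_one fun j _ => ?_).trans Ideal.one_eq_top
    rcases Nat.eq_zero_or_pos (a j) with h | h
    · rw [h, pow_zero]
    rw [show stalkId (Γ j).ι.ker ⟨V, hV⟩ hxV = ⊤ from
      H29Blow.map_germ_eq_top_of_notMem_support _ x ⟨V, hV⟩ hxV fun h' => hne j h
        (((Γ j).ι.support_ker.trans (Γ j).ι.isClosedEmbedding.isClosed_range.closure_eq).subset h'),
      Ideal.top_pow]
    exact Ideal.one_eq_top.symm
  have h3 : stalkId (divIdeal Γ a) ⟨V, hV⟩ hxV ≤ IsLocalRing.maximalIdeal (X.left.presheaf.stalk x) := by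
    refine Ideal.map_le_iff_le_comap.2 fun b hb => ?_
    intro hbu
    exact ((X.left.mem_zeroLocus_iff _ x).1 h1 b hb) (by rw [← X.left.mem_basicOpen _ x hxV] at hbu; exact hbu)
  exact (IsLocalRing.maximalIdeal.isMaximal (X.left.presheaf.stalk x)).ne_top (top_le_iff.1 (h2 ▸ h3))

omit [IsProper X.hom] in
theorem nonempty_divIdeal {a : Fin r → ℕ} (i : Fin r) (hi : 1 ≤ a i) : Nonempty (divIdeal Γ a).subscheme := by
  let x := (Γ i).ι.base (genericPoint (Γ i).curve.left)
  have hle : divIdeal Γ a ≤ (Γ i).ι.ker := by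
    rw [← divIdeal_single i]
    exact divIdeal_antitone fun j => by
      split_ifs with h
      · exact h ▸ hi
      · exact Nat.zero_le _
  have hx : x ∈ ((divIdeal Γ a).support : Set X.left) :=
    Scheme.IdealSheafData.support_antitone hle ((Γ i).ι.support_ker.ge (subset_closure ⟨_, rfl⟩))
  obtain ⟨w, -⟩ := (divIdeal Γ a).range_subschemeι.ge hx
  exact ⟨w⟩

/-- Functions on a component form a field. -/
theorem isField_component (i : Fin r) : IsField Γ((Γ i).ι.ker.subscheme, ⊤) := by
  let k := IsLocalRing.ResidueField R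
  haveI := isProper_curve (Γ i)
  have h1 : IsField Γ((Γ i).curve.left, ⊤) := isField_of_universallyClosed k (Γ i).curve.hom
  haveI : IsIso (Γ i).ι.toImage := inferInstance
  haveI : IsIso (Γ i).ι.toImage.appTop := inferInstanceAs (IsIso ((Γ i).ι.toImage.app ⊤))
  exact MulEquiv.isField h1 (asIso (Γ i).ι.toImage.appTop).commRingCatIsoToRingEquiv.toMulEquiv

include hL in
set_option maxHeartbeats 800000 in
theorem deg_nonpos_of_quotRes (hker : ∀ j, BlowUp.IsEffCartierIdeal (Γ j).ι.ker) (i : Fin r) (a b : Fin r → ℕ)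
    (hb : b = fun j => a j + if j = i then 1 else 0) (hle : divIdeal Γ b ≤ divIdeal Γ a)
    (f : Γ(ClSub.quotMod (divIdeal Γ b), ⊤)) (hf : f ≠ 0) (h0 : (quotRes hle).app ⊤ f = 0) :
    ∑ j, (a j : ℤ) * ArSurf.inter R X (L j) (Γ i) ≤ 0 := by
  have hA : BlowUp.IsEffCartierIdeal (divIdeal Γ a) := isEffCartierIdeal_prod _ _ (fun j _ => hker j) a
  obtain ⟨s, hs⟩ := exists_section_of_quotRes (Γ i).ι (hker i) hA (hb ▸ divIdeal_succ (Γ := Γ) a i) hle f hf h0
  haveI := isProper_curve (Γ i)
  haveI : IsProper ((Γ i).curve.left ↘ Spec (CommRingCat.of (IsLocalRing.ResidueField R))) :=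
    inferInstanceAs (IsProper (Γ i).curve.hom)
  have hM : PicF.IsInvertible ((Scheme.Modules.pullback (Γ i).ι).obj (ClSub.idealMod (divIdeal Γ a))) :=
    H11Ample.isInvertible_pullback _ (H29Blow.isInvertible_of_isEffCartierIdeal _ hA)
  have h1 := D_nonpos_of_section (IsLocalRing.ResidueField R) (Γ i).dim_eq hM s hs
  rw [D_pullback_divIdeal hL hker i a] at h1
  exact h1

include hL in
/-- The functions on a vertical divisor form a field, when no proper part of it has non-positive degrees. -/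
theorem isField_globalSections (hker : ∀ j, BlowUp.IsEffCartierIdeal (Γ j).ι.ker) (hr : 0 < r) (z : Fin r → ℕ)
    (hz : ∀ i, 1 ≤ z i)
    (hcomb : ∀ a : Fin r → ℕ, (∀ i, a i ≤ z i) → a ≠ z →
      (∀ i, a i < z i → ∑ j, (a j : ℤ) * ArSurf.inter R X (L j) (Γ i) ≤ 0) → a = 0) :
    IsField ↑Γ((divIdeal Γ z).subscheme, ⊤) := by
  classical
  haveI := nonempty_divIdeal (Γ := Γ) ⟨0, hr⟩ (hz ⟨0, hr⟩)
  haveI : Nonempty (⊤ : (divIdeal Γ z).subscheme.Opens) := ⟨⟨Classical.arbitrary _, trivial⟩⟩
  haveI := (divIdeal Γ z).subscheme.component_nontrivial ⊤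
  refine ⟨⟨0, 1, zero_ne_one⟩, mul_comm, fun {f} hf => ?_⟩
  suffices hu : IsUnit f from hu.exists_right_inv
  let F : Γ(ClSub.quotMod (divIdeal Γ z), ⊤) := f
  let res : ∀ a : Fin r → ℕ, (∀ i, a i ≤ z i) → Γ(ClSub.quotMod (divIdeal Γ a), ⊤) := fun a ha =>
    (quotRes (divIdeal_antitone ha)).app ⊤ F
  let S : Finset (Fin r → ℕ) := (Fintype.piFinset fun i => Finset.range (z i + 1)).filter
    fun a => ∀ ha : ∀ i, a i ≤ z i, res a ha = 0
  have hS : ∀ a, a ∈ S ↔ (∀ i, a i ≤ z i) ∧ ∀ ha : ∀ i, a i ≤ z i, res a ha = 0 := fun a => by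
    simp [S, Nat.lt_succ_iff]
  have h0S : (0 : Fin r → ℕ) ∈ S := by
    refine (hS 0).2 ⟨fun i => Nat.zero_le _, fun ha => ?_⟩
    have key : ∀ (I : X.left.IdealSheafData) (h : divIdeal Γ z ≤ I), I = ⊤ → (quotRes h).app ⊤ F = 0 := by
      rintro I h rfl
      exact quotRes_top_eq_zero h F
    exact key _ _ divIdeal_zero
  obtain ⟨a, haS, hmax⟩ := S.exists_max_image (fun a => ∑ i, a i) ⟨0, h0S⟩
  obtain ⟨haz, hazero⟩ := (hS a).1 haS
  have hane : a ≠ z := by
    rintro rfl
    refine hf ?_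
    have h1 := hazero haz
    simp only [res, quotRes_self] at h1
    exact h1
  have hstep : ∀ i, a i < z i → ∀ b, b = (fun j => a j + if j = i then 1 else 0) → ∀ hb : ∀ j, b j ≤ z j,
      res b hb ≠ 0 := by
    intro i hi b hb hbz h0
    have hbS : b ∈ S := (hS b).2 ⟨hbz, fun _ => h0⟩
    have h1 := hmax b hbS
    subst hb
    simp only [Finset.sum_add_distrib, Finset.sum_ite_eq', Finset.mem_univ, if_true] at h1
    omega
  have hdeg : ∀ i, a i < z i → ∑ j, (a j : ℤ) * ArSurf.inter R X (L j) (Γ i) ≤ 0 := by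
    intro i hi
    have hbz : ∀ j, (a j + if j = i then 1 else 0) ≤ z j := fun j => by
      split_ifs with h
      · subst h; omega
      · exact haz j
    refine deg_nonpos_of_quotRes hL hker i a _ rfl (divIdeal_antitone fun j => Nat.le_add_right _ _)
      (res _ hbz) (hstep i hi _ rfl hbz) ?_
    refine (?_ : _ = res a haz).trans (hazero haz)
    exact (congr($(congrArg (fun g => Scheme.Modules.Hom.app g ⊤)
      (quotRes_comp (divIdeal_antitone hbz) (divIdeal_antitone fun j => Nat.le_add_right _ _))) F))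
  have ha0 := hcomb a haz hane hdeg
  subst ha0
  refine isUnit_of_quotRes (divIdeal Γ z) (fun i => divIdeal Γ (fun j => if j = i then 1 else 0))
    (fun i => divIdeal_antitone fun j => ?_) (fun x hx => ?_) f fun i => ?_
  · split_ifs with h
    · exact hz j
    · exact Nat.zero_le _
  · obtain ⟨i, -, hi⟩ := support_divIdeal z x hx
    refine ⟨i, ?_⟩
    rw [divIdeal_single]
    exact (Γ i).ι.support_ker.ge (subset_closure hi)
  · have hne := hstep i (hz i) (fun j => if j = i then 1 else 0) (funext fun j => (Nat.zero_add _).symm)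
      (fun j => by split_ifs <;> [exact hz j; exact Nat.zero_le _])
    have hfield : IsField Γ((divIdeal Γ (fun j => if j = i then 1 else 0)).subscheme, ⊤) := by
      rw [divIdeal_single]
      exact isField_component i
    letI := hfield.toField
    exact isUnit_iff_ne_zero.2 hne

end Groth.Agent.H28Vert
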