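import Groth.Agent.H28Vert.Euler
import Groth.Agent.H28Bc.FieldPoint
import Groth.Agent.H06EGA9.StructureStalk

/-!
# The genus formula
-/

set_option autoImplicit false
set_option linter.style.haveILetI false
set_option backward.isDefEq.respectTransparency.types false
universe u

open CategoryTheory CategoryTheory.Limits AlgebraicGeometry Opposite TopologicalSpace

namespace Groth.Agent.H28Vert

open Groth.Agent.H28Int

variable {R : Type u} [CommRing R] [IsDomain R] [IsDiscreteValuationRing R]
  {X : Over (Spec (CommRingCat.of R))}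

/-- Constant global functions give a one dimensional `H^0`. -/
theorem finrank_HH0_of_isIso (K : Type u) [Field K] {C : Scheme.{u}} [C.Over (Spec (CommRingCat.of K))]
    (h : IsIso (C ↘ Spec (CommRingCat.of K)).appTop) :
    Module.finrank K (Coh.HH C (Coh.structureModule C) 0) = 1 := by
  let f := C ↘ Spec (CommRingCat.of K)
  let ψ : K →+* Γ(C, ⊤) := Coh.toGlobal f
  have hψ : Function.Bijective ψ := by
    haveI := h
    exact (ConcreteCategory.bijective_of_isIso f.appTop).comp
      (ConcreteCategory.bijective_of_isIso (Scheme.ΓSpecIso (CommRingCat.of K)).inv)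
  let e : Coh.HH C (Coh.structureModule C) 0 ≃+ K :=
    (H10Coh.HH0Equiv (Coh.structureModule C)).trans (RingEquiv.ofBijective ψ hψ).symm.toAddEquiv
  have hlin : ∀ (r : K) x, e (r • x) = r • e x := by
    intro r x
    refine (RingEquiv.ofBijective ψ hψ).injective ?_
    refine ((RingEquiv.ofBijective ψ hψ).apply_symm_apply _).trans ?_
    refine (H10Coh.HH0Equiv_smul (Coh.structureModule C) (Coh.toGlobal f r) x).trans ?_
    rw [smul_eq_mul, map_mul]
    show _ = ψ r * RingEquiv.ofBijective ψ hψ ((RingEquiv.ofBijective ψ hψ).symm _)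
    rw [RingEquiv.apply_symm_apply]
    rfl
  exact (LinearEquiv.finrank_eq ({ e with map_smul' := hlin } :
    Coh.HH C (Coh.structureModule C) 0 ≃ₗ[K] K)).trans (Module.finrank_self K)

variable [IsProper X.hom]

theorem chiLen_top (hd : topologicalKrullDim ↥(pullback X.hom (closedPt R)) ≤ ((1 : ℕ) : WithBot ℕ∞)) :
    chiLen R X (ClSub.quotMod (⊤ : X.left.IdealSheafData)) = 0 := by
  let k := IsLocalRing.ResidueField R
  haveI := isNoetherian k (X := pullback X.hom (closedPt R))
  obtain ⟨G, hG, ⟨e⟩, hχ⟩ := exists_fibre_quot hd ⊤ le_top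
  have hzero : IsZero (ClSub.quotMod (⊤ : X.left.IdealSheafData)) := by
    refine H10Coh.isZero_of_sections _ fun W => subsingleton_of_forall_eq 0 fun t => ?_
    refine H11Tilde.eq_of_locally _ _ fun x hx => ?_
    obtain ⟨U, hU, hxU, hUW⟩ := exists_isAffineOpen_mem_and_subset hx
    refine ⟨U, hUW, hxU, ?_⟩
    obtain ⟨c, hc⟩ := (⊤ : X.left.IdealSheafData).subschemeι_app_surjective ⟨U, hU⟩
      ((ClSub.quotMod (⊤ : X.left.IdealSheafData)).presheaf.map (homOfLE (show U ≤ W from hUW)).op t)
    rw [map_zero]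
    refine hc.symm.trans ((H17.IdealPair.app_eq_zero_iff (⊤ : X.left.IdealSheafData) hU c).2 ?_)
    rw [Scheme.IdealSheafData.ideal_top]
    trivial
  haveI : IsIso (Scheme.Modules.pullbackPushforwardAdjunction (pullback.fst X.hom (closedPt R))).counit := by
    haveI : ∀ G, IsIso ((Scheme.Modules.pullbackPushforwardAdjunction (pullback.fst X.hom (closedPt R))).counit.app G) :=
      fun G => H16Derived.ProjFormula.isIso_counit_of_isClosedImmersion _ G
    exact NatIso.isIso_of_isIso_app _
  let hFF := (Scheme.Modules.pullbackPushforwardAdjunction (pullback.fst X.hom (closedPt R))).fullyFaithfulROfIsIsoCounit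
  have hG0 : IsZero G := by
    rw [IsZero.iff_id_eq_zero]
    exact hFF.map_injective ((hzero.of_iso e.symm).eq_of_src _ _)
  rw [← hχ, (isAddFn_euler k).zero hG0]

variable [Flat X.hom] [IsLocallyNoetherian X.left] {n : ℕ} {Γ : Fin n → ArSurf.VertComp R X}
  (hreg : Models.IsRegularScheme X.left) (hΓ : Models.IsComponentList R X Γ)
  {L : Fin n → X.left.Modules} (hL : ∀ j, ClSub.IsInverseOf (L j) (ClSub.idealMod (Γ j).ι.ker))

include hreg hΓ hL in
/-- The Euler characteristic of a vertical divisor. -/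
theorem chiLen_divIdeal : ∀ (s : ℕ) (a : Fin n → ℕ), (∑ j, a j) = s → (∀ j, a j ≤ Models.mult R X (Γ j)) →
    2 * chiLen R X (ClSub.quotMod (divIdeal Γ a)) =
      -(∑ j, ∑ l, (a j : ℤ) * (a l : ℤ) * ArSurf.inter R X (L l) (Γ j)) +
        ∑ j, (a j : ℤ) * (ArSurf.inter R X (L j) (Γ j) +
          2 * ((Models.wdeg R X (Γ j) : ℤ) - (Models.h1 R X (Γ j) : ℤ))) := by
  intro s
  induction s with
  | zero =>
    intro a hs ha
    have h0 : ∀ j, a j = 0 := fun j => (Finset.sum_eq_zero_iff.1 hs) j (Finset.mem_univ j)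
    have hdiv : divIdeal Γ a = ⊤ := by
      rw [divIdeal]
      exact Finset.prod_eq_one fun j _ => by rw [h0 j, pow_zero]
    rw [hdiv, chiLen_top (dim_fibre_le_one hΓ)]
    simp [h0]
  | succ s ih =>
    intro a hs ha
    classical
    obtain ⟨i, hi⟩ : ∃ i, a i ≠ 0 := by
      by_contra h
      push Not at h
      simp [h] at hs
    let b : Fin n → ℕ := fun j => a j - if j = i then 1 else 0
    have hab : a = fun j => b j + if j = i then 1 else 0 := by
      funext j
      show a j = a j - _ + _
      split_ifs with hj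
      · subst hj; omega
      · omega
    have hbs : ∑ j, b j = s := by
      have h1 : ∑ j, a j = ∑ j, b j + ∑ j, (if j = i then 1 else 0) := by
        rw [← Finset.sum_add_distrib]
        exact Finset.sum_congr rfl fun j _ => congrFun hab j
      rw [Finset.sum_ite_eq' Finset.univ i, if_pos (Finset.mem_univ i)] at h1
      omega
    have hb := ih b hbs fun j => (Nat.sub_le _ _).trans (ha j)
    have hstep := chiLen_succ hreg hΓ hL b i (fun j => by
      exact (congrFun hab j).symm.trans_le (ha j))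
    rw [← hab] at hstep
    have hsymm : ∀ j l, ArSurf.inter R X (L j) (Γ l) = ArSurf.inter R X (L l) (Γ j) := fun j l =>
      inter_symm' hΓ hL l j
    have hz : ∀ j, (a j : ℤ) = (b j : ℤ) + if j = i then 1 else 0 := fun j => by
      rw [congrFun hab j]; push_cast; rfl
    simp only [hz, add_mul, mul_add, Finset.sum_add_distrib, ite_mul, mul_ite, one_mul, mul_one, zero_mul, mul_zero,
      Finset.sum_ite_irrel, Finset.sum_ite_eq', Finset.mem_univ, if_true, Finset.sum_const_zero] at hb ⊢
    have h2 : ∑ j, (b j : ℤ) * ArSurf.inter R X (L i) (Γ j) = ∑ j, (b j : ℤ) * ArSurf.inter R X (L j) (Γ i) :=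
      Finset.sum_congr rfl fun j _ => by rw [hsymm i j]
    rw [h2]
    linarith [hb, hstep]

include hreg hΓ hL in
/-- The Euler characteristic of the closed fibre. -/
theorem euler_closedFibre :
    2 * Curv2.euler (IsLocalRing.ResidueField R) (pullback X.hom (closedPt R))
        (Coh.structureModule (pullback X.hom (closedPt R))) =
      ∑ j, (Models.mult R X (Γ j) : ℤ) * (ArSurf.inter R X (L j) (Γ j) +
        2 * ((Models.wdeg R X (Γ j) : ℤ) - (Models.h1 R X (Γ j) : ℤ))) := by
  let k := IsLocalRing.ResidueField R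
  let Y := pullback X.hom (closedPt R)
  let b := pullback.fst X.hom (closedPt R)
  haveI := isNoetherian k (X := Y)
  haveI : IsProper (Y ↘ Spec (CommRingCat.of k)) := inferInstanceAs (IsProper (pullback.snd X.hom (closedPt R)))
  have hO : Coh.IsCoh (Coh.structureModule Y) := H10Coh.isCoh_structureModule' Y
  haveI : (Coh.structureModule Y).IsQuasicoherent := hO.1
  have hb : b ≫ X.hom = (Y ↘ Spec (CommRingCat.of k)) ≫ closedPt R := pullback.condition
  have h := chiLen_divIdeal hreg hΓ hL _ (fun j => Models.mult R X (Γ j)) rfl fun j => le_rfl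
  have hsum : ∑ j, ∑ l, (Models.mult R X (Γ j) : ℤ) * (Models.mult R X (Γ l) : ℤ) * ArSurf.inter R X (L l) (Γ j) = 0 := by
    rw [Finset.sum_comm]
    refine Finset.sum_eq_zero fun l _ => ?_
    have h1 := sum_mult_inter Γ hΓ l (hL l)
    calc ∑ j, (Models.mult R X (Γ j) : ℤ) * (Models.mult R X (Γ l) : ℤ) * ArSurf.inter R X (L l) (Γ j)
        = (Models.mult R X (Γ l) : ℤ) * ∑ j, (Models.mult R X (Γ j) : ℤ) * ArSurf.inter R X (L l) (Γ j) := by
          rw [Finset.mul_sum]; exact Finset.sum_congr rfl fun j _ => by ring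
      _ = 0 := by rw [h1, mul_zero]
  rw [hsum, neg_zero, zero_add] at h
  refine Eq.trans (congrArg (2 * ·) ?_) h
  rw [divIdeal, ← specialFibreIdeal_eq_prod hreg hΓ, ← ker_fst_eq]
  have he : Models.lengthH R X (ClSub.quotMod b.ker) = fun i => Module.finrank k (Coh.HH Y (Coh.structureModule Y) i) := by
    funext i
    rw [← lengthH_push b hb (Coh.structureModule Y) hO i]
    exact congrArg ENat.toNat ((LeadBC.HMod R i).mapIso (quotModKerIso b)).toLinearEquiv.length_eq
  show Curv2.euler k Y _ = chiLen R X (ClSub.quotMod b.ker)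
  rw [← eulerCharLE_eq k (dim_fibre_le_one hΓ) hO.1, FGA.eulerCharLE, chiLen, congrFun he 0, congrFun he 1]
  simp [Finset.sum_range_succ]
  ring

/-- The genus formula. -/
theorem genus_formula' {X C : Scheme.{u}} (f : C ⟶ Spec (CommRingCat.of (FractionRing R)))
    (p : X ⟶ Spec (CommRingCat.of R)) (hC : IsProper f ∧ IsIntegral C ∧ topologicalKrullDim C = 1) (hH0 : IsIso f.appTop)
    (hX : Models.IsRegularProperModel R X p C f) {n : ℕ} (Γ : Fin n → ArSurf.VertComp R (Over.mk p))
    (hΓ : Models.IsComponentList R (Over.mk p) Γ) (L : Fin n → X.Modules)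
    (hL : ∀ i, ClSub.IsInverseOf (L i) (ClSub.idealMod (Γ i).ι.ker)) :
    2 * (Models.curveGenus (FractionRing R) C f : ℤ) =
      2 + ∑ i, (Models.mult R (Over.mk p) (Γ i) : ℤ) *
        (2 * ((Models.h1 R (Over.mk p) (Γ i) : ℤ) - (Models.wdeg R (Over.mk p) (Γ i) : ℤ)) -
          ArSurf.inter R (Over.mk p) (L i) (Γ i)) := by
  obtain ⟨⟨hfl, hlft, -, g, hg⟩, hp, hreg⟩ := hX
  haveI : LocallyOfFiniteType p := hlft
  haveI : IsProper (Over.mk p).hom := hp
  haveI : Flat (Over.mk p).hom := hfl
  haveI : IsLocallyNoetherian (Over.mk p).left := LocallyOfFiniteType.isLocallyNoetherian p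
  let K := FractionRing R
  let k := IsLocalRing.ResidueField R
  letI : C.Over (Spec (CommRingCat.of K)) := ⟨f⟩
  obtain ⟨hCp, -, hCd⟩ := hC
  haveI : IsProper (C ↘ Spec (CommRingCat.of K)) := hCp
  have hfib := euler_closedFibre hreg hΓ hL
  let O := Coh.structureModule X
  have hO : Coh.IsCoh O := H10Coh.isCoh_structureModule' X
  have hfl' : FlatMod.IsFlatOver p O := fun x =>
    (H06EGA9.isFlatOverAt_structureModule_iff p x).2 (Flat.stalkMap p x)
  let b := pullback.fst (Over.mk p).hom (closedPt R)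
  have hconst := H28Bc.euler_eq_euler p O hO hfl' H06EGA9.isFP_structureModule b (closedPt R)
    (IsPullback.of_hasPullback _ _) g (Spec.map (CommRingCat.ofHom (algebraMap R K)))
    (show IsPullback g (C ↘ Spec (CommRingCat.of K)) p _ from hg)
  replace hconst := (H25Euler.euler_congr (H16Derived.KFlat.Stalk.structurePullbackIso b)).symm.trans
    (hconst.trans (H25Euler.euler_congr (H16Derived.KFlat.Stalk.structurePullbackIso g)))
  have hχC : Curv2.euler K C (Coh.structureModule C) = 1 - (Models.curveGenus K C f : ℤ) := by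
    rw [← eulerCharLE_eq K (d := 1) hCd.le H10Coh.isQuasicoherent_unit, FGA.eulerCharLE]
    simp [Finset.sum_range_succ, finrank_HH0_of_isIso K (C := C) hH0, Models.curveGenus, Models.hRank]
    ring
  rw [hconst, hχC] at hfib
  have hsum : ∑ i, (Models.mult R (Over.mk p) (Γ i) : ℤ) *
        (2 * ((Models.h1 R (Over.mk p) (Γ i) : ℤ) - (Models.wdeg R (Over.mk p) (Γ i) : ℤ)) -
          ArSurf.inter R (Over.mk p) (L i) (Γ i)) =
      - ∑ i, (Models.mult R (Over.mk p) (Γ i) : ℤ) * (ArSurf.inter R (Over.mk p) (L i) (Γ i) +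
        2 * ((Models.wdeg R (Over.mk p) (Γ i) : ℤ) - (Models.h1 R (Over.mk p) (Γ i) : ℤ))) := by
    rw [← Finset.sum_neg_distrib]
    exact Finset.sum_congr rfl fun i _ => by ring
  rw [hsum, ← hfib]
  ring

/-- The genus formula for smooth curves. -/
theorem genus_formula {X C : Scheme.{u}} (f : C ⟶ Spec (CommRingCat.of (FractionRing R)))
    (p : X ⟶ Spec (CommRingCat.of R)) (hC : Curve.IsSmoothProperCurve (FractionRing R) C f) (hH0 : IsIso f.appTop)
    (hX : Models.IsRegularProperModel R X p C f) {n : ℕ} (Γ : Fin n → ArSurf.VertComp R (Over.mk p))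
    (hΓ : Models.IsComponentList R (Over.mk p) Γ) (L : Fin n → X.Modules)
    (hL : ∀ i, ClSub.IsInverseOf (L i) (ClSub.idealMod (Γ i).ι.ker)) :
    2 * (Models.curveGenus (FractionRing R) C f : ℤ) =
      2 + ∑ i, (Models.mult R (Over.mk p) (Γ i) : ℤ) *
        (2 * ((Models.h1 R (Over.mk p) (Γ i) : ℤ) - (Models.wdeg R (Over.mk p) (Γ i) : ℤ)) -
          ArSurf.inter R (Over.mk p) (L i) (Γ i)) :=
  genus_formula' f p ⟨hC.1, hC.2.2.1, hC.2.2.2⟩ hH0 hX Γ hΓ L hL

end Groth.Agent.H28Vert
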