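import Groth.Agent.H28Vert.Fund
import Groth.Agent.H28Vert.Field
import Groth.Agent.H28Vert.Genus

/-!
# Chains of vertical divisors whose functions form fields
-/

set_option autoImplicit false
set_option linter.style.haveILetI false
set_option backward.isDefEq.respectTransparency.types false
universe u

open CategoryTheory CategoryTheory.Limits AlgebraicGeometry Opposite TopologicalSpace IsLocalRing

namespace Groth.Agent.H28Vert

/-- The global functions of a scheme proper over a Noetherian ring form a finite algebra. -/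
theorem finite_toGlobal_of_isProper {A : Type u} [CommRing A] [IsNoetherianRing A] {Z : Scheme.{u}}
    (f : Z ⟶ Spec (CommRingCat.of A)) [IsProper f] : (f.appTop.hom.comp (Scheme.ΓSpecIso (CommRingCat.of A)).inv.hom).Finite := by
  letI : Z.Over (Spec (CommRingCat.of A)) := ⟨f⟩
  haveI : IsProper (Z ↘ Spec (CommRingCat.of A)) := ‹IsProper f›
  have := H10Coh.finite_HH_proper A Z (Coh.structureModule Z) (H10Coh.isCoh_structureModule' Z) 0
  haveI : Module.Finite A (Coh.HH Z (Coh.structureModule Z) 0) := this
  letI : Algebra A Γ(Z, ⊤) := (f.appTop.hom.comp (Scheme.ΓSpecIso (CommRingCat.of A)).inv.hom).toAlgebra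
  show Module.Finite A Γ(Z, ⊤)
  let e : Coh.HH Z (Coh.structureModule Z) 0 →ₗ[A] Γ(Z, ⊤) :=
    { toFun := H10Coh.HH0Equiv (Coh.structureModule Z)
      map_add' := map_add _
      map_smul' := fun r x => by
        refine (H10Coh.HH0Equiv_smul (Coh.structureModule Z) (Coh.toGlobal f r) x).trans ?_
        rfl }
  exact Module.Finite.of_surjective e (H10Coh.HH0Equiv (Coh.structureModule Z)).surjective

variable {R : Type u} [CommRing R] [IsDomain R] [IsDiscreteValuationRing R]
  {X : Over (Spec (CommRingCat.of R))} [IsProper X.hom] [Flat X.hom]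
  {n : ℕ} {Γ : Fin n → ArSurf.VertComp R X} (hΓ : Models.IsComponentList R X Γ)
  {L : Fin n → X.left.Modules} (hL : ∀ j, ClSub.IsInverseOf (L j) (ClSub.idealMod (Γ j).ι.ker))

/-- No non-empty proper part of `z` has non-positive degree on all the components it does not fill. -/
def NoNonposPart (Γ : Fin n → ArSurf.VertComp R X) (L : Fin n → X.left.Modules) (z : Fin n → ℕ) : Prop :=
  ∀ a : Fin n → ℕ, (∀ i, a i ≤ z i) → a ≠ z →
    (∀ i, a i < z i → ∑ j, (a j : ℤ) * ArSurf.inter R X (L j) (Γ i) ≤ 0) → a = 0

include hΓ hL in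
/-- The reduced fibre has no such part. -/
theorem noNonposPart_one (hconn : _root_.IsPreconnected (Models.specialFibreSet R X)) :
    NoNonposPart Γ L (fun _ => 1) := by
  classical
  intro a haz hne hdeg
  by_contra ha0
  let I := Finset.univ.filter fun i => a i = 1
  have h01 : ∀ i, i ∉ I → a i = 0 := fun i hi => by
    have h2 : a i ≤ 1 := haz i
    simp [I] at hi
    omega
  have hI : I.Nonempty := by
    by_contra h
    exact ha0 (funext fun i => h01 i fun hi => h ⟨i, hi⟩)
  have hI' : I ≠ Finset.univ := fun h => hne (funext fun i => by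
    have := h.ge (Finset.mem_univ i)
    simpa [I] using this)
  obtain ⟨i, hi, j, hj, hij⟩ := exists_inter_ne_zero hΓ hL hconn I hI hI'
  have h1 := hdeg j (by rw [h01 j hj]; exact Nat.zero_lt_one)
  have hnn : ∀ l ∈ Finset.univ, (0 : ℤ) ≤ (a l : ℤ) * ArSurf.inter R X (L l) (Γ j) := fun l _ => by
    rcases eq_or_ne j l with rfl | hl
    · rw [h01 j hj]; simp
    · exact mul_nonneg (Int.natCast_nonneg _) (inter_offDiag hΓ hL hl).1
  have h2 := (Finset.sum_eq_zero_iff_of_nonneg hnn).1 (le_antisymm h1 (Finset.sum_nonneg hnn)) i (Finset.mem_univ i)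
  have hai : a i = 1 := by simpa [I] using hi
  rw [hai, Nat.cast_one, one_mul] at h2
  rw [inter_symm' hΓ hL i j] at hij
  exact hij h2

include hΓ hL in
/-- The property passes to `z + Γ_i` when `z · Γ_i > 0`. -/
theorem noNonposPart_add {z : Fin n → ℕ} (hz : ∀ i, 1 ≤ z i) (h : NoNonposPart Γ L z) (i : Fin n)
    (hpos : 0 < ∑ j, (z j : ℤ) * ArSurf.inter R X (L j) (Γ i)) :
    NoNonposPart Γ L (z + Pi.single i 1) := by
  classical
  intro a haz hne hdeg
  have hz' : ∀ j, (z + Pi.single i 1 : Fin n → ℕ) j = z j + if j = i then 1 else 0 := fun j => by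
    simp [Pi.single_apply]
  by_cases hi : a i ≤ z i
  · have hle : ∀ j, a j ≤ z j := fun j => by
      have := haz j
      rw [hz' j] at this
      split_ifs at this with hji
      · subst hji; exact hi
      · omega
    have hlt : ∀ j, a j < z j → a j < (z + Pi.single i 1 : Fin n → ℕ) j := fun j hj => by rw [hz' j]; omega
    by_cases hza : a = z
    · subst hza
      exact absurd (hdeg i (by rw [hz' i, if_pos rfl]; omega)) (not_le.2 hpos)
    · exact h a hle hza fun j hj => hdeg j (hlt j hj)
  · have hai : a i = z i + 1 := by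
      have := haz i
      rw [hz' i, if_pos rfl] at this
      omega
    let a' : Fin n → ℕ := fun j => if j = i then z i else a j
    have ha' : ∀ j, a j = a' j + if j = i then 1 else 0 := fun j => by
      show a j = (if j = i then z i else a j) + _
      split_ifs with hji
      · subst hji; exact hai
      · rfl
    have hle : ∀ j, a' j ≤ z j := fun j => by
      have := haz j
      rw [hz' j, ha' j] at this
      omega
    have hne' : a' ≠ z := fun hh => hne (funext fun j => by rw [hz' j, ha' j, hh])
    have h0 : a' = 0 := h a' hle hne' fun j hj => by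
      have hji : j ≠ i := by
        rintro rfl
        simp [a'] at hj
      have h1 := hdeg j (by rw [hz' j, ha' j]; omega)
      refine le_trans ?_ h1
      refine Finset.sum_le_sum fun l _ => ?_
      rcases eq_or_ne j l with rfl | hjl
      · rw [ha' j, if_neg hji, add_zero]
      · exact mul_le_mul_of_nonneg_right (Int.ofNat_le.2 ((ha' l).symm ▸ Nat.le_add_right _ _))
          (inter_offDiag hΓ hL hjl).1
    have := congrFun h0 i
    simp only [a', if_pos rfl, Pi.zero_apply] at this
    have := hz i
    omega

include hΓ hL in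
/-- A divisor below `m / d` other than it has positive degree on some component it does not fill. -/
theorem exists_pos_inter (hconn : _root_.IsPreconnected (Models.specialFibreSet R X)) (hn : 0 < n)
    {z : Fin n → ℕ} (hz : ∀ i, 1 ≤ z i) (hle : ∀ i, z i ≤ Models.mult R X (Γ i) / Models.multGcd R X Γ)
    (hne : z ≠ fun i => Models.mult R X (Γ i) / Models.multGcd R X Γ) :
    ∃ i, z i < Models.mult R X (Γ i) / Models.multGcd R X Γ ∧
      0 < ∑ j, (z j : ℤ) * ArSurf.inter R X (L j) (Γ i) := by
  by_contra! h
  have h0 := congrFun (eq_zero_of_degrees hΓ hL hconn hn z hle hne h) ⟨0, hn⟩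
  have := hz ⟨0, hn⟩
  simp only [Pi.zero_apply] at h0
  omega

include hΓ hL in
/-- A chain from `z` to `m / d` adding one component at a time. -/
theorem exists_chain (hconn : _root_.IsPreconnected (Models.specialFibreSet R X)) (hn : 0 < n) :
    ∀ (N : ℕ) (z : Fin n → ℕ), ∑ i, (Models.mult R X (Γ i) / Models.multGcd R X Γ - z i) = N →
      (∀ i, 1 ≤ z i) → (∀ i, z i ≤ Models.mult R X (Γ i) / Models.multGcd R X Γ) → NoNonposPart Γ L z →
      ∃ a : Fin (N + 1) → Fin n → ℕ, a 0 = z ∧
        (a (Fin.last N) = fun i => Models.mult R X (Γ i) / Models.multGcd R X Γ) ∧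
        (∀ j : Fin N, ∃ i, a j.succ = a j.castSucc + Pi.single i 1) ∧
        ∀ j, (∀ i, 1 ≤ a j i) ∧ NoNonposPart Γ L (a j) := by
  intro N
  induction N with
  | zero =>
    intro z hN hz hle hP
    refine ⟨fun _ => z, rfl, funext fun i => le_antisymm (hle i) ?_, fun j => j.elim0, fun _ => ⟨hz, hP⟩⟩
    exact Nat.le_of_sub_eq_zero (Finset.sum_eq_zero_iff.1 hN i (Finset.mem_univ i))
  | succ N ih =>
    intro z hN hz hle hP
    have hne : z ≠ fun i => Models.mult R X (Γ i) / Models.multGcd R X Γ := by
      rintro rfl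
      simp at hN
    obtain ⟨i, hi, hpos⟩ := exists_pos_inter hΓ hL hconn hn hz hle hne
    have hz' : ∀ j, (z + Pi.single i 1 : Fin n → ℕ) j = z j + if j = i then 1 else 0 := fun j => by
      simp [Pi.single_apply]
    have hz1 : ∀ j, 1 ≤ (z + Pi.single i 1 : Fin n → ℕ) j := fun j => by
      rw [hz' j]; exact (hz j).trans (Nat.le_add_right _ _)
    have hle1 : ∀ j, (z + Pi.single i 1 : Fin n → ℕ) j ≤ Models.mult R X (Γ j) / Models.multGcd R X Γ := fun j => by
      rw [hz' j]
      split_ifs with hji
      · subst hji; exact hi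
      · exact hle j
    have hsum : ∑ j, (Models.mult R X (Γ j) / Models.multGcd R X Γ - (z + Pi.single i 1 : Fin n → ℕ) j) = N := by
      have h1 : ∑ j, ((Models.mult R X (Γ j) / Models.multGcd R X Γ - (z + Pi.single i 1 : Fin n → ℕ) j) +
          if j = i then 1 else 0) = N + 1 := by
        rw [← hN]
        refine Finset.sum_congr rfl fun j _ => ?_
        have h2 := hle1 j
        rw [hz' j] at h2 ⊢
        split_ifs at h2 ⊢ <;> omega
      rw [Finset.sum_add_distrib, Finset.sum_ite_eq', if_pos (Finset.mem_univ i)] at h1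
      omega
    obtain ⟨a, ha0, halast, hstep, hP'⟩ := ih _ hsum hz1 hle1 (noNonposPart_add hΓ hL hz hP i hpos)
    refine ⟨Fin.cons z a, rfl, ?_, fun j => ?_, fun j => ?_⟩
    · rw [← Fin.succ_last, Fin.cons_succ]; exact halast
    · induction j using Fin.cases with
      | zero => exact ⟨i, by rw [Fin.cons_succ, ha0]; rfl⟩
      | succ j =>
        obtain ⟨l, hl⟩ := hstep j
        exact ⟨l, by rw [Fin.cons_succ, ← Fin.succ_castSucc, Fin.cons_succ]; exact hl⟩
    · induction j using Fin.cases with
      | zero => exact ⟨hz, hP⟩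
      | succ j => rw [Fin.cons_succ]; exact hP' j

end Groth.Agent.H28Vert
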