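import Mathlib

/-!
# Values of functions on connected schemes
-/

set_option autoImplicit false
set_option linter.style.haveILetI false
universe u

open CategoryTheory CategoryTheory.Limits AlgebraicGeometry Opposite TopologicalSpace IsLocalRing Polynomial

namespace Groth.Agent.H28Vert

theorem specMap_appTop_inv {A B : CommRingCat.{u}} (φ : A ⟶ B) (t : A) :
    (Spec.map φ).appTop ((Scheme.ΓSpecIso A).inv t) = (Scheme.ΓSpecIso B).inv (φ t) :=
  congr($((Scheme.ΓSpecIso_inv_naturality φ).symm) t)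

theorem isoSpec_inv_appTop_apply (N : Scheme.{u}) [IsAffine N] (n : Γ(N, ⊤)) :
    N.isoSpec.inv.appTop n = (Scheme.ΓSpecIso Γ(N, ⊤)).inv n := by
  have h : N.isoSpec.inv.appTop = (Scheme.ΓSpecIso Γ(N, ⊤)).inv := by
    have h1 : N.isoSpec.inv.appTop ≫ N.isoSpec.hom.appTop = 𝟙 _ := by
      rw [← Scheme.Hom.comp_appTop, Iso.hom_inv_id, Scheme.Hom.id_appTop]
    rw [Scheme.isoSpec_hom, Scheme.toSpecΓ_appTop] at h1
    exact (Iso.comp_hom_eq_id _).1 h1
  rw [h]

theorem fromSpecResidueField_appTop_apply (Y : Scheme.{u}) (z : Y) (c : Γ(Y, ⊤)) :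
    (Y.fromSpecResidueField z).appTop c =
      (Scheme.ΓSpecIso (Y.residueField z)).inv (Y.residue z (Y.presheaf.germ ⊤ z trivial c)) := by
  show (Spec.map (Y.residue z) ≫ Y.fromSpecStalk z).appTop c = _
  rw [Scheme.Hom.comp_appTop, Scheme.fromSpecStalk_appTop]
  simp only [Category.assoc, CommRingCat.comp_apply]
  refine (congrArg _ ?_).trans (specMap_appTop_inv (Y.residue z) _)
  rfl

/-- Two extensions of a field have a common one. -/
theorem exists_common_extension {F A B : Type u} [Field F] [Field A] [Field B] (a : F →+* A) (b : F →+* B) :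
    ∃ (T : Type u) (_ : Field T) (i : A →+* T) (j : B →+* T), ∀ c, i (a c) = j (b c) := by
  letI := a.toAlgebra
  letI := b.toAlgebra
  haveI : Nontrivial (TensorProduct F A B) := Module.FaithfullyFlat.lTensor_nontrivial F A B
  obtain ⟨M, hM⟩ := Ideal.exists_maximal (TensorProduct F A B)
  letI : Field (TensorProduct F A B ⧸ M) := Ideal.Quotient.field M
  refine ⟨TensorProduct F A B ⧸ M, inferInstance,
    (Ideal.Quotient.mk M).comp Algebra.TensorProduct.includeLeftRingHom,
    (Ideal.Quotient.mk M).comp (Algebra.TensorProduct.includeRight (R := F) (A := A) (B := B)).toRingHom,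
    fun c => congrArg (Ideal.Quotient.mk M) ?_⟩
  exact ((Algebra.TensorProduct.includeLeft (R := F) (S := F) (A := A) (B := B)).commutes c).trans
    ((Algebra.TensorProduct.includeRight (R := F) (A := A) (B := B)).commutes c).symm

/-- A function on a connected scheme which is a root of a product of distinct constant linear factors takes
only one of these values. -/
theorem eq_of_values {P : Scheme.{u}} [ConnectedSpace P] {Ω : Type u} [Field Ω] (j : Ω →+* Γ(P, ⊤))
    (w : Γ(P, ⊤)) (roots : Finset Ω) (hprod : ∏ γ ∈ roots, (w - j γ) = 0) {α β : Ω} (hα : α ∈ roots) (hβ : β ∈ roots)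
    (hzα : ∃ z, z ∉ P.basicOpen (w - j α)) (hzβ : ∃ z, z ∉ P.basicOpen (w - j β)) : α = β := by
  classical
  by_contra hne
  let Z : Ω → Set P := fun γ => (P.basicOpen (w - j γ) : Set P)ᶜ
  let e : ∀ z : P, Γ(P, ⊤) →+* P.residueField z := fun z =>
    (P.residue z).hom.comp (P.presheaf.germ ⊤ z trivial).hom
  have hZ : ∀ γ z, z ∈ Z γ ↔ e z (w - j γ) = 0 := fun γ z => by
    show ¬ z ∈ P.basicOpen (w - j γ) ↔ _
    rw [Scheme.mem_basicOpen_top, ← not_iff_not, not_not]
    exact (IsLocalRing.residue_ne_zero_iff_isUnit _).symm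
  have hcover : ∀ z : P, ∃ γ ∈ roots, z ∈ Z γ := fun z => by
    have h0 := congrArg (e z) hprod
    rw [map_zero, map_prod, Finset.prod_eq_zero_iff] at h0
    obtain ⟨γ, hγ, h⟩ := h0
    exact ⟨γ, hγ, (hZ γ z).2 h⟩
  let B : Set P := ⋃ γ ∈ roots.erase α, Z γ
  have hc : ∀ γ, IsClosed (Z γ) := fun γ => (P.basicOpen _).2.isClosed_compl
  obtain ⟨z, -, hza, hzb⟩ := isPreconnected_closed_iff.1
    (PreconnectedSpace.isPreconnected_univ (α := P)) (Z α) B (hc α) (isClosed_biUnion_finset fun γ _ => hc γ)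
    (fun z _ => by
      obtain ⟨γ, hγ, hzγ⟩ := hcover z
      rcases eq_or_ne γ α with rfl | hne'
      · exact Or.inl hzγ
      · exact Or.inr (Set.mem_biUnion (Finset.mem_erase.2 ⟨hne', hγ⟩) hzγ))
    (by obtain ⟨z, hz⟩ := hzα; exact ⟨z, trivial, hz⟩)
    (by
      obtain ⟨z, hz⟩ := hzβ
      exact ⟨z, trivial, Set.mem_biUnion (Finset.mem_erase.2 ⟨fun h => hne h.symm, hβ⟩) hz⟩)
  obtain ⟨γ, hγ, hzγ⟩ := Set.mem_iUnion₂.1 hzb
  have h1 := (hZ α z).1 hza
  have h2 := (hZ γ z).1 hzγ
  rw [map_sub] at h1 h2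
  exact (Finset.mem_erase.1 hγ).1 (((e z).comp j).injective
    ((sub_eq_zero.1 h2).symm.trans (sub_eq_zero.1 h1)))

end Groth.Agent.H28Vert
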