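import Groth.Agent.H29Blow.IdealMod
import Groth.Agent.H29Blow.Basic
import Groth.Agent.H17.IdealPairExact
import Groth.Agent.H11Ample.Basic
import Groth.Prelude.Def_KoszTw
import Groth.Prelude.Def_SecTwist

/-!
# Products of effective Cartier ideals as tensor products
-/

set_option autoImplicit false
set_option backward.isDefEq.respectTransparency.types false
universe u

open CategoryTheory CategoryTheory.Limits AlgebraicGeometry Opposite TopologicalSpace

namespace Groth.Agent.H28Vert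

variable {X : Scheme.{u}}

/-- A generator of the ideal gives a frame of the ideal module. -/
theorem isGen_idealSect {I : X.IdealSheafData} (hI : BlowUp.IsEffCartierIdeal I) {U : X.Opens}
    (hU : IsAffineOpen U) {e : Γ(ClSub.idealMod I, U)}
    (he : I.ideal ⟨U, hU⟩ = Ideal.span {OmegaSh.idealSect I U e}) : H11Tilde.IsGen (ClSub.idealMod I) e := by
  intro y hy
  obtain ⟨V, e', hyV, he'⟩ := H11Ample.exists_gen (H29Blow.isInvertible_of_isEffCartierIdeal I hI) y
  obtain ⟨W, hW, hyW, hWle⟩ := exists_isAffineOpen_mem_and_subset (U := U ⊓ V) (x := y) ⟨hy, hyV⟩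
  have hWU : W ≤ U := (le_inf_iff.1 hWle).1
  have hWV : W ≤ V := (le_inf_iff.1 hWle).2
  have hg := he'.res hWV
  let g := (ClSub.idealMod I).presheaf.map (homOfLE hWV).op e'
  let r := (ClSub.idealMod I).presheaf.map (homOfLE hWU).op e
  obtain ⟨c, hc⟩ := ((hg.bijective (le_refl W))).2 r
  have hc' : c • g = r := by
    refine Eq.trans ?_ hc
    exact congrArg (c • ·) (H10Coh.mres_self _ le_rfl g).symm
  have hideal : I.ideal ⟨W, hW⟩ = Ideal.span {OmegaSh.idealSect I W r} := by
    rw [H29Blow.ideal_eq_span_res (V := ⟨U, hU⟩) (W := ⟨W, hW⟩) hWU he]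
    exact congrArg (fun a => Ideal.span {a}) (H29Blow.idealSect_res I hWU e).symm
  obtain ⟨d, hd⟩ := Ideal.mem_span_singleton'.1
    (hideal ▸ (H29Blow.mem_ideal_iff_exists_idealSect I hW _).2 ⟨g, rfl⟩)
  have hd' : d • r = g := H29Blow.idealSect_injective I W (by rw [H29Blow.idealSect_smul]; exact hd)
  have hdc : d * c = 1 := by
    refine (hg.bijective (le_refl W)).1 ?_
    show (d * c) • _ = (1 : Γ(X, W)) • _
    rw [one_smul, mul_smul, H10Coh.mres_self _ le_rfl g, hc', hd']
  have h1 : (ClSub.idealMod I).presheaf.germ U y hy e =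
      X.presheaf.germ W y hyW c • (ClSub.idealMod I).presheaf.germ V y hyV e' := by
    have h2 : (ClSub.idealMod I).presheaf.germ W y hyW r = (ClSub.idealMod I).presheaf.germ U y hy e :=
      TopCat.Presheaf.germ_res_apply _ _ _ _ _
    have h3 : (ClSub.idealMod I).presheaf.germ W y hyW g = (ClSub.idealMod I).presheaf.germ V y hyV e' :=
      TopCat.Presheaf.germ_res_apply _ _ _ _ _
    rw [← h2, ← h3, ← hc']
    exact H06Mod.germ_smul _ _ _ _ _
  have hu : IsUnit (X.presheaf.germ W y hyW c) :=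
    (IsUnit.of_mul_eq_one (a := c) d (by rw [mul_comm]; exact hdc)).map (X.presheaf.germ W y hyW).hom
  rw [h1]
  have h := (he' y hyV).comp (hu.unit.mulRight_bijective)
  refine (congrArg Function.Bijective (funext fun t => ?_)).mp h
  show (t * (hu.unit : X.presheaf.stalk y)) • _ = t • (_ • _)
  rw [IsUnit.unit_spec, mul_smul]

/-- Frames of two effective Cartier ideals on a common affine. -/
theorem exists_common_gen {A B : X.IdealSheafData} (hA : BlowUp.IsEffCartierIdeal A)
    (hB : BlowUp.IsEffCartierIdeal B) {x : X} {W : X.Opens} (hx : x ∈ W) :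
    ∃ (U : X.Opens) (hU : IsAffineOpen U) (a : Γ(ClSub.idealMod A, U)) (b : Γ(ClSub.idealMod B, U)),
      x ∈ U ∧ U ≤ W ∧
      OmegaSh.idealSect A U a ∈ nonZeroDivisors Γ(X, U) ∧ OmegaSh.idealSect B U b ∈ nonZeroDivisors Γ(X, U) ∧
      A.ideal ⟨U, hU⟩ = Ideal.span {OmegaSh.idealSect A U a} ∧
      B.ideal ⟨U, hU⟩ = Ideal.span {OmegaSh.idealSect B U b} := by
  obtain ⟨V, hxV, hVW, f, hf, hfI⟩ := H29Blow.exists_gen hA hx
  obtain ⟨U, hxU, hUV, g, hg, hgI⟩ := H29Blow.exists_gen hB hxV
  obtain ⟨a, ha⟩ := (H29Blow.mem_ideal_iff_exists_idealSect A V.2 f).1 (hfI ▸ Ideal.mem_span_singleton_self f)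
  obtain ⟨b, hb⟩ := (H29Blow.mem_ideal_iff_exists_idealSect B U.2 g).1 (hgI ▸ Ideal.mem_span_singleton_self g)
  refine ⟨U.1, U.2, (ClSub.idealMod A).presheaf.map (homOfLE hUV).op a, b, hxU, hUV.trans hVW, ?_, hb ▸ hg, ?_, hb ▸ hgI⟩
  · rw [H29Blow.idealSect_res, ha]
    exact H29Blow.res_mem_nonZeroDivisors (W := U) hUV hf
  · rw [H29Blow.idealSect_res, ha]
    exact H29Blow.ideal_eq_span_res (V := V) (W := U) hUV hfI

theorem isEffCartierIdeal_mul {A B : X.IdealSheafData} (hA : BlowUp.IsEffCartierIdeal A)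
    (hB : BlowUp.IsEffCartierIdeal B) : BlowUp.IsEffCartierIdeal (A * B) := fun x => by
  obtain ⟨U, hU, a, b, hxU, -, ha, hb, hAa, hBb⟩ := exists_common_gen hA hB (W := ⊤) (x := x) trivial
  refine ⟨⟨U, hU⟩, hxU, _, mul_mem ha hb, ?_⟩
  rw [Scheme.IdealSheafData.ideal_mul, Pi.mul_apply, hAa, hBb, Ideal.span_singleton_mul_span_singleton]

theorem isEffCartierIdeal_prod {ι : Type*} (s : Finset ι) (I : ι → X.IdealSheafData)
    (h : ∀ i ∈ s, BlowUp.IsEffCartierIdeal (I i)) (e : ι → ℕ) :
    BlowUp.IsEffCartierIdeal (∏ i ∈ s, I i ^ e i) := by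
  classical
  induction s using Finset.induction with
  | empty => rw [Finset.prod_empty]; exact H29Blow.isEffCartierIdeal_top
  | insert a s ha ih =>
    rw [Finset.prod_insert ha]
    refine isEffCartierIdeal_mul ?_ (ih fun i hi => h i (Finset.mem_insert_of_mem hi))
    induction e a with
    | zero => rw [pow_zero]; exact H29Blow.isEffCartierIdeal_top
    | succ m ihm => rw [pow_succ]; exact isEffCartierIdeal_mul ihm (h a (Finset.mem_insert_self a s))

/-- The multiplication map of two ideals. -/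
noncomputable def mulMap (A B : X.IdealSheafData) :
    CohB1.tensorMod (ClSub.idealMod A) (ClSub.idealMod B) ⟶ Coh.structureModule X :=
  KoszTw.tensorMap (ClSub.idealModι A) (ClSub.idealModι B) ≫ (SecTwist.unitorR (Coh.structureModule X)).hom

theorem mulMap_tmul (A B : X.IdealSheafData) (U : X.Opens) (a : Γ(ClSub.idealMod A, U))
    (b : Γ(ClSub.idealMod B, U)) :
    (mulMap A B).app U (SecTwist.tmul _ _ U a b) =
      (OmegaSh.idealSect B U b * OmegaSh.idealSect A U a : Γ(X, U)) := by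
  refine Eq.trans (congrArg ((SecTwist.unitorR (Coh.structureModule X)).hom.app U)
    (KoszTw.tensorMap_tmul (ClSub.idealModι A) (ClSub.idealModι B) U a b)) ?_
  exact SecTwist.unitorR_tmul (Coh.structureModule X) U _ _

/-- The ideal module of a product is the tensor product of the ideal modules. -/
theorem nonempty_idealMod_mul {A B : X.IdealSheafData} (hA : BlowUp.IsEffCartierIdeal A)
    (hB : BlowUp.IsEffCartierIdeal B) :
    Nonempty (CohB1.tensorMod (ClSub.idealMod A) (ClSub.idealMod B) ≅ ClSub.idealMod (A * B)) := by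
  have hideal : ∀ (U : X.Opens) (hU : IsAffineOpen U) (a : Γ(ClSub.idealMod A, U)) (b : Γ(ClSub.idealMod B, U)),
      OmegaSh.idealSect B U b * OmegaSh.idealSect A U a ∈ (A * B).ideal ⟨U, hU⟩ := fun U hU a b => by
    rw [Scheme.IdealSheafData.ideal_mul, Pi.mul_apply, mul_comm (OmegaSh.idealSect B U b)]
    exact Ideal.mul_mem_mul ((H29Blow.mem_ideal_iff_exists_idealSect A hU _).2 ⟨a, rfl⟩)
      ((H29Blow.mem_ideal_iff_exists_idealSect B hU _).2 ⟨b, rfl⟩)
  have w : mulMap A B ≫ ClSub.toSubscheme (A * B) = 0 := by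
    refine Scheme.Modules.hom_ext _ _ fun W => ?_
    ext t
    refine H11Tilde.eq_of_locally _ _ fun x hx => ?_
    obtain ⟨U, hU, a, b, hxU, hUW, -, -, hAa, hBb⟩ := exists_common_gen hA hB hx
    refine ⟨U, hUW, hxU, ?_⟩
    rw [← H11Tilde.app_map_apply, ← H11Tilde.app_map_apply]
    obtain ⟨r, hr⟩ := ((H11Ample.isGen_tm (isGen_idealSect hA hU hAa) (isGen_idealSect hB hU hBb)).bijective
      (le_refl U)).2 ((CohB1.tensorMod (ClSub.idealMod A) (ClSub.idealMod B)).presheaf.map (homOfLE hUW).op t)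
    have hr' : r • SecTwist.tmul _ _ U a b =
        (CohB1.tensorMod (ClSub.idealMod A) (ClSub.idealMod B)).presheaf.map (homOfLE hUW).op t :=
      Eq.trans (congrArg (r • ·) (H10Coh.mres_self _ le_rfl _).symm) hr
    rw [← hr']
    show (ClSub.toSubscheme (A * B)).app U ((mulMap A B).app U (r • SecTwist.tmul _ _ U a b)) = _
    refine (congrArg ((ClSub.toSubscheme (A * B)).app U) ((Scheme.Modules.Hom.app_smul (mulMap A B) r _).trans
      (congrArg (r • ·) (mulMap_tmul A B U a b)))).trans ?_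
    exact ((H17.IdealPair.app_eq_zero_iff _ hU _).2 (Ideal.mul_mem_left _ r (hideal U hU a b))).trans rfl
  let φ : CohB1.tensorMod (ClSub.idealMod A) (ClSub.idealMod B) ⟶ ClSub.idealMod (A * B) :=
    kernel.lift (ClSub.toSubscheme (A * B)) (mulMap A B) w
  haveI : IsIso φ := by
    refine H11Tilde.isIso_of_gen φ fun x => ?_
    obtain ⟨U, hU, a, b, hxU, -, -, -, hAa, hBb⟩ := exists_common_gen hA hB (W := ⊤) (x := x) trivial
    refine ⟨U, _, hxU, H11Ample.isGen_tm (isGen_idealSect hA hU hAa) (isGen_idealSect hB hU hBb),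
      isGen_idealSect (isEffCartierIdeal_mul hA hB) hU ?_⟩
    rw [Scheme.IdealSheafData.ideal_mul, Pi.mul_apply, hAa, hBb, Ideal.span_singleton_mul_span_singleton]
    refine congrArg (fun c => Ideal.span {c}) ?_
    show _ = (φ ≫ ClSub.idealModι (A * B)).app U (SecTwist.tmul _ _ U a b)
    rw [show φ ≫ ClSub.idealModι (A * B) = mulMap A B from kernel.lift_ι _ _ _, mulMap_tmul]
    exact mul_comm (OmegaSh.idealSect A U a : Γ(X, U)) (OmegaSh.idealSect B U b : Γ(X, U))
  exact ⟨asIso φ⟩

end Groth.Agent.H28Vert
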