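import Groth.Agent.H28Vert.Fund

/-!
# Divisors of degree zero on all components
-/

set_option autoImplicit false
set_option linter.style.haveILetI false
set_option backward.isDefEq.respectTransparency.types false
universe u

open CategoryTheory CategoryTheory.Limits AlgebraicGeometry Opposite TopologicalSpace

namespace Groth.Agent.H28Vert

variable {R : Type u} [CommRing R] [IsDomain R] [IsDiscreteValuationRing R]
  {X : Over (Spec (CommRingCat.of R))} [IsProper X.hom] [Flat X.hom] {n : ℕ} {Γ : Fin n → ArSurf.VertComp R X}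
  (hΓ : Models.IsComponentList R X Γ)
  {L : Fin n → X.left.Modules} (hL : ∀ j, ClSub.IsInverseOf (L j) (ClSub.idealMod (Γ j).ι.ker))

include hΓ hL in
/-- Divisors of degree zero on all components are multiples of the fibre divided by the gcd. -/
theorem exists_nat_mul_of_degrees_zero (hconn : _root_.IsPreconnected (Models.specialFibreSet R X)) (hn : 0 < n)
    (a : Fin n → ℕ) (hzero : ∀ i, ∑ j, (a j : ℤ) * ArSurf.inter R X (L j) (Γ i) = 0) :
    ∃ k : ℕ, ∀ i, a i = k * (Models.mult R X (Γ i) / Models.multGcd R X Γ) := by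
  classical
  let d := Models.multGcd R X Γ
  let z : Fin n → ℕ := fun i => Models.mult R X (Γ i) / d
  have hd : 0 < d := multGcd_pos hΓ hn
  have hzm : ∀ i, d * z i = Models.mult R X (Γ i) := fun i => Nat.mul_div_cancel' (multGcd_dvd i)
  obtain ⟨c, hc⟩ := (kernel_iff hΓ hL hconn fun j => (a j : ℤ)).1 hzero
  have hc' : ∀ i, (a i : ℚ) = c * d * (z i : ℚ) := fun i => by
    have h := hc i
    rw [← hzm i] at h
    push_cast at h ⊢
    linarith
  have hgcd : Finset.univ.gcd z = 1 :=
    Finset.gcd_div_eq_one (f := fun i => Models.mult R X (Γ i)) (Finset.mem_univ (⟨0, hn⟩ : Fin n))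
      (mult_pos hΓ _).ne'
  have hden : ∀ i, ((c * d).den : ℤ) ∣ (z i : ℤ) := fun i => by
    have h := hc' i
    rw [← Rat.num_div_den (c * d), div_mul_eq_mul_div, eq_div_iff (by exact_mod_cast (c * d).den_pos.ne')] at h
    have h2 : (a i : ℤ) * ((c * d).den : ℤ) = (c * d).num * (z i : ℤ) := by exact_mod_cast h
    have hcop : IsCoprime ((c * d).den : ℤ) (c * d).num := by
      rw [Int.isCoprime_iff_nat_coprime]
      exact (c * d).reduced.symm
    exact hcop.dvd_of_dvd_mul_left ⟨(a i : ℤ), by rw [← h2, mul_comm]⟩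
  have hden1 : (c * d).den = 1 := Nat.dvd_one.1 (hgcd ▸ Finset.dvd_gcd fun i _ => Int.natCast_dvd_natCast.1 (hden i))
  have hp : ∀ i, (a i : ℤ) = (c * d).num * (z i : ℤ) := fun i => by
    have h := hc' i
    rw [← Rat.num_div_den (c * d), hden1, Nat.cast_one, div_one] at h
    exact_mod_cast h
  have hnn : 0 ≤ (c * d).num := by
    by_contra hneg
    have hpos : 0 < z ⟨0, hn⟩ := Nat.pos_of_ne_zero fun h => (mult_pos hΓ _).ne' (by rw [← hzm, h, mul_zero])
    have := hp ⟨0, hn⟩
    nlinarith [Int.natCast_nonneg (a ⟨0, hn⟩)]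
  refine ⟨(c * d).num.toNat, fun i => ?_⟩
  have h := hp i
  rw [← Int.toNat_of_nonneg hnn] at h
  exact_mod_cast h

end Groth.Agent.H28Vert
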