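import Groth.Agent.H28Vert.PicInter
import Groth.Agent.H28Vert.DegZero

/-!
# The subgroup of the Picard group generated by the vertical divisors
-/

set_option autoImplicit false
set_option linter.style.haveILetI false
set_option backward.isDefEq.respectTransparency.types false
universe u

open CategoryTheory CategoryTheory.Limits AlgebraicGeometry Opposite TopologicalSpace

namespace Groth.Agent.H28Vert

attribute [local instance] picLaw

/-- Pullback of classes respects the product. -/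
theorem pullMul {C X : Scheme.{u}} (g : C ⟶ X) : PicGrp.PullMul g := by
  rintro c d ⟨L, rfl, hL⟩ ⟨M, rfl, hM⟩
  exact (PicGrp.cl_eq_cl_iff _ _).2 ⟨(H16Derived.KFlat.Stalk.pullTensorLIso g M).app L⟩

/-- An effective Cartier ideal becomes trivial under pullback by a map missing its support. -/
theorem nonempty_pullback_idealMod {C X : Scheme.{u}} (g : C ⟶ X) {I : X.IdealSheafData}
    (hI : BlowUp.IsEffCartierIdeal I) (h : ∀ c : C, g c ∉ I.support) :
    Nonempty ((Scheme.Modules.pullback g).obj (ClSub.idealMod I) ≅ Coh.structureModule C) := by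
  let F := Scheme.Modules.pullback g
  have : IsIso (F.map (ClSub.idealModι I)) := by
    refine H11Tilde.isIso_of_gen (N := F.obj (Coh.structureModule X)) _ fun c => ?_
    obtain ⟨V, hV, hxV, -⟩ := exists_isAffineOpen_mem_and_subset (U := (⊤ : X.Opens)) (x := g c) trivial
    have h' : g c ∉ X.zeroLocus (U := V) (I.ideal ⟨V, hV⟩) := fun hz =>
      h c ((Scheme.IdealSheafData.mem_support_iff_of_mem (U := ⟨V, hV⟩) hxV).2 hz)
    rw [Scheme.mem_zeroLocus_iff] at h'
    push Not at h'
    obtain ⟨b, hb, hcb⟩ := h'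
    let U := X.basicOpen b
    have hU : IsAffineOpen U := hV.basicOpen b
    have htop : I.ideal ⟨U, hU⟩ = ⊤ := by
      refine Ideal.eq_top_of_isUnit_mem _ ?_ (X.toRingedSpace.isUnit_res_basicOpen b)
      exact (I.map_ideal (U := ⟨U, hU⟩) (V := ⟨V, hV⟩) (X.basicOpen_le b)).le (Ideal.mem_map_of_mem _ hb)
    obtain ⟨e, he⟩ := (H29Blow.mem_ideal_iff_exists_idealSect I hU 1).1 (htop ▸ trivial)
    have hg : H11Tilde.IsGen (ClSub.idealMod I) e := isGen_idealSect hI hU (by rw [he, htop, Ideal.span_singleton_one])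
    refine ⟨g ⁻¹ᵁ U, _, hcb, H11Tilde.IsGen.pullSect g hg, ?_⟩
    rw [← H17.PullSect.pullSect_natural]
    have h1 : (ClSub.idealModι I).app U e = (1 : Γ(X, U)) := he
    rw [h1]
    exact H11Tilde.IsGen.pullSect g (H11Ample.isGen_one U)
  exact ⟨asIso (F.map (ClSub.idealModι I)) ≪≫ H16Derived.KFlat.Stalk.structurePullbackIso g⟩

variable {R : Type u} [CommRing R] [IsDomain R] [IsDiscreteValuationRing R]

section degree

variable {X : Over (Spec (CommRingCat.of R))} [IsProper X.hom] (Δ : ArSurf.VertComp R X)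

/-- The degree on a vertical curve, as a homomorphism on the Picard group. -/
noncomputable def degHom : PicLoc.PicSet X.left →* Multiplicative ℤ where
  toFun c := Multiplicative.ofAdd (ArSurf.inter R X (PicGrp.exists_eq_cls c).choose Δ)
  map_one' := by
    obtain ⟨hL, h⟩ := (PicGrp.exists_eq_cls (1 : PicLoc.PicSet X.left)).choose_spec
    obtain ⟨e⟩ := (PicGrp.cls_eq_one_iff hL).1 h.symm
    rw [inter_congr_iso Δ hL (PicLoc.isInvertible_structureModule _) e, inter_structure]
    rfl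
  map_mul' a b := by
    obtain ⟨hL, h⟩ := (PicGrp.exists_eq_cls (a * b)).choose_spec
    obtain ⟨hA, ha⟩ := (PicGrp.exists_eq_cls a).choose_spec
    obtain ⟨hB, hb⟩ := (PicGrp.exists_eq_cls b).choose_spec
    have h2 : PicGrp.cls _ hL = PicGrp.cls _ (H11Ample.isInvertible_tensor hA hB) := by
      refine h.symm.trans (Subtype.ext ?_)
      conv_lhs => rw [ha, hb]
      exact PicGrp.cls_mul_cls_val hA hB
    obtain ⟨e⟩ := (PicGrp.cls_eq_cls_iff _ _).1 h2
    rw [inter_congr_iso Δ hL (H11Ample.isInvertible_tensor hA hB) e, inter_tensor Δ hA hB, ofAdd_add]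

theorem degHom_cls {M : X.left.Modules} (hM : PicF.IsInvertible M) :
    degHom Δ (PicGrp.cls M hM) = Multiplicative.ofAdd (ArSurf.inter R X M Δ) := by
  obtain ⟨hL, h⟩ := (PicGrp.exists_eq_cls (PicGrp.cls M hM)).choose_spec
  obtain ⟨e⟩ := (PicGrp.cls_eq_cls_iff _ _).1 h
  exact congrArg Multiplicative.ofAdd (inter_congr_iso Δ hM hL e).symm

end degree

section vertical

variable {C X : Scheme.{u}} {f : C ⟶ Spec (CommRingCat.of (FractionRing R))}
  {p : X ⟶ Spec (CommRingCat.of R)}
  {n : ℕ} {Γ : Fin n → ArSurf.VertComp R (Over.mk p)}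
  {L : Fin n → X.Modules} (hL : ∀ i, ClSub.IsInverseOf (L i) (ClSub.idealMod (Γ i).ι.ker))

include hL in
theorem isInvertible_L (i : Fin n) : PicF.IsInvertible (L i) := by
  obtain ⟨e⟩ := hL i
  exact H17.InvertibleTensor.isInvertible_of_tensor_iso (L i) _ e

/-- The class of a vertical divisor. -/
noncomputable def vcls (a : Fin n → ℤ) : PicLoc.PicSet X := ∏ i, PicGrp.cls (L i) (isInvertible_L hL i) ^ a i

theorem vcls_add (a b : Fin n → ℤ) : vcls hL (a + b) = vcls hL a * vcls hL b := by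
  simp only [vcls, Pi.add_apply, zpow_add, Finset.prod_mul_distrib]

theorem vcls_smul (c : ℤ) (a : Fin n → ℤ) : vcls hL (c • a) = vcls hL a ^ c := by
  simp only [vcls, Pi.smul_apply, smul_eq_mul, ← Finset.prod_zpow, ← zpow_mul, mul_comm c]

theorem vcls_neg (a : Fin n → ℤ) : vcls hL (-a) = (vcls hL a)⁻¹ := by
  simp only [vcls, Pi.neg_apply, zpow_neg, Finset.prod_inv_distrib]

theorem vcls_natCast (a : Fin n → ℕ) :
    ∃ h : PicF.IsInvertible (FGA.multiTwist L a),
      PicGrp.cls (FGA.multiTwist L a) h = vcls hL (fun i => (a i : ℤ)) := by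
  obtain ⟨h, e⟩ := cls_multiTwist (isInvertible_L hL) a
  exact ⟨h, e.trans (Finset.prod_congr rfl fun i _ => (zpow_natCast _ _).symm)⟩

theorem vcls_eq_one_iff (hC : Curve.IsSmoothProperCurve (FractionRing R) C f) (hH0 : IsIso f.appTop)
    (hX : Models.IsRegularProperModel R X p C f) (hΓ : Models.IsComponentList R (Over.mk p) Γ) (a : Fin n → ℤ) :
    vcls hL a = 1 ↔ ∃ c : ℤ, ∀ i, a i = c * (Models.mult R (Over.mk p) (Γ i) : ℤ) := by
  obtain ⟨h1, e1⟩ := vcls_natCast hL fun i => (a i).toNat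
  obtain ⟨h2, e2⟩ := vcls_natCast hL fun i => (-a i).toNat
  have ha : a = (fun i => ((a i).toNat : ℤ)) + -(fun i => ((-a i).toNat : ℤ)) := funext fun i => by
    simp only [Pi.add_apply, Pi.neg_apply]
    omega
  conv_lhs => rw [ha, vcls_add, vcls_neg, ← e1, ← e2, mul_inv_eq_one, PicGrp.cls_eq_cls_iff]
  rw [multiTwist_iso_iff f p hC hH0 hX Γ hΓ L hL]
  refine exists_congr fun c => forall_congr' fun i => ?_
  rw [show ((a i).toNat : ℤ) - ((-a i).toNat : ℤ) = a i by omega]

theorem exists_vcls_of_trivial (hX : Models.IsRegularProperModel R X p C f)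
    (hΓ : Models.IsComponentList R (Over.mk p) Γ) (g : C ⟶ X)
    (hg : IsPullback g f p (Spec.map (CommRingCat.ofHom (algebraMap R (FractionRing R)))))
    (M : X.Modules) (hM : PicF.IsInvertible M)
    (htriv : Nonempty ((Scheme.Modules.pullback g).obj M ≅ Coh.structureModule C)) :
    ∃ a : Fin n → ℕ, PicGrp.cls M hM = vcls hL (fun i => (a i : ℤ)) := by
  obtain ⟨a, he⟩ := exists_vertical_twist hX hΓ g hg L hL M hM htriv
  obtain ⟨h, e⟩ := vcls_natCast hL a
  exact ⟨a, ((PicGrp.cls_eq_cls_iff hM h).2 he).trans e⟩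

theorem pullHom_vcls (hX : Models.IsRegularProperModel R X p C f) (hΓ : Models.IsComponentList R (Over.mk p) Γ)
    (g : C ⟶ X) (hg : IsPullback g f p (Spec.map (CommRingCat.ofHom (algebraMap R (FractionRing R)))))
    (a : Fin n → ℤ) : PicGrp.pullHom g (pullMul g) (vcls hL a) = 1 := by
  obtain ⟨⟨hfl, hlft, -, -⟩, hp, hreg⟩ := id hX
  haveI : IsProper (Over.mk p).hom := hp
  haveI : Flat (Over.mk p).hom := hfl
  haveI : LocallyOfFiniteType p := hlft
  haveI : IsLocallyNoetherian (Over.mk p).left := LocallyOfFiniteType.isLocallyNoetherian p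
  rw [vcls, map_prod]
  refine Finset.prod_eq_one fun i _ => ?_
  rw [map_zpow]
  have hI := isEffCartierIdeal_ker hreg hΓ i
  have hJ : PicF.IsInvertible (ClSub.idealMod (Γ i).ι.ker) := H29Blow.isInvertible_of_isEffCartierIdeal _ hI
  obtain ⟨e⟩ := nonempty_pullback_idealMod g hI fun c hc => by
    have h1 : g c ∈ Set.range (Γ i).ι.base :=
      ((Γ i).ι.support_ker.trans (Γ i).ι.isClosedEmbedding.isClosed_range.closure_eq).subset hc
    obtain ⟨z, hz⟩ := h1
    have h2 : p (g c) = IsLocalRing.closedPoint R := by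
      rw [← hz]
      show (Over.mk p).hom ((Γ i).ι z) = _
      rw [← Scheme.Hom.comp_apply, (Γ i).w, Scheme.Hom.comp_apply]
      exact IsLocalRing.PrimeSpectrum.comap_residue R _
    have h3 : p (g c) = (Spec.map (CommRingCat.ofHom (algebraMap R (FractionRing R)))) (f c) := by
      rw [← Scheme.Hom.comp_apply, ← Scheme.Hom.comp_apply, hg.w]
    obtain ⟨ϖ, hϖ⟩ := IsDiscreteValuationRing.exists_irreducible R
    have h4 : ϖ ∈ ((Spec.map (CommRingCat.ofHom (algebraMap R (FractionRing R)))) (f c)).asIdeal := by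
      rw [← h3, h2]
      exact hϖ.not_isUnit
    have h5 : algebraMap R (FractionRing R) ϖ ∈ (f c).asIdeal := h4
    exact (f c).isPrime.ne_top (Ideal.eq_top_of_isUnit_mem _ h5
      (isUnit_iff_ne_zero.2 ((map_ne_zero_iff _ (IsFractionRing.injective R _)).2 hϖ.ne_zero)))
  have h1 : PicGrp.pullHom g (pullMul g) (PicGrp.cls _ hJ) = 1 := by
    refine Subtype.ext ?_
    rw [PicGrp.one_val]
    exact (PicGrp.cl_eq_cl_iff _ _).2 ⟨e⟩
  rw [eq_inv_of_mul_eq_one_left ((PicGrp.cls_mul_cls_eq_one_iff (isInvertible_L hL i) hJ).2 (hL i)), map_inv, h1,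
    inv_one, one_zpow]

theorem degHom_vcls [IsProper (Over.mk p).hom] (Δ : ArSurf.VertComp R (Over.mk p)) (a : Fin n → ℤ) :
    degHom Δ (vcls hL a) = Multiplicative.ofAdd (∑ j, a j * ArSurf.inter R (Over.mk p) (L j) Δ) := by
  rw [vcls, map_prod, ofAdd_sum]
  refine Finset.prod_congr rfl fun j _ => ?_
  rw [map_zpow, degHom_cls Δ (isInvertible_L hL j), ← ofAdd_zsmul, smul_eq_mul]

theorem nonempty_pullback_iff {g : C ⟶ X} {M : X.Modules} (hM : PicF.IsInvertible M) {N : C.Modules}
    (hN : PicF.IsInvertible N) :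
    Nonempty ((Scheme.Modules.pullback g).obj M ≅ N) ↔
      PicGrp.pullHom g (pullMul g) (PicGrp.cls M hM) = PicGrp.cls N hN := by
  refine (PicGrp.cl_eq_cl_iff _ _).symm.trans ⟨fun h => Subtype.ext h, fun h => congrArg Subtype.val h⟩

theorem nonempty_tensorPow_iff {M : X.Modules} (hM : PicF.IsInvertible M) (k : ℕ) :
    Nonempty (CohB1.tensorPow M k ≅ Coh.structureModule X) ↔ PicGrp.cls M hM ^ k = 1 := by
  rw [← cls_tensorPow hM k, PicGrp.cls_eq_one_iff]

end vertical

end Groth.Agent.H28Vert
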