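import Groth.Agent.H28Vert.PicVert2
import Groth.Agent.H28Mero.ZeroScheme
import Groth.Agent.H28Vert.Field
import Groth.Agent.H10Coh.Local

/-!
# Invertible modules trivial on the generic fibre are vertical
-/

set_option autoImplicit false
set_option linter.style.haveILetI false
set_option backward.isDefEq.respectTransparency.types false
universe u

open CategoryTheory CategoryTheory.Limits AlgebraicGeometry Opposite TopologicalSpace

namespace Groth.Agent.H28Vert

/-- Multiplication by a section is an isomorphism where the section is. -/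
theorem isIso_stalk_mulHom_of_isIso {X : Scheme.{u}} (F : X.Modules) {L : X.Modules} (σ : Coh.structureModule X ⟶ L)
    {x : X} (h : IsIso ((DerSch.stalkFunctor X x).map σ)) :
    IsIso ((DerSch.stalkFunctor X x).map (H25Euler.mulHom F σ)) := by
  have h2 : IsIso ((((DCoh.tensorBi (X := X)).obj F) ⋙ DerSch.stalkFunctor X x).map σ) := by
    rw [NatIso.isIso_map_iff (H16Derived.KFlat.Stalk.leftIso F x) σ]
    haveI := h
    exact inferInstanceAs (IsIso ((MonoidalCategory.tensorLeft _).map _))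
  rw [H25Euler.mulHom, Functor.map_comp, Functor.map_comp, Functor.map_comp]
  haveI : IsIso ((DerSch.stalkFunctor X x).map (((DCoh.tensorBi (X := X)).obj F).map σ)) := h2
  infer_instance

/-- A trivialization along an open immersion gives a generator over its image. -/
theorem exists_gen_of_trivial_pullback {C X : Scheme.{u}} (g : C ⟶ X) [IsOpenImmersion g] (M : X.Modules)
    (htriv : Nonempty ((Scheme.Modules.pullback g).obj M ≅ Coh.structureModule C)) :
    ∃ e : Γ(M, g.opensRange), H11Tilde.IsGen M e := by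
  obtain ⟨ψ⟩ := htriv
  let φ : M.restrict g ≅ Coh.structureModule C := (Scheme.Modules.restrictFunctorIsoPullback g).app M ≪≫ ψ
  let N : C.Modules := M.restrict g
  let e₀ : Γ(N, ⊤) := φ.inv.app ⊤ (1 : Γ(C, ⊤))
  have h0 : H11Tilde.IsGen N e₀ := H11Tilde.IsGen.map_iso φ.symm (H11Ample.isGen_one ⊤)
  have key : ∀ (W : C.Opens) (h : g ''ᵁ W ≤ g ''ᵁ ⊤), Function.Bijective fun r : Γ(X, g ''ᵁ W) =>
      r • M.presheaf.map (homOfLE h).op (show Γ(M, g ''ᵁ ⊤) from e₀) := by
    intro W h
    have hb := (h0.bijective (le_top : W ≤ ⊤)).comp (ConcreteCategory.bijective_of_isIso (g.appIso W).hom)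
    refine Eq.mpr (congrArg Function.Bijective (funext fun r => ?_)) hb
    show r • _ = (g.appIso W).inv ((g.appIso W).hom r) • M.presheaf.map _ (show Γ(M, g ''ᵁ ⊤) from e₀)
    rw [show (g.appIso W).inv ((g.appIso W).hom r) = r from congr($((g.appIso W).hom_inv_id) r)]
    rfl
  have hU : g.opensRange ≤ g ''ᵁ ⊤ := g.image_top_eq_opensRange.ge
  refine ⟨_, (H11Tilde.isGen_of_bijective (e := (show Γ(M, g ''ᵁ ⊤) from e₀)) fun W hW => ?_).res hU⟩
  obtain ⟨W', rfl⟩ : ∃ W' : C.Opens, W = g ''ᵁ W' :=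
    ⟨g ⁻¹ᵁ W, by rw [Scheme.Hom.image_preimage_eq_opensRange_inf, inf_eq_right.2 (hW.trans g.image_top_eq_opensRange.le)]⟩
  exact key W' hW

variable {X : Scheme.{u}}

/-- The image of a map to the structure module, at the germs. -/
noncomputable def imGerm {M : X.Modules} (μ : M ⟶ Coh.structureModule X) (y : X) : Ideal (X.presheaf.stalk y) :=
  (LinearMap.range ((DerSch.stalkFunctor X y).map μ).hom).comap
    (LinearMap.toSpanSingleton (X.presheaf.stalk y) _ (H06EGA9.oneStalk y))

theorem imGerm_eq_span {M : X.Modules} (μ : M ⟶ Coh.structureModule X) {U : X.Opens} {e : Γ(M, U)}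
    (he : H11Tilde.IsGen M e) (y : X) (hy : y ∈ U) :
    imGerm μ y = Ideal.span {X.presheaf.germ U y hy (μ.app U e)} := by
  let S := (DerSch.stalkFunctor X y).map μ
  let c : Γ(X, U) := μ.app U e
  have hc : S.hom (M.presheaf.germ U y hy e) = X.presheaf.germ U y hy c • H06EGA9.oneStalk y := by
    refine (H10Coh.germ_app μ U y hy e).trans ?_
    exact (H06EGA9.smul_oneStalk y U hy c).symm
  ext a
  rw [Ideal.mem_span_singleton]
  constructor
  · rintro ⟨m, hm⟩
    obtain ⟨r, hr⟩ := (he y hy).2 m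
    have hr' : r • M.presheaf.germ U y hy e = m := hr
    rw [← hr'] at hm
    have h2 : (r * X.presheaf.germ U y hy c) • H06EGA9.oneStalk y = a • H06EGA9.oneStalk y :=
      (mul_smul _ _ _).trans ((congrArg (r • ·) hc).symm.trans ((LinearMap.map_smul S.hom r _).symm.trans hm))
    exact ⟨r, ((H06EGA9.bijective_smul_oneStalk y).1 h2).symm.trans (mul_comm _ _)⟩
  · rintro ⟨r, rfl⟩
    refine ⟨r • M.presheaf.germ U y hy e, ?_⟩
    refine (LinearMap.map_smul S.hom r _).trans ((congrArg (r • ·) hc).trans ?_)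
    exact ((mul_smul _ _ _).symm.trans (congrArg (· • H06EGA9.oneStalk y) (mul_comm _ _)))

theorem imGerm_eq_top {M : X.Modules} (μ : M ⟶ Coh.structureModule X) (y : X)
    (h : IsIso ((DerSch.stalkFunctor X y).map μ)) : imGerm μ y = ⊤ := by
  haveI := h
  rw [imGerm, LinearMap.range_eq_top.2 (ConcreteCategory.bijective_of_isIso _).2]
  exact Submodule.comap_top _

theorem isLocPrincipal_imGerm {M : X.Modules} (hM : PicF.IsInvertible M) (μ : M ⟶ Coh.structureModule X) :
    H28Mero.IsLocPrincipal (imGerm μ) := by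
  intro O x hx
  obtain ⟨U, e, hxU, he⟩ := H11Ample.exists_gen hM x
  obtain ⟨V, hV, hxV, hVle⟩ := exists_isAffineOpen_mem_and_subset (U := O ⊓ U) (x := x) ⟨hx, hxU⟩
  exact ⟨V, hV, hxV, fun y hy => (hVle hy).1, μ.app V (M.presheaf.map (homOfLE fun y hy => (hVle hy).2).op e),
    fun y hy => imGerm_eq_span μ (he.res _) y hy⟩

/-- An injective map of an invertible module to the structure module is an effective Cartier ideal. -/
theorem exists_ideal_of_hom [∀ x : X, IsDomain (X.presheaf.stalk x)] {M : X.Modules} (hM : PicF.IsInvertible M)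
    (μ : M ⟶ Coh.structureModule X) (hne : ∀ y, imGerm μ y ≠ ⊥) :
    ∃ I : X.IdealSheafData, BlowUp.IsEffCartierIdeal I ∧ Nonempty (M ≅ ClSub.idealMod I) ∧
      ∀ (y : X) (V : X.affineOpens) (hy : y ∈ V.1), stalkId I V hy = imGerm μ y := by
  classical
  let I := H28Mero.germIdealSheaf (imGerm μ) (isLocPrincipal_imGerm hM μ)
  have hloc : ∀ x : X, ∃ (V : X.Opens) (hV : IsAffineOpen V) (e : Γ(M, V)), x ∈ V ∧ H11Tilde.IsGen M e ∧
      I.ideal ⟨V, hV⟩ = Ideal.span {(show Γ(X, V) from μ.app V e)} ∧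
      (show Γ(X, V) from μ.app V e) ∈ nonZeroDivisors Γ(X, V) := by
    intro x
    obtain ⟨U, e₀, hxU, he₀⟩ := H11Ample.exists_gen hM x
    obtain ⟨V, hV, hxV, hVU⟩ := exists_isAffineOpen_mem_and_subset (U := U) hxU
    have he := he₀.res (show V ≤ U from hVU)
    refine ⟨V, hV, _, hxV, he, ?_, mem_nonZeroDivisors_iff_left.2 fun r hr => ?_⟩
    · exact H28Mero.germIdeal_eq_span hV _ fun y hy => imGerm_eq_span μ he y hy
    · refine TopCat.Presheaf.section_ext X.sheaf V _ _ fun y hy => ?_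
      have h1 := congrArg (X.presheaf.germ V y hy) hr
      rw [map_mul, map_zero] at h1
      rcases mul_eq_zero.1 h1 with h2 | h2
      · exact absurd (by rw [imGerm_eq_span μ he y hy, h2, Ideal.span_singleton_eq_bot.2 rfl]) (hne y)
      · exact h2.trans (map_zero (X.presheaf.germ V y hy).hom).symm
  have hI : BlowUp.IsEffCartierIdeal I := fun x => by
    obtain ⟨V, hV, e, hxV, -, h1, h2⟩ := hloc x
    exact ⟨⟨V, hV⟩, hxV, _, h2, h1⟩
  have w : μ ≫ ClSub.toSubscheme I = 0 := by
    refine Scheme.Modules.hom_ext _ _ fun W => ?_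
    ext t
    refine H11Tilde.eq_of_locally _ _ fun x hx => ?_
    obtain ⟨U, hU, hxU, hUW⟩ := exists_isAffineOpen_mem_and_subset hx
    refine ⟨U, hUW, hxU, ?_⟩
    rw [← H11Tilde.app_map_apply, ← H11Tilde.app_map_apply]
    let m : Γ(M, U) := M.presheaf.map (homOfLE (show U ≤ W from hUW)).op t
    show (ClSub.toSubscheme I).app U (μ.app U m) = _
    refine ((H17.IdealPair.app_eq_zero_iff I hU _).2 (H28Mero.mem_germIdeal.2 fun y hy => ?_)).trans rfl
    refine ⟨M.presheaf.germ U y hy m, ?_⟩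
    exact (H10Coh.germ_app μ U y hy m).trans (H06EGA9.smul_oneStalk y U hy _).symm
  let φ : M ⟶ ClSub.idealMod I := kernel.lift (ClSub.toSubscheme I) μ w
  haveI : IsIso φ := by
    refine H11Tilde.isIso_of_gen φ fun x => ?_
    obtain ⟨V, hV, e, hxV, he, h1, -⟩ := hloc x
    refine ⟨V, e, hxV, he, isGen_idealSect hI hV ?_⟩
    rw [h1]
    refine congrArg (fun c => Ideal.span {c}) ?_
    show _ = (φ ≫ ClSub.idealModι I).app V e
    rw [show φ ≫ ClSub.idealModι I = μ from kernel.lift_ι _ _ _]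
  refine ⟨I, hI, ⟨asIso φ⟩, fun y V hy => ?_⟩
  obtain ⟨U, hU, e, hyU, he, h1, -⟩ := hloc y
  rw [stalkId_congr I V ⟨U, hU⟩ hy hyU, stalkId, h1, Ideal.map_span, Set.image_singleton,
    imGerm_eq_span μ he y hyU]

theorem mem_opensRange_of_isPullback {C S K : Scheme.{u}} {g : C ⟶ X} {f : C ⟶ K} {p : X ⟶ S} {q : K ⟶ S}
    (hg : IsPullback g f p q) [IsOpenImmersion g] (x : X) (z : K) (h : p x = q z) : x ∈ g.opensRange := by
  obtain ⟨a, ha, -⟩ := Scheme.Pullback.exists_preimage_pullback x z h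
  refine ⟨hg.isoPullback.inv a, ?_⟩
  rw [← Scheme.Hom.comp_apply, IsPullback.isoPullback_inv_fst]
  exact ha

/-- A section which is a unit multiple of a generator is a stalkwise isomorphism there. -/
theorem isIso_stalk_homSec_of_res (M : X.Modules) (s : Γ(M, ⊤)) {U : X.Opens} {e : Γ(M, U)}
    (he : H11Tilde.IsGen M e) {c : Γ(X, U)} (hc : IsUnit c)
    (hs : M.presheaf.map (homOfLE (le_top : U ≤ ⊤)).op s = c • e) (y : X) (hy : y ∈ U) :
    IsIso ((DerSch.stalkFunctor X y).map (H29Fitt.homSec M s)) := by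
  let S := (DerSch.stalkFunctor X y).map (H29Fitt.homSec M s)
  obtain ⟨v, hv⟩ := hc.map (X.presheaf.germ U y hy).hom
  have hone : S.hom (H06EGA9.oneStalk y) = M.presheaf.germ ⊤ y trivial s := by
    refine (H10Coh.germ_app (H29Fitt.homSec M s) ⊤ y trivial _).trans (congrArg (M.presheaf.germ ⊤ y trivial) ?_)
    rw [H29Fitt.homSec_app]
    exact (one_smul Γ(X, ⊤) _).trans (H10Coh.mres_self M le_rfl s)
  refine (ConcreteCategory.isIso_iff_bijective _).2 ?_
  refine (Function.Bijective.of_comp_iff _ (H06EGA9.bijective_smul_oneStalk y)).1 ?_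
  refine (congrArg Function.Bijective (funext fun r => ?_)).mp ((he y hy).comp v.mulRight_bijective)
  show (r * v.val) • M.presheaf.germ U y hy e = S.hom (r • H06EGA9.oneStalk y)
  refine Eq.trans ?_ (LinearMap.map_smul S.hom r _).symm
  rw [hone, hv, mul_smul, ← H06Mod.germ_smul, ← hs, TopCat.Presheaf.germ_res_apply]
  rfl

section generic

variable (R : Type u) [CommRing R] [IsDomain R] [IsDiscreteValuationRing R]

/-- Inverting a uniformizer gives the fraction field. -/
theorem isLocalization_away_fractionRing {ϖ : R} (hϖ : Irreducible ϖ) : IsLocalization.Away ϖ (FractionRing R) := by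
  constructor
  constructor
  · rintro ⟨y, k, rfl⟩
    exact isUnit_iff_ne_zero.2 ((map_ne_zero_iff _ (IsFractionRing.injective R _)).2 (pow_ne_zero k hϖ.ne_zero))
  · intro z
    obtain ⟨a, b, hb, rfl⟩ := IsFractionRing.div_surjective (A := R) z
    obtain ⟨k, v, rfl⟩ := IsDiscreteValuationRing.eq_unit_mul_pow_irreducible (nonZeroDivisors.ne_zero hb) hϖ
    refine ⟨⟨a * ↑v⁻¹, ⟨ϖ ^ k, k, rfl⟩⟩, ?_⟩
    have h0 : algebraMap R (FractionRing R) (↑v * ϖ ^ k) ≠ 0 :=
      (map_ne_zero_iff _ (IsFractionRing.injective R _)).2 (nonZeroDivisors.ne_zero hb)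
    rw [div_mul_eq_mul_div, div_eq_iff h0, ← map_mul, ← map_mul]
    congr 1
    rw [mul_assoc, ← mul_assoc (↑v⁻¹ : R), Units.inv_mul, one_mul]
  · intro a b h
    exact ⟨1, by rw [IsFractionRing.injective R (FractionRing R) h]⟩

theorem isOpenImmersion_generic :
    IsOpenImmersion (Spec.map (CommRingCat.ofHom (algebraMap R (FractionRing R)))) := by
  obtain ⟨ϖ, hϖ⟩ := IsDiscreteValuationRing.exists_irreducible R
  haveI := isLocalization_away_fractionRing R hϖ
  exact IsOpenImmersion.of_isLocalization ϖ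

theorem mem_range_generic (y : ↥(Spec (CommRingCat.of R))) (hy : y ≠ IsLocalRing.closedPoint R) :
    y ∈ Set.range (Spec.map (CommRingCat.ofHom (algebraMap R (FractionRing R)))) := by
  obtain ⟨ϖ, hϖ⟩ := IsDiscreteValuationRing.exists_irreducible R
  haveI := isLocalization_away_fractionRing R hϖ
  refine (PrimeSpectrum.localization_away_comap_range (FractionRing R) ϖ).ge ?_
  intro hm
  refine hy (PrimeSpectrum.ext ?_)
  refine ((IsLocalRing.maximalIdeal.isMaximal R).eq_of_le y.isPrime.ne_top ?_).symm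
  rw [hϖ.maximalIdeal_eq, Ideal.span_singleton_le_iff_mem]
  exact hm

theorem mem_basicOpen_uniformizer {X : Scheme.{u}} (p : X ⟶ Spec (CommRingCat.of R)) (ϖ : R) (x : X) :
    x ∈ X.basicOpen (Coh.toGlobal p ϖ : Γ(X, ⊤)) ↔ IsUnit (Models.stalkHom R (Over.mk p) x ϖ) :=
  X.mem_basicOpen (U := ⊤) (Coh.toGlobal p ϖ : Γ(X, ⊤)) x trivial

/-- A map of an invertible module to functions, isomorphic on the generic fibre, is nowhere zero. -/
theorem imGerm_ne_bot {X : Scheme.{u}} (p : X ⟶ Spec (CommRingCat.of R)) [Flat p] [IsReduced X]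
    {M : X.Modules} (hM : PicF.IsInvertible M) (μ : M ⟶ Coh.structureModule X) {ϖ : R} (hϖ : Irreducible ϖ)
    (hμ : ∀ y : X, y ∈ X.basicOpen (Coh.toGlobal p ϖ : Γ(X, ⊤)) → IsIso ((DerSch.stalkFunctor X y).map μ)) (y : X) :
    imGerm μ y ≠ ⊥ := by
  intro h0
  let P := Over.mk p
  haveI : Flat P.hom := ‹Flat p›
  haveI : IsReduced P.left := ‹IsReduced X›
  obtain ⟨U, e, hyU, he⟩ := H11Ample.exists_gen hM y
  rw [imGerm_eq_span μ he y hyU, Ideal.span_singleton_eq_bot] at h0
  obtain ⟨W, hyW, i₁, i₂, hW⟩ := X.presheaf.germ_eq y hyU hyU (show Γ(X, U) from μ.app U e) 0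
    (h0.trans (map_zero (X.presheaf.germ U y hyU).hom).symm)
  obtain ⟨W', hW', hyW', hW'le⟩ := exists_isAffineOpen_mem_and_subset (U := W) hyW
  haveI : Nonempty W' := ⟨⟨y, hyW'⟩⟩
  obtain ⟨z, hz⟩ : Set.Nonempty (X.basicOpen (baseSect P ϖ W') : Set X) := by
    rw [Set.nonempty_iff_ne_empty]
    intro h
    have h1 : baseSect P ϖ W' = 0 := (basicOpen_eq_bot_iff (X := P.left) _).1 (TopologicalSpace.Opens.ext h)
    have h2 : (1 : Γ(P.left, W')) = 0 :=
      baseSect_mul_cancel (X := P) hϖ.ne_zero hW' (by rw [h1]; simp)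
    haveI := P.left.component_nontrivial W'
    exact one_ne_zero h2
  have hzW' : z ∈ W' := X.basicOpen_le _ hz
  have hzφ : z ∈ X.basicOpen (Coh.toGlobal p ϖ : Γ(X, ⊤)) := by
    rw [mem_basicOpen_uniformizer]
    have h1 := (X.mem_basicOpen _ z hzW').1 hz
    have h2 : X.presheaf.germ W' z hzW' (baseSect P ϖ W') = Models.stalkHom R P z ϖ :=
      germ_appLE_top (X := P) W' hzW' _
    exact h2 ▸ h1
  have hzW : z ∈ W := hW'le hzW'
  have h2 := imGerm_eq_top μ z (hμ z hzφ)
  rw [imGerm_eq_span μ he z (i₁.le hzW), Ideal.span_singleton_eq_top] at h2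
  have h3 := congrArg (X.presheaf.germ W z hzW) hW
  simp only [map_zero, TopCat.Presheaf.germ_res_apply] at h3
  rw [h3] at h2
  exact not_isUnit_zero h2

theorem notMem_special_of_isUnit {X : Scheme.{u}} (p : X ⟶ Spec (CommRingCat.of R)) {ϖ : R} (hϖ : Irreducible ϖ)
    (x : X) (h : IsUnit (Models.stalkHom R (Over.mk p) x ϖ)) : p x ≠ IsLocalRing.closedPoint R :=
  fun h' => (notMem_specialFibreSet_iff (X := Over.mk p) hϖ x).2 h h'

end generic

variable {R : Type u} [CommRing R] [IsDomain R] [IsDiscreteValuationRing R]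
  {Z : Over (Spec (CommRingCat.of R))} [IsLocallyNoetherian Z.left] [Flat Z.hom] [IsProper Z.hom]
  {n : ℕ} {Γ : Fin n → ArSurf.VertComp R Z}
  (hreg : Models.IsRegularScheme Z.left) (hΓ : Models.IsComponentList R Z Γ)

omit [Flat Z.hom] [IsProper Z.hom] in
/-- Two points of codimension one, one specializing to the other, are equal. -/
theorem eq_of_specializes_of_dim_eq {y ξ : Z.left} (V : Z.left.affineOpens) (hsp : ξ ⤳ y) (hξ : ξ ∈ V.1) (hy : y ∈ V.1)
    (h1 : ringKrullDim (Z.left.presheaf.stalk ξ) = 1) (h2 : ringKrullDim (Z.left.presheaf.stalk y) = 1) : ξ = y := by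
  have hle : (V.2.primeIdealOf ⟨ξ, hξ⟩).asIdeal ≤ (V.2.primeIdealOf ⟨y, hy⟩).asIdeal := by
    refine (PrimeSpectrum.le_iff_specializes _ _).2 (V.2.fromSpec.isOpenEmbedding.isInducing.specializes_iff.1 ?_)
    rwa [V.2.fromSpec_primeIdealOf, V.2.fromSpec_primeIdealOf]
  have hh : ∀ (w : Z.left) (hw : w ∈ V.1), ringKrullDim (Z.left.presheaf.stalk w) = 1 →
      (V.2.primeIdealOf ⟨w, hw⟩).asIdeal.height = 1 := fun w hw h => by
    letI := TopCat.Presheaf.algebra_section_stalk Z.left.presheaf (⟨w, hw⟩ : V.1)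
    haveI := V.2.isLocalization_stalk ⟨w, hw⟩
    rw [IsLocalization.AtPrime.ringKrullDim_eq_height (V.2.primeIdealOf ⟨w, hw⟩).asIdeal] at h
    exact WithBot.coe_injective h
  haveI : IsNoetherianRing Γ(Z.left, V.1) := IsLocallyNoetherian.component_noetherian V
  rcases hle.eq_or_lt with he | hlt
  · have h3 := congrArg (fun q => V.2.fromSpec q) (PrimeSpectrum.ext he)
    simpa [V.2.fromSpec_primeIdealOf] using h3
  · have h4 := Ideal.height_strict_mono_of_isPrime_of_isPrime hlt
    rw [hh ξ hξ h1, hh y hy h2] at h4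
    exact absurd h4 (lt_irrefl _)


include hreg hΓ in
/-- An effective Cartier ideal trivial off the closed fibre is vertical. -/
theorem exists_exponent (I : Z.left.IdealSheafData) (hI : BlowUp.IsEffCartierIdeal I)
    (htriv : ∀ (y : Z.left) (V : Z.left.affineOpens) (hy : y ∈ V.1),
      y ∉ Models.specialFibreSet R Z → stalkId I V hy = ⊤) :
    ∃ a : Fin n → ℕ, I = divIdeal Γ a := by
  classical
  haveI : ∀ x : Z.left, IsDomain (Z.left.presheaf.stalk x) := fun x => (ufd_stalk hreg x).1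
  have hval : ∀ j : Fin n, ∃ a : ℕ, ∀ (V : Z.left.affineOpens) (hV : Models.genPtOf R Z (Γ j) ∈ V.1),
      stalkId I V hV = IsLocalRing.maximalIdeal _ ^ a := by
    intro j
    let ξ := Models.genPtOf R Z (Γ j)
    let A := Z.left.presheaf.stalk ξ
    haveI := hreg ξ
    obtain ⟨V₀, hV₀, hξ, -⟩ := exists_isAffineOpen_mem_and_subset (U := (⊤ : Z.left.Opens)) (x := ξ) trivial
    obtain ⟨g, hg0, hg⟩ := exists_gen_of_isEffCartierIdeal hI ξ ⟨V₀, hV₀⟩ hξ
    have hd : ringKrullDim A = 1 := dim_stalk_genPt hreg hΓ j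
    haveI : IsDiscreteValuationRing A := by
      haveI := (ufd_stalk hreg ξ).2
      haveI : IsNoetherianRing A := (hreg ξ).toIsNoetherian
      have hnf : ¬ IsField A := fun hf => by
        rw [ringKrullDim_eq_zero_of_isField hf] at hd
        exact zero_ne_one hd
      have hne0 : IsLocalRing.maximalIdeal A ≠ ⊥ := fun h => hnf (IsLocalRing.isField_iff_maximalIdeal_eq.2 h)
      obtain ⟨π, hπm, hπ⟩ := Ideal.IsPrime.exists_mem_prime_of_ne_bot (IsLocalRing.maximalIdeal.isMaximal A).isPrime hne0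
      refine ((IsDiscreteValuationRing.TFAE A hnf).out 4 0).1 (show (IsLocalRing.maximalIdeal A).IsPrincipal from ⟨⟨π, ?_⟩⟩)
      haveI : (Ideal.span {π}).IsPrime := (Ideal.span_singleton_prime hπ.ne_zero).2 hπ
      refine le_antisymm ?_ ((Ideal.span_singleton_le_iff_mem _).2 hπm)
      by_contra hnle
      have hlt : Ideal.span {π} < IsLocalRing.maximalIdeal A :=
        lt_of_le_not_ge ((Ideal.span_singleton_le_iff_mem _).2 hπm) hnle
      have h4 := Ideal.height_strict_mono_of_isPrime_of_isPrime hlt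
      rw [Ideal.height_span_singleton_eq_one_of_mem_nonZeroDivisors (mem_nonZeroDivisors_of_ne_zero hπ.ne_zero)
        hπ.not_unit] at h4
      have h5 : ((IsLocalRing.maximalIdeal A).height : WithBot ℕ∞) = 1 := by
        rw [IsLocalRing.maximalIdeal_height_eq_ringKrullDim]; exact hd
      exact h4.ne' (WithBot.coe_eq_coe.1 h5)
    obtain ⟨ρ, hρ⟩ := IsDiscreteValuationRing.exists_irreducible A
    obtain ⟨a, ha⟩ := IsDiscreteValuationRing.associated_pow_irreducible hg0 hρ
    refine ⟨a, fun V hV => ?_⟩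
    rw [stalkId_congr I V ⟨V₀, hV₀⟩ hV hξ, hg, hρ.maximalIdeal_eq, Ideal.span_singleton_pow,
      Ideal.span_singleton_eq_span_singleton]
    exact ha
  choose a ha using hval
  refine ⟨a, ext_of_height_one (fun x => ufd_stalk hreg x) _ _
    (fun x V hx => exists_gen_of_isEffCartierIdeal hI x V hx)
    (fun x V hx => exists_gen_of_isEffCartierIdeal (isEffCartierIdeal_divIdeal hreg hΓ a) x V hx)
    fun y V hy hdim => ?_⟩
  have hout : ∀ j : Fin n, y ∉ Set.range (Γ j).ι.base → stalkId (Γ j).ι.ker V hy = ⊤ := fun j hj =>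
    H29Blow.map_germ_eq_top_of_notMem_support _ y V hy fun h' => hj
      (((Γ j).ι.support_ker.trans (Γ j).ι.isClosedEmbedding.isClosed_range.closure_eq).subset h')
  rw [divIdeal, stalkId_prod Finset.univ]
  by_cases hys : y ∈ Models.specialFibreSet R Z
  · obtain ⟨z, hz⟩ : y ∈ Set.range (pullback.fst Z.hom (closedPt R)) := by
      rw [Scheme.Pullback.range_fst]
      exact ⟨IsLocalRing.closedPoint _, (IsLocalRing.PrimeSpectrum.comap_residue R _).trans hys.symm⟩
    obtain ⟨l, w, hw⟩ := exists_mem_range_toFibre hΓ z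
    have hwy : (Γ l).ι w = y := by
      rw [← hz, ← hw, ← Scheme.Hom.comp_apply,
        show toFibre (Γ l) ≫ pullback.fst Z.hom (closedPt R) = (Γ l).ι from toFibre_fst _]
    let ξ := Models.genPtOf R Z (Γ l)
    have hsp : ξ ⤳ y := hwy ▸ (genericPoint_specializes w).map (Γ l).ι.continuous
    have hξV : ξ ∈ V.1 := hsp.mem_open V.1.2 hy
    have hξy : ξ = y := eq_of_specializes_of_dim_eq V hsp hξV hy (dim_stalk_genPt hreg hΓ l) hdim
    subst hξy
    rw [ha l V hy, Finset.prod_eq_single l (fun j _ hjl => ?_) (fun h => absurd (Finset.mem_univ l) h),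
      stalkId_ker_genPt l V hy]
    rw [hout j (genPt_notMem_range hΓ (Ne.symm hjl)), Ideal.top_pow]
    exact Ideal.one_eq_top.symm
  · rw [htriv y V hy hys]
    refine ((Finset.prod_eq_one fun j _ => ?_).trans Ideal.one_eq_top).symm
    rw [hout j fun h => hys ((hΓ.2 ▸ ⟨j, rfl⟩ :
      Set.range (Γ j).ι.base ∈ Models.fibreComponents R Z).1.2 h), Ideal.top_pow]
    exact Ideal.one_eq_top.symm

end Groth.Agent.H28Vert
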