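import Groth.Agent.H28Vert.Symm
import Groth.Agent.H28Int.Dual
import Groth.Agent.H17.IdealPairExact

/-!
# Tensor products of quotients of the structure sheaf
-/

set_option autoImplicit false
set_option linter.style.haveILetI false
set_option backward.isDefEq.respectTransparency.types false
universe u

open CategoryTheory CategoryTheory.Limits AlgebraicGeometry TopologicalSpace MonoidalCategory

namespace Groth.Agent.H28Vert

open H16Derived.KFlat.Stalk

variable {X : Scheme.{u}}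

/-- `- ⊗ O ≅ id`. -/
noncomputable def tensorRightUnitIso :
    (DCoh.tensorBi (X := X)).flip.obj (Coh.structureModule X) ≅ 𝟭 X.Modules :=
  (tensorRightModIso (Coh.structureModule X)).symm ≪≫ tensorUnitModIso

theorem tensorUnit_app_eq :
    (H28Int.tensorLeftUnitIso (X := X)).hom.app (Coh.structureModule X) =
      (tensorRightUnitIso (X := X)).hom.app (Coh.structureModule X) := by
  simp only [tensorRightUnitIso, H28Int.tensorLeftUnitIso, tensorUnitModIso, Iso.trans_hom,
    NatTrans.comp_app, Iso.symm_hom]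
  erw [Category.id_comp]
  exact congrArg (fun t => t ≫ _) (congrArg DCoh.shP.map
    (unitors_equal : (λ_ (𝟙_ (CohB1.PMod X))).hom = (ρ_ (𝟙_ (CohB1.PMod X))).hom))

theorem le_of_ideal {A B : X.IdealSheafData} (h : A ≤ B) :
    ClSub.idealModι A ≫ ClSub.toSubscheme B = 0 := by
  refine Scheme.Modules.hom_ext _ _ fun W => ?_
  ext t
  refine H11Tilde.eq_of_locally _ _ fun x hx => ?_
  obtain ⟨U, hU, hxU, hUW⟩ := exists_isAffineOpen_mem_and_subset hx
  refine ⟨U, hUW, hxU, ?_⟩
  rw [← H11Tilde.app_map_apply, ← H11Tilde.app_map_apply]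
  have h1 : (show Γ(X, U) from (ClSub.idealModι A).app U ((ClSub.idealMod A).presheaf.map (homOfLE hUW).op t)) ∈
      B.ideal ⟨U, hU⟩ :=
    h ⟨U, hU⟩ ((H29Blow.mem_ideal_iff_exists_idealSect A hU _).2 ⟨_, rfl⟩)
  exact ((H17.IdealPair.app_eq_zero_iff B hU _).2 h1).trans rfl

theorem exact_sup (A B : X.IdealSheafData) :
    ∃ w : biprod.desc (ClSub.idealModι A) (ClSub.idealModι B) ≫ ClSub.toSubscheme (A ⊔ B) = 0,
      (ShortComplex.mk _ _ w).Exact := by
  have w : biprod.desc (ClSub.idealModι A) (ClSub.idealModι B) ≫ ClSub.toSubscheme (A ⊔ B) = 0 := by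
    apply biprod.hom_ext'
    · rw [biprod.inl_desc_assoc, comp_zero]; exact le_of_ideal le_sup_left
    · rw [biprod.inr_desc_assoc, comp_zero]; exact le_of_ideal le_sup_right
  refine ⟨w, H11Tilde.exact_of_locally _ fun W t ht x hx => ?_⟩
  obtain ⟨U, hU, hxU, hUW⟩ := exists_isAffineOpen_mem_and_subset hx
  refine ⟨U, hUW, hxU, ?_⟩
  let z : Γ(X, U) := (Coh.structureModule X).presheaf.map (homOfLE hUW).op t
  have hz : z ∈ A.ideal ⟨U, hU⟩ ⊔ B.ideal ⟨U, hU⟩ := by
    have h0 : (ClSub.toSubscheme (A ⊔ B)).app U z = 0 := by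
      refine (H11Tilde.app_map_apply (ClSub.toSubscheme (A ⊔ B)) hUW t).trans ?_
      exact (congrArg _ ht).trans (map_zero _)
    have := (H17.IdealPair.app_eq_zero_iff _ hU _).mp h0
    rwa [Scheme.IdealSheafData.ideal_sup] at this
  obtain ⟨a, ha, b, hb, hab⟩ := Submodule.mem_sup.mp hz
  obtain ⟨m, hm⟩ := (H29Blow.mem_ideal_iff_exists_idealSect A hU a).1 ha
  obtain ⟨n, hn⟩ := (H29Blow.mem_ideal_iff_exists_idealSect B hU b).1 hb
  let i : ClSub.idealMod A ⟶ ClSub.idealMod A ⊞ ClSub.idealMod B := biprod.inl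
  let j : ClSub.idealMod B ⟶ ClSub.idealMod A ⊞ ClSub.idealMod B := biprod.inr
  refine ⟨i.app U m + j.app U n, ?_⟩
  refine (map_add _ _ _).trans ?_
  refine Eq.trans ?_ hab
  refine congrArg₂ (· + ·) (Eq.trans ?_ hm) (Eq.trans ?_ hn)
  · show (biprod.inl ≫ biprod.desc (ClSub.idealModι A) (ClSub.idealModι B)).app U m = _
    rw [biprod.inl_desc]; rfl
  · show (biprod.inr ≫ biprod.desc (ClSub.idealModι A) (ClSub.idealModι B)).app U n = _
    rw [biprod.inr_desc]; rfl

/-- The cokernel of a sum of two morphisms. -/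
theorem nonempty_cokernel_desc_iso {C : Type*} [Category C] [Abelian C] {A B O Q : C} (a : A ⟶ O) (b : B ⟶ O)
    (π : O ⟶ Q) (w : a ≫ π = 0) (hπ : IsColimit (CokernelCofork.ofπ π w)) :
    Nonempty (cokernel (b ≫ π) ≅ cokernel (biprod.desc a b)) := by
  let f := biprod.desc a b
  haveI : Epi π := Cofork.IsColimit.epi hπ
  have h1 : a ≫ cokernel.π f = 0 :=
    (biprod.inl_desc_assoc _ _ _).symm.trans (by rw [cokernel.condition, comp_zero])
  have h2 : b ≫ cokernel.π f = 0 :=
    (biprod.inr_desc_assoc _ _ _).symm.trans (by rw [cokernel.condition, comp_zero])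
  let d : Q ⟶ cokernel f := hπ.desc (CokernelCofork.ofπ (cokernel.π f) h1)
  have hd : π ≫ d = cokernel.π f := hπ.fac _ WalkingParallelPair.one
  have hf : f ≫ π ≫ cokernel.π (b ≫ π) = 0 := by
    apply biprod.hom_ext'
    · simp only [f, biprod.inl_desc_assoc, comp_zero]
      rw [← Category.assoc, w, zero_comp]
    · simp only [f, biprod.inr_desc_assoc, comp_zero]
      rw [← Category.assoc, cokernel.condition]
  exact ⟨{
    hom := cokernel.desc (b ≫ π) d (by rw [Category.assoc, hd, h2])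
    inv := cokernel.desc f (π ≫ cokernel.π (b ≫ π)) hf
    hom_inv_id := by
      rw [← cancel_epi (cokernel.π (b ≫ π)), ← cancel_epi π, cokernel.π_desc_assoc,
        reassoc_of% hd, cokernel.π_desc, Category.comp_id]
    inv_hom_id := by
      rw [← cancel_epi (cokernel.π f), cokernel.π_desc_assoc, Category.assoc, cokernel.π_desc, hd,
        Category.comp_id] }⟩

theorem nonempty_bifunctor_cokernel_iso {C : Type*} [Category C] [Abelian C] (T : C ⥤ C ⥤ C) {O : C}
    (u : T.obj O ≅ 𝟭 C) (v : T.flip.obj O ≅ 𝟭 C) (huv : u.hom.app O = v.hom.app O) {Q I : C}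
    (π : O ⟶ Q) (ι : I ⟶ O) [(T.obj Q).PreservesZeroMorphisms] [PreservesColimit (parallelPair ι 0) (T.obj Q)]
    (hp : Epi ((T.map π).app I)) :
    Nonempty ((T.obj Q).obj (cokernel ι) ≅ cokernel (ι ≫ π)) := by
  haveI := hp
  let h := (T.obj Q).map ι
  let p := (T.map π).app I
  have h₂ : (T.map π).app O ≫ v.hom.app Q = u.hom.app O ≫ π :=
    (v.hom.naturality π).trans (congrArg (fun t => t ≫ π) huv.symm)
  have hnat : (p ≫ h) ≫ v.hom.app Q = u.hom.app I ≫ ι ≫ π := by
    rw [show p ≫ h = (T.obj O).map ι ≫ (T.map π).app O from ((T.map π).naturality ι).symm,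
      Category.assoc, h₂, ← Category.assoc]
    exact (congrArg (fun t => t ≫ π) (u.hom.naturality ι)).trans (Category.assoc _ _ _)
  exact ⟨PreservesCokernel.iso (T.obj Q) ι ≪≫ (cokernelEpiComp p h).symm ≪≫
    cokernel.mapIso (p ≫ h) (ι ≫ π) (u.app _) (v.app _) hnat⟩

/-- Tensoring with a quotient of the structure sheaf. -/
theorem nonempty_tensor_cokernel_iso {Q I : X.Modules} (π : Coh.structureModule X ⟶ Q) [Epi π]
    (ι : I ⟶ Coh.structureModule X) :
    Nonempty (CohB1.tensorMod Q (cokernel ι) ≅ cokernel (ι ≫ π)) :=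
  nonempty_bifunctor_cokernel_iso (DCoh.tensorBi (X := X)) H28Int.tensorLeftUnitIso tensorRightUnitIso
    tensorUnit_app_eq π ι (inferInstanceAs (Epi (((DCoh.tensorBi (X := X)).flip.obj I).map π)))

/-- `O/A ⊗ O/B ≅ O/(A + B)`. -/
theorem nonempty_quotTensorIso (A B : X.IdealSheafData) :
    Nonempty (CohB1.tensorMod (ClSub.quotMod A) (ClSub.quotMod B) ≅ ClSub.quotMod (A ⊔ B)) := by
  haveI := H10Coh.epi_toSubscheme A
  haveI := H10Coh.epi_toSubscheme (A ⊔ B)
  obtain ⟨w, hex⟩ := exact_sup A B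
  obtain ⟨e₁⟩ := nonempty_tensor_cokernel_iso (ClSub.toSubscheme A) (ClSub.idealModι B)
  obtain ⟨e₂⟩ := nonempty_cokernel_desc_iso (ClSub.idealModι A) (ClSub.idealModι B) (ClSub.toSubscheme A)
    (kernel.condition _) (H10Coh.shortExact_kernel (ClSub.toSubscheme A)).gIsCokernel
  exact ⟨PicGrp.tensorModIso (Iso.refl _) (cokernelIdealModιIso B).symm ≪≫ e₁ ≪≫ e₂ ≪≫
    (cokernelIsCokernel _).coconePointUniqueUpToIso hex.gIsCokernel⟩

end Groth.Agent.H28Vert
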