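import Groth.Agent.H28Int.Curves
import Groth.Agent.H25Euler.ParSh
import Groth.Agent.LeadProper.Supp
import Groth.Agent.H16Derived.KFlat.PullDerived
import Groth.Agent.H16Derived.ProjFormula.Map
import Groth.Agent.H27Weil.Geometry
import Groth.Prelude.Def_ArSurf
import Groth.Prelude.Def_ClSub2

/-!
# Degrees on vertical curves of a divisor not containing them
-/

set_option autoImplicit false
set_option linter.style.haveILetI false
set_option backward.isDefEq.respectTransparency.types false
universe u

open CategoryTheory CategoryTheory.Limits AlgebraicGeometry Opposite TopologicalSpace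
open Groth.Agent.H8Props.FieldDim (cdim)

namespace Groth.Agent.H28Vert

open Groth.Agent.H28Int

section curve

variable (k : Type u) [Field k] {Y : Scheme.{u}} [Y.Over (Spec (CommRingCat.of k))]
  [IsProper (Y ↘ Spec (CommRingCat.of k))] [IsIntegral Y]

theorem D_flip {l : List Y.Modules} (hl : ∀ A ∈ l, PicF.IsInvertible A) {A A' : Y.Modules}
    (hA : PicF.IsInvertible A) (hA' : PicF.IsInvertible A') (e : CohB1.tensorMod A A' ≅ Coh.structureModule Y)
    (hd : topologicalKrullDim Y ≤ ((l.length + 1 : ℕ) : WithBot ℕ∞)) :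
    D k (A :: l) (Coh.structureModule Y) = - D k (A' :: l) (Coh.structureModule Y) := by
  haveI := isNoetherian k (X := Y)
  have hO : Coh.IsCoh (Coh.structureModule Y) := H10Coh.isCoh_structureModule' Y
  have h1 := D_cons_tensor k hl hA hA' hO (Topology.IsInducing.subtypeVal.topologicalKrullDim_le.trans hd)
  have h2 := D_cons_structure k hl (Coh.structureModule Y)
  have h3 : D k (CohB1.tensorMod A A' :: l) (Coh.structureModule Y) =
      D k (Coh.structureModule Y :: l) (Coh.structureModule Y) := by
    show D k l _ - D k l _ = D k l _ - D k l _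
    rw [(isAddFn_D k l hl).congr (PicGrp.tensorModIso e (Iso.refl (Coh.structureModule Y)))]
  omega

/-- The degree of the inverse of an ideal on a complete curve. -/
theorem curveDeg_nonneg (hY : topologicalKrullDim Y = 1) {P P' : Y.Modules} (hP : PicF.IsInvertible P)
    (hP' : PicF.IsInvertible P') (e : CohB1.tensorMod P P' ≅ Coh.structureModule Y)
    (μ : P' ⟶ Coh.structureModule Y) (hξ : genericPoint Y ∉ CohB1.support (kernel μ))
    (hξ' : genericPoint Y ∉ CohB1.support (cokernel μ)) :
    0 ≤ ArSurf.curveDeg k Y P ∧ (ArSurf.curveDeg k Y P = 0 ↔ CohB1.support (cokernel μ) = ∅) ∧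
      ArSurf.curveDeg k Y P = Curv2.euler k Y (cokernel μ) := by
  haveI := isNoetherian k (X := Y)
  let O := Coh.structureModule Y
  have hO : Coh.IsCoh O := H10Coh.isCoh_structureModule' Y
  have hP'c := H11Ample.isCoh_of_isInvertible hP'
  let T := (DCoh.tensorBi (X := Y)).flip.obj P
  have hS₀ : (ShortComplex.mk (kernel.ι μ) (cokernel.π (kernel.ι μ)) (cokernel.condition _)).ShortExact :=
    ShortComplex.ShortExact.mk' (ShortComplex.exact_cokernel _) inferInstance inferInstance
  haveI : Mono (T.map (kernel.ι μ)) := (tensor_shortExact hS₀ hP).mono_f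
  let j : CohB1.tensorMod (kernel μ) P ⟶ (Coh.push (𝟙 Y)).obj O :=
    T.map (kernel.ι μ) ≫ (H10Coh.Tw.commIso P' P ≪≫ e).hom ≫ Surface.pushIdIso.inv
  haveI : Mono j := mono_comp (T.map (kernel.ι μ)) _
  have hKz : IsZero (CohB1.tensorMod (kernel μ) P) := isZero_of_mono_push (𝟙 Y) j
    fun h => hξ (H25Euler.support_tensor_subset (kernel μ) P h)
  have hker : IsZero (kernel μ) := by
    refine H16Derived.KFlat.Stalk.isZero_of_stalk fun x => (H25Euler.notMem_support_iff _ x).1 fun hx => ?_
    have h1 : x ∈ CohB1.support (CohB1.tensorMod (CohB1.tensorMod (kernel μ) P) P') :=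
      LeadDev.support_subset_of_iso
        ((H10Coh.Tw.rightUnitIso (kernel μ)).symm ≪≫ PicGrp.tensorModIso (Iso.refl _) e.symm ≪≫
          (H10Coh.Tw.assoc (kernel μ) P P').symm) hx
    have h2 := H25Euler.support_tensor_subset _ P' h1
    rw [LeadDev.support_eq_empty_of_isZero hKz] at h2
    exact h2
  haveI : Mono μ := Preadditive.mono_of_isZero_kernel μ hker
  have hC := H10Coh.isCoh_cokernel μ hP'c.1 hO
  have hS : (ShortComplex.mk μ (cokernel.π μ) (cokernel.condition μ)).ShortExact :=
    ShortComplex.ShortExact.mk' (ShortComplex.exact_cokernel μ) inferInstance inferInstance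
  have hadd := (isAddFn_euler k).add _ hS hP'c hO hC
  change Curv2.euler k Y O = Curv2.euler k Y P' + Curv2.euler k Y (cokernel μ) at hadd
  have hflip : D k [P] O = - D k [P'] O := D_flip k (l := []) (by simp) hP hP' e hY.le
  have hD : D k [P'] O = Curv2.euler k Y (cokernel μ) := by
    show Curv2.euler k Y O - Curv2.euler k Y (CohB1.tensorMod P' O) = _
    rw [H25Euler.euler_congr (H10Coh.Tw.rightUnitIso P')]
    omega
  have hdeg : ArSurf.curveDeg k Y P = Curv2.euler k Y (cokernel μ) := by
    refine (Curves.curveDeg_eq k hY hP).trans ?_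
    show - D k [P] O = _
    omega
  have hd0 : topologicalKrullDim (CohB1.support (cokernel μ)) ≤ ((0 : ℕ) : WithBot ℕ∞) := by
    have hlt : topologicalKrullDim (CohB1.support (cokernel μ)) < ((1 : ℕ) : WithBot ℕ∞) :=
      dim_lt_of_notMem (C := Set.univ) (genericPoint_spec Y)
        (Topology.IsInducing.subtypeVal.topologicalKrullDim_le.trans hY.le)
        (H10Coh.isClosed_support _ hC.2) (fun _ _ => trivial) hξ'
    rcases hdim : topologicalKrullDim (CohB1.support (cokernel μ)) with _ | n
    · exact bot_le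
    · rw [hdim] at hlt
      have : n < ((0 + 1 : ℕ) : ℕ∞) := WithBot.coe_lt_coe.1 hlt
      exact WithBot.coe_le_coe.2 (ENat.lt_natCast_add_one_iff.1 (by exact_mod_cast this))
  obtain ⟨hnn, hpos⟩ := pos_of_ample k [] (by simp) (cokernel μ) hC hd0
  refine ⟨hdeg.symm ▸ hnn, ⟨fun h0 => ?_, fun hemp => ?_⟩, hdeg⟩
  · by_contra hne
    obtain ⟨x, hx⟩ := Set.nonempty_iff_ne_empty.2 hne
    have hp := hpos ⟨x, hx, by
      haveI : Nonempty (IrreducibleCloseds (closure ({x} : Set Y))) :=
        ⟨⟨Set.univ, ⟨⟨⟨x, subset_closure rfl⟩, trivial⟩,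
          (Subtype.preirreducibleSpace isIrreducible_singleton.closure.isPreirreducible).1⟩, isClosed_univ⟩⟩
      exact Order.krullDim_nonneg⟩
    change 0 < Curv2.euler k Y (cokernel μ) at hp
    omega
  · rw [hdeg]
    exact (isAddFn_euler k).zero (H16Derived.KFlat.Stalk.isZero_of_stalk fun x =>
      (H25Euler.notMem_support_iff _ x).1 (by rw [hemp]; simp))

end curve

/-- The cokernel of the inclusion of an ideal is supported on its zero set. -/
theorem support_cokernel_idealModι {X : Scheme.{u}} (I : X.IdealSheafData) :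
    CohB1.support (cokernel (ClSub.idealModι I)) = (I.support : Set X) := by
  refine Set.Subset.antisymm (fun x hx => ?_) (fun x hx => ?_)
  · by_contra h
    exact (H25Euler.notMem_support_kernel_cokernel _ (H25Euler.isIso_stalk_idealModι I h)).2 hx
  · by_contra hc
    let St := DerSch.stalkFunctor X x
    have hz : IsZero (St.obj (cokernel (ClSub.idealModι I))) := (H25Euler.notMem_support_iff _ x).1 hc
    haveI h1 : Epi (St.map (ClSub.idealModι I)) :=
      Preadditive.epi_of_isZero_cokernel _ (hz.of_iso (PreservesCokernel.iso St (ClSub.idealModι I)).symm)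
    have h0 : St.map (ClSub.idealModι I) ≫ St.map (ClSub.toSubscheme I) = 0 := by
      rw [← St.map_comp, show ClSub.idealModι I ≫ ClSub.toSubscheme I = 0 from kernel.condition _, St.map_zero]
    have h2 : St.map (ClSub.toSubscheme I) = 0 := by
      rw [← cancel_epi (St.map (ClSub.idealModι I)), h0, comp_zero]
    let P := (Coh.push I.subschemeι).obj (Coh.structureModule I.subscheme)
    have hg := (H10Coh.germ_app (ClSub.toSubscheme I) ⊤ x trivial (H11Ample.one ⊤)).symm.trans
      (show (St.map (ClSub.toSubscheme I)).hom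
        ((Coh.structureModule X).presheaf.germ ⊤ x trivial (H11Ample.one ⊤)) = 0 by rw [h2]; rfl)
    obtain ⟨V, hV, iU, iU', hres⟩ := TopCat.Presheaf.germ_eq P.presheaf x (U := (⊤ : X.Opens)) (V := (⊤ : X.Opens))
      trivial trivial ((ClSub.toSubscheme I).app ⊤ (H11Ample.one ⊤)) 0 (hg.trans (map_zero _).symm)
    rw [map_zero] at hres
    obtain ⟨z, hz'⟩ : x ∈ Set.range I.subschemeι := I.range_subschemeι.ge hx
    haveI : Nonempty ↥(I.subschemeι ⁻¹ᵁ V) := ⟨⟨z, show I.subschemeι z ∈ V from hz'.symm ▸ hV⟩⟩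
    have h3 : (1 : Γ(I.subscheme, I.subschemeι ⁻¹ᵁ V)) = 0 := by
      refine Eq.trans ?_ hres
      refine Eq.trans ?_ (congrArg (P.presheaf.map iU.op)
        (show (I.subschemeι.app ⊤ (1 : Γ(X, ⊤))) = (ClSub.toSubscheme I).app ⊤ (H11Ample.one ⊤) from rfl))
      rw [map_one]
      exact ((I.subscheme.presheaf.map ((Opens.map I.subschemeι.base).map iU).op).hom.map_one).symm
    exact one_ne_zero h3

variable {R : Type u} [CommRing R] [IsDomain R] [IsDiscreteValuationRing R]
  {X : Over (Spec (CommRingCat.of R))}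

theorem isProper_of_isArithSurface (hX : ArSurf.IsArithSurface R X) : IsProper X.hom := by
  obtain ⟨-, -, -, -, n, i, hi, hiX⟩ := hX
  haveI := hi
  rw [← hiX]
  haveI : IsProper (CohB1.ProjSpaceOver.toBase n (Spec (CommRingCat.of R))) :=
    H27Weil.isProper_toBase n _
  infer_instance

theorem isProper_curve [IsProper X.hom] (Γ : ArSurf.VertComp R X) : IsProper Γ.curve.hom := by
  have h : IsProper (Γ.curve.hom ≫ Spec.map (CommRingCat.ofHom (IsLocalRing.residue R))) := by
    rw [← Γ.w]
    infer_instance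
  haveI : IsClosedImmersion (Spec.map (CommRingCat.ofHom (IsLocalRing.residue R))) :=
    IsClosedImmersion.spec_of_surjective _ IsLocalRing.residue_surjective
  exact IsProper.of_comp Γ.curve.hom (Spec.map (CommRingCat.ofHom (IsLocalRing.residue R)))

/-- The intersection number with a divisor not containing the curve. -/
theorem inter_nonneg [IsProper X.hom] (Γ : ArSurf.VertComp R X) (I : X.left.IdealSheafData)
    (hΓ : Γ.ι.base (genericPoint ↥Γ.curve.left) ∉ (I.support : Set ↥X.left))
    {L : X.left.Modules} (hL : ClSub.IsInverseOf L (ClSub.idealMod I)) :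
    0 ≤ ArSurf.inter R X L Γ ∧
      (ArSurf.inter R X L Γ = 0 ↔ Disjoint (Set.range Γ.ι.base) (I.support : Set ↥X.left)) := by
  haveI := isProper_curve Γ
  haveI : IsNoetherian X.left := by
    haveI : CompactSpace X.left := QuasiCompact.compactSpace_of_compactSpace X.hom
    haveI : IsLocallyNoetherian X.left := LocallyOfFiniteType.isLocallyNoetherian X.hom
    exact {}
  haveI : IsProper (Γ.curve.left ↘ Spec (CommRingCat.of (IsLocalRing.ResidueField R))) :=
    inferInstanceAs (IsProper Γ.curve.hom)
  haveI := isNoetherian (IsLocalRing.ResidueField R) (X := Γ.curve.left)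
  obtain ⟨e⟩ := hL
  have hLi : PicF.IsInvertible L := H17.InvertibleTensor.isInvertible_of_tensor_iso L _ e
  have hIi : PicF.IsInvertible (ClSub.idealMod I) :=
    H17.InvertibleTensor.isInvertible_of_tensor_iso _ L (H10Coh.Tw.commIso _ _ ≪≫ e)
  let F := Scheme.Modules.pullback Γ.ι
  let u := H16Derived.KFlat.Stalk.structurePullbackIso Γ.ι
  let μ : F.obj (ClSub.idealMod I) ⟶ Coh.structureModule Γ.curve.left := F.map (ClSub.idealModι I) ≫ u.hom
  have hQ : Coh.IsCoh (cokernel (ClSub.idealModι I)) :=
    H10Coh.isCoh_cokernel _ (H11Ample.isCoh_of_isInvertible hIi).1 (H10Coh.isCoh_structureModule' X.left)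
  haveI : F.IsLeftAdjoint := (Scheme.Modules.pullbackPushforwardAdjunction Γ.ι).isLeftAdjoint
  let eC : cokernel μ ≅ F.obj (cokernel (ClSub.idealModι I)) :=
    cokernelCompIsIso (F.map (ClSub.idealModι I)) u.hom ≪≫ (PreservesCokernel.iso F (ClSub.idealModι I)).symm
  have hsupp : CohB1.support (cokernel μ) = Γ.ι ⁻¹' (I.support : Set X.left) := by
    rw [← support_cokernel_idealModι I, ← LeadProper.support_pullback _ hQ.1 hQ.2 Γ.ι]
    exact Set.Subset.antisymm (LeadDev.support_subset_of_iso eC) (LeadDev.support_subset_of_iso eC.symm)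
  have hξ' : genericPoint Γ.curve.left ∉ CohB1.support (cokernel μ) := by rw [hsupp]; exact hΓ
  have hξ : genericPoint Γ.curve.left ∉ CohB1.support (kernel μ) := by
    refine (H25Euler.notMem_support_kernel_cokernel μ ?_).1
    have hiso := H25Euler.isIso_stalk_idealModι I hΓ
    haveI := hiso
    have h2 : IsIso ((F ⋙ DerSch.stalkFunctor Γ.curve.left (genericPoint Γ.curve.left) ⋙
        forget₂ (ModuleCat.{u} _) AddCommGrpCat.{u}).map (ClSub.idealModι I)) := by
      rw [← NatIso.isIso_map_iff (H16Derived.KFlat.Stalk.pullStalkNatIso Γ.ι (genericPoint Γ.curve.left)) (ClSub.idealModι I)]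
      rw [Functor.comp_map]
      infer_instance
    have h1 : IsIso ((DerSch.stalkFunctor Γ.curve.left (genericPoint Γ.curve.left)).map (F.map (ClSub.idealModι I))) :=
      @isIso_of_reflects_iso _ _ _ _ _ _ _ (forget₂ (ModuleCat.{u} _) AddCommGrpCat.{u}) h2 _
    rw [Functor.map_comp]
    haveI := h1
    infer_instance
  obtain ⟨h0, hiff, -⟩ := curveDeg_nonneg (IsLocalRing.ResidueField R) Γ.dim_eq
    (H11Ample.isInvertible_pullback Γ.ι hLi) (H11Ample.isInvertible_pullback Γ.ι hIi)
    (((H16Derived.KFlat.Stalk.pullTensorLIso Γ.ι (ClSub.idealMod I)).app L).symm ≪≫ F.mapIso e ≪≫ u) μ hξ hξ'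
  refine ⟨h0, hiff.trans ?_⟩
  rw [hsupp, Set.disjoint_left, Set.eq_empty_iff_forall_notMem]
  exact ⟨fun h x ⟨y, hy⟩ hxI => h y (show Γ.ι y ∈ _ from hy.symm ▸ hxI), fun h y hy => h ⟨y, rfl⟩ hy⟩

end Groth.Agent.H28Vert
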