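import Groth.Agent.H28Vert.Contracted
import Groth.Agent.H28Vert.Degree
import Groth.Agent.H29Ref.Hartogs
import Groth.Agent.H19Grp.RegularSmooth
import Groth.Agent.H26CDiv.Dim1
import Groth.Agent.H17.Topology
import Groth.Agent.S7862
import Groth.Prelude.Def_Neron
import Groth.Prelude.Def_DualGr

/-!
# Birational maps out of a smooth surface over a Dedekind domain
-/

set_option autoImplicit false
set_option linter.style.haveILetI false
set_option backward.isDefEq.respectTransparency.types false
universe u

open CategoryTheory CategoryTheory.Limits AlgebraicGeometry Opposite TopologicalSpace Polynomial IsLocalRing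

namespace Groth.Agent.H28Vert

theorem stalkHom_stalkMap {R : Type u} [CommRing R] {X Y : Over (Spec (CommRingCat.of R))} (g : X ⟶ Y)
    (x : X.left) (r : R) :
    g.left.stalkMap x (DualGr.stalkHom Y.hom (g.left x) r) = DualGr.stalkHom X.hom x r := by
  have h := Over.w g
  rw [show X.hom = g.left ≫ Y.hom from h.symm]
  exact Scheme.Hom.germ_stalkMap_apply g.left ⊤ x trivial (Coh.toGlobal Y.hom r)

theorem isUnit_stalkHom_iff' {R : Type u} [CommRing R] {X : Scheme.{u}} (f : X ⟶ Spec (CommRingCat.of R))
    (x : X) (r : R) : IsUnit (DualGr.stalkHom f x r) ↔ r ∉ (f x : PrimeSpectrum R).asIdeal := by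
  have h1 : IsUnit (DualGr.stalkHom f x r) ↔
      x ∈ X.basicOpen (f.appTop ((Scheme.ΓSpecIso (CommRingCat.of R)).inv r)) :=
    (X.mem_basicOpen (U := ⊤) _ x trivial).symm
  rw [h1, ← Scheme.preimage_basicOpen_top f, AlgebraicGeometry.basicOpen_eq_of_affine]
  exact Iff.rfl

theorem algebraMap_stalkHom_base {R : Type u} [CommRing R] {X : Scheme.{u}} [IsIntegral X]
    (f : X ⟶ Spec (CommRingCat.of R)) (x : X) (r : R) :
    algebraMap (X.presheaf.stalk x) X.functionField (DualGr.stalkHom f x r) =
      DualGr.stalkHom f (genericPoint X) r :=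
  TopCat.Presheaf.germ_stalkSpecializes_apply X.presheaf (U := ⊤) trivial (genericPoint_specializes x) _

/-- A point isolated in its fibre gives a quasi-finite local ring over the base. -/
theorem quasiFinite_stalkHom_of_isolated {R : Type u} [CommRing R] {Y : Scheme.{u}}
    (f : Y ⟶ Spec (CommRingCat.of R)) [LocallyOfFiniteType f] (y : Y) (W : Y.Opens) (hyW : y ∈ W)
    (hW : ∀ z ∈ W, f z = f y → z = y) : (DualGr.stalkHom f y).QuasiFinite := by
  have hq : f.QuasiFiniteAt y := by
    rw [Scheme.Hom.quasiFiniteAt_iff_isOpen_singleton_asFiber, ← (f.fiberHomeo (f y)).isOpen_image]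
    simp only [Set.image_singleton, Scheme.Hom.asFiber, Homeomorph.apply_symm_apply]
    refine isOpen_induced_iff.2 ⟨W, W.2, ?_⟩
    ext ⟨z, hz⟩
    refine ⟨fun hzW => Subtype.ext (hW z hzW hz), fun h => ?_⟩
    show z ∈ W
    rw [show z = y from congrArg Subtype.val h]
    exact hyW
  have hU := isAffineOpen_top (Spec (CommRingCat.of R))
  have h2 : ((Scheme.ΓSpecIso (CommRingCat.of R)).inv ≫
      (Spec (CommRingCat.of R)).presheaf.germ ⊤ (f y) trivial).hom.QuasiFinite := by
    letI := ((Spec (CommRingCat.of R)).presheaf.germ ⊤ (f y) trivial).hom.toAlgebra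
    haveI := hU.isLocalization_stalk ⟨f y, trivial⟩
    refine RingHom.QuasiFinite.comp ?_ (RingHom.QuasiFinite.of_finite (RingHom.Finite.of_surjective _
      (ConcreteCategory.bijective_of_isIso (Scheme.ΓSpecIso (CommRingCat.of R)).inv).2))
    refine RingHom.quasiFinite_algebraMap.2 ?_
    exact .of_isLocalization (hU.primeIdealOf ⟨f y, trivial⟩).asIdeal.primeCompl
  have h3 := hq.comp h2
  convert h3 using 1
  refine RingHom.ext fun r => ?_
  exact (Scheme.Hom.germ_stalkMap_apply f ⊤ y trivial ((Scheme.ΓSpecIso (CommRingCat.of R)).inv r)).symm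

/-- An integral scheme with a point isolated in its fibre has algebraic function field over the base. -/
theorem isAlgebraic_functionField_of_isolated {R : Type u} [CommRing R] [IsDomain R] {Y : Scheme.{u}}
    [IsIntegral Y] (f : Y ⟶ Spec (CommRingCat.of R)) [LocallyOfFiniteType f]
    (hinj : Function.Injective (DualGr.stalkHom f (genericPoint Y))) (y : Y) (W : Y.Opens) (hyW : y ∈ W)
    (hW : ∀ z ∈ W, f z = f y → z = y) (b : Y.functionField) :
    ∃ p : R[X], p ≠ 0 ∧ p.eval₂ (DualGr.stalkHom f (genericPoint Y)) b = 0 := by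
  have hqR := quasiFinite_stalkHom_of_isolated f y W hyW hW
  let F := Y.functionField
  let K := FractionRing R
  letI : Algebra R (Y.presheaf.stalk y) := (DualGr.stalkHom f y).toAlgebra
  letI : Algebra R F := (DualGr.stalkHom f (genericPoint Y)).toAlgebra
  haveI : IsScalarTower R (Y.presheaf.stalk y) F :=
    .of_algebraMap_eq fun r => (algebraMap_stalkHom_base f y r).symm
  haveI : Algebra.QuasiFinite R (Y.presheaf.stalk y) := hqR
  haveI : Algebra.QuasiFinite R F := Algebra.QuasiFinite.trans R (Y.presheaf.stalk y) F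
  letI : Algebra K F := (IsFractionRing.lift (K := K) hinj).toAlgebra
  haveI : IsScalarTower R K F := .of_algebraMap_eq fun r => (IsFractionRing.lift_algebraMap hinj r).symm
  haveI : Algebra.QuasiFinite K F := Algebra.QuasiFinite.of_restrictScalars R K F
  haveI : Module.Finite K F := Module.Finite.of_quasiFinite
  haveI : Algebra.IsAlgebraic R F :=
    (IsFractionRing.comap_isAlgebraic_iff (A := R) (K := K) (C := F)).2 (Algebra.IsAlgebraic.of_finite K F)
  obtain ⟨p, hp, hpb⟩ := Algebra.IsAlgebraic.isAlgebraic (R := R) b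
  exact ⟨p, hp, hpb⟩

/-- A Noetherian local domain algebraic over a Dedekind domain has dimension at most one. -/
theorem ringKrullDim_le_one_of_algebraic' {R A : Type u} [CommRing R] [IsDomain R] [IsDedekindDomain R]
    [CommRing A] [IsDomain A] [IsLocalRing A] [IsNoetherianRing A] (ψ : R →+* A) (hψ : Function.Injective ψ)
    (halg : ∀ b : A, ∃ p : R[X], p ≠ 0 ∧ p.eval₂ ψ b = 0) :
    ringKrullDim A ≤ ((1 : ℕ) : WithBot ℕ∞) := by
  let P := (IsLocalRing.maximalIdeal A).comap ψ
  haveI : P.IsPrime := Ideal.comap_isPrime ψ _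
  have hu : ∀ r : P.primeCompl, IsUnit (ψ r) := fun r => by
    by_contra h
    exact r.2 ((IsLocalRing.mem_maximalIdeal _).2 h)
  by_cases hP : P = ⊥
  · have hfield : ∀ b : A, b ≠ 0 → IsUnit b := by
      intro b hb
      obtain ⟨p, hp, hpb⟩ := halg b
      obtain ⟨j, q, hq, rfl⟩ := WfDvdMonoid.max_power_factor hp (Polynomial.irreducible_X (R := R))
      rw [eval₂_mul, eval₂_X_pow, mul_eq_zero] at hpb
      have hqb := hpb.resolve_left (pow_ne_zero _ hb)
      have hcu : IsUnit (ψ (q.coeff 0)) := hu ⟨q.coeff 0, fun h => hq (X_dvd_iff.2 (by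
        have h' : q.coeff 0 ∈ P := h
        rwa [hP, Ideal.mem_bot] at h'))⟩
      rw [← X_mul_divX_add q, eval₂_add, eval₂_mul, eval₂_X, eval₂_C] at hqb
      have h2 : b * q.divX.eval₂ ψ b = - ψ (q.coeff 0) := eq_neg_of_add_eq_zero_left hqb
      exact isUnit_of_mul_isUnit_left (h2 ▸ hcu.neg)
    have : IsField A := ⟨⟨0, 1, zero_ne_one⟩, mul_comm, fun hb => (hfield _ hb).exists_right_inv⟩
    rw [ringKrullDim_eq_zero_of_isField this]
    exact WithBot.coe_le_coe.2 bot_le
  · let R' := Localization.AtPrime P
    haveI : IsDiscreteValuationRing R' :=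
      IsLocalization.AtPrime.isDiscreteValuationRing_of_dedekind_domain R hP R'
    let ψ' : R' →+* A := IsLocalization.lift hu
    have hψ' : Function.Injective ψ' := by
      refine (injective_iff_map_eq_zero _).2 fun z hz => ?_
      obtain ⟨a, s, rfl⟩ := IsLocalization.exists_mk'_eq P.primeCompl z
      rw [IsLocalization.lift_mk', Units.mul_left_eq_zero] at hz
      rw [IsLocalization.mk'_eq_zero_iff]
      exact ⟨1, by rw [(map_eq_zero_iff ψ hψ).1 hz]; simp⟩
    refine ringKrullDim_le_one_of_algebraic ψ' hψ' fun b => ?_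
    obtain ⟨p, hp, hpb⟩ := halg b
    refine ⟨p.map (algebraMap R R'), (Polynomial.map_ne_zero_iff
      (IsLocalization.injective R' P.primeCompl_le_nonZeroDivisors)).2 hp, ?_⟩
    rw [eval₂_map, show ψ'.comp (algebraMap R R') = ψ from IsLocalization.lift_comp hu]
    exact hpb

variable {R : Type u} [CommRing R] [IsDomain R] {X Y : Over (Spec (CommRingCat.of R))}

theorem range_genPt : Set.range (Neron.genPt R) = {(⊥ : PrimeSpectrum R)} := by
  have h : ∀ z, Neron.genPt R z = (⊥ : PrimeSpectrum R) := fun z => by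
    refine PrimeSpectrum.ext ?_
    show Ideal.comap (algebraMap R (FractionRing R)) z.asIdeal = ⊥
    rw [show (z : PrimeSpectrum (FractionRing R)).asIdeal = ⊥ from Ideal.eq_bot_of_prime _, ← RingHom.ker_eq_comap_bot,
      (RingHom.injective_iff_ker_eq_bot _).1 (IsFractionRing.injective R (FractionRing R))]
  exact Set.ext fun w => ⟨fun ⟨z, hz⟩ => hz ▸ h z, fun hw => ⟨closedPoint (FractionRing R), (h _).trans hw.symm⟩⟩

theorem hom_genericPoint_eq_bot [Flat X.hom] [IsIntegral X.left] :
    X.hom (genericPoint X.left) = (⊥ : PrimeSpectrum R) := by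
  obtain ⟨x, hx, hx'⟩ := Flat.generalizingMap X.hom
    (show (⊥ : PrimeSpectrum R) ⤳ X.hom (genericPoint X.left) from
      (PrimeSpectrum.le_iff_specializes _ _).1 bot_le)
  rw [← hx', (hx.antisymm (genericPoint_specializes x)).eq]

/-- A morphism of flat schemes over a domain, invertible on generic fibres, is birational. -/
theorem birational_of_genericFibre [Flat X.hom] [Flat Y.hom] [IsIntegral X.left]
    (hY : ∀ y : Y.left, IsRegularLocalRing (Y.left.presheaf.stalk y)) (g : X ⟶ Y)
    (h : IsIso ((Neron.genericFibre R).map g)) :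
    ∃ _ : IsIntegral Y.left, g.left (genericPoint X.left) = genericPoint Y.left ∧
      Function.Bijective (g.left.stalkMap (genericPoint X.left)) ∧
      ∀ x x' : X.left, X.hom x = (⊥ : PrimeSpectrum R) → g.left x' = g.left x → x' = x := by
  let bX := pullback.fst X.hom (Neron.genPt R)
  let bY := pullback.fst Y.hom (Neron.genPt R)
  haveI hgp : IsPreimmersion (Neron.genPt R) :=
    IsPreimmersion.of_isLocalization (nonZeroDivisors R)
  haveI : IsPreimmersion bX := inferInstanceAs (IsPreimmersion (pullback.fst X.hom (Neron.genPt R)))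
  haveI : IsPreimmersion bY := inferInstanceAs (IsPreimmersion (pullback.fst Y.hom (Neron.genPt R)))
  haveI := h
  let φ : pullback X.hom (Neron.genPt R) ⟶ pullback Y.hom (Neron.genPt R) :=
    ((Neron.genericFibre R).map g).left
  haveI : IsIso φ := inferInstanceAs (IsIso ((Over.forget _).map ((Neron.genericFibre R).map g)))
  have hφ : φ ≫ bY = bX ≫ g.left := pullback.lift_fst _ _ _
  have hφ' : ∀ a, bY (φ a) = g.left (bX a) := fun a => by
    rw [← Scheme.Hom.comp_apply, hφ, Scheme.Hom.comp_apply]
  have hmX : ∀ x : X.left, X.hom x = (⊥ : PrimeSpectrum R) → ∃ a, bX a = x := fun x hx => by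
    show x ∈ Set.range (pullback.fst X.hom (Neron.genPt R))
    rw [Scheme.Pullback.range_fst, range_genPt]
    exact hx
  have hmY : ∀ y : Y.left, Y.hom y = (⊥ : PrimeSpectrum R) → ∃ a, g.left (bX a) = y := fun y hy => by
    obtain ⟨c, hc⟩ : y ∈ Set.range bY := by
      show y ∈ Set.range (pullback.fst Y.hom (Neron.genPt R))
      rw [Scheme.Pullback.range_fst, range_genPt]
      exact hy
    obtain ⟨a, ha⟩ := (ConcreteCategory.bijective_of_isIso φ.base).2 c
    exact ⟨a, (hφ' a).symm.trans ((congrArg bY ha).trans hc)⟩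
  let η := genericPoint X.left
  have hspec : ∀ y : Y.left, g.left η ⤳ y := fun y => by
    obtain ⟨y', hy', hy''⟩ := Flat.generalizingMap Y.hom
      (show (⊥ : PrimeSpectrum R) ⤳ Y.hom y from (PrimeSpectrum.le_iff_specializes _ _).1 bot_le)
    obtain ⟨a, rfl⟩ := hmY y' hy''
    exact ((genericPoint_specializes (bX a)).map g.left.continuous).trans hy'
  haveI : IrreducibleSpace Y.left := by
    have hcl : closure {g.left η} = (Set.univ : Set Y.left) :=
      Set.eq_univ_of_forall fun y => (hspec y).mem_closure
    rw [irreducibleSpace_def, Set.top_eq_univ, ← hcl]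
    exact isIrreducible_singleton.closure
  haveI : ∀ y : Y.left, _root_.IsReduced (Y.left.presheaf.stalk y) := fun y => by
    haveI := hY y
    haveI := H4Depth.isDomain_of_isRegularLocalRing (Y.left.presheaf.stalk y)
    infer_instance
  haveI : AlgebraicGeometry.IsReduced Y.left := isReduced_of_isReduced_stalk _
  haveI hYi : IsIntegral Y.left := isIntegral_of_irreducibleSpace_of_isReduced Y.left
  have hgη : g.left η = genericPoint Y.left :=
    ((hspec (genericPoint Y.left)).antisymm (genericPoint_specializes _)).eq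
  obtain ⟨ξ, hξ⟩ := hmX η hom_genericPoint_eq_bot
  refine ⟨hYi, hgη, ?_, fun x x' hx hxx' => ?_⟩
  · have key : ∀ p : X.left, bX ξ = p → ∀ (_ : IsField (Y.left.presheaf.stalk (g.left p)))
        (_ : IsField (X.left.presheaf.stalk p)), Function.Bijective (g.left.stalkMap p) := by
      rintro _ rfl hFY hFX
      letI := hFY.toField
      letI := hFX.toField
      refine ⟨(g.left.stalkMap (bX ξ)).hom.injective, fun t => ?_⟩
      have h1 : Function.Surjective ((φ ≫ bY).stalkMap ξ) := (φ ≫ bY).stalkMap_surjective ξ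
      have h2 : Function.Surjective ((bX ≫ g.left).stalkMap ξ) := hφ ▸ h1
      obtain ⟨c, hc⟩ := h2 (bX.stalkMap ξ t)
      rw [Scheme.Hom.stalkMap_comp] at hc
      exact ⟨c, (bX.stalkMap ξ).hom.injective hc⟩
    refine key η hξ ?_ (Field.toIsField X.left.functionField)
    rw [hgη]
    exact Field.toIsField Y.left.functionField
  · obtain ⟨a, rfl⟩ := hmX x hx
    obtain ⟨b, rfl⟩ := hmX x' (by
      rw [← Over.w g, Scheme.Hom.comp_apply, hxx', ← Scheme.Hom.comp_apply, Over.w g]; exact hx)
    rw [← hφ' a, ← hφ' b] at hxx'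
    rw [(ConcreteCategory.bijective_of_isIso φ.base).1 (bY.isEmbedding.injective hxx')]

/-- A smooth arithmetic surface over a Dedekind domain, not a field, is relatively minimal. -/
theorem isIso_of_smooth [IsDedekindDomain R] (hR : ¬ IsField R) [IsIntegral X.left] [Flat X.hom] [IsProper X.hom]
    [Smooth X.hom] (hdim : topologicalKrullDim X.left = 2) [Flat Y.hom] [IsProper Y.hom]
    (hY : ∀ y : Y.left, IsRegularLocalRing (Y.left.presheaf.stalk y)) (g : X ⟶ Y)
    (h : IsIso ((Neron.genericFibre R).map g)) : IsIso g := by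
  classical
  obtain ⟨hYi, hξ, hbir, hgen⟩ := birational_of_genericFibre hY g h
  haveI : IsLocallyNoetherian Y.left := LocallyOfFiniteType.isLocallyNoetherian Y.hom
  haveI : IsLocallyNoetherian X.left := LocallyOfFiniteType.isLocallyNoetherian X.hom
  haveI hgp : IsProper g.left := by
    haveI : IsProper (g.left ≫ Y.hom) := by rw [Over.w g]; infer_instance
    exact IsProper.of_comp g.left Y.hom
  have hnor : Pi1.IsNormalScheme Y.left := H29Ref.isNormalScheme_of_regular hY
  have hpc := H28Pinch.isPreconnected_fibre_of_birational g.left hnor hξ hbir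
  haveI : IsDominant g.left := H10ZMT.isDominant_of_apply_genericPoint g.left hξ
  have hsurj : Function.Surjective g.left := fun t => by
    have h1 : Set.range g.left = Set.univ := by
      rw [← g.left.isClosedMap.isClosed_range.closure_eq]
      exact g.left.denseRange.closure_range
    exact h1.ge (Set.mem_univ t)
  have hcomm : ∀ z, Y.hom (g.left z) = X.hom z := fun z => by rw [← Scheme.Hom.comp_apply, Over.w g]
  have hstar : ∀ x x' : X.left, IsClosed ({g.left x} : Set Y.left) → g.left x' = g.left x → x' = x := by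
    intro x x' hycl hxx'
    by_cases hs0 : X.hom x = (⊥ : PrimeSpectrum R)
    · exact hgen x x' hs0 hxx'
    by_contra hne
    let s : Spec (CommRingCat.of R) := X.hom x
    let y := g.left x
    have hsbot : (s : PrimeSpectrum R).asIdeal ≠ ⊥ := fun e => hs0 (PrimeSpectrum.ext e)
    have hscl : IsClosed ({s} : Set (Spec (CommRingCat.of R))) := by
      rw [show ({s} : Set _) = PrimeSpectrum.zeroLocus ((s : PrimeSpectrum R).asIdeal : Set R) from ?_]
      · exact PrimeSpectrum.isClosed_zeroLocus _
      · ext t
        exact ⟨fun ht => ht ▸ fun _ hr => hr, fun ht => (PrimeSpectrum.ext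
          ((s : PrimeSpectrum R).2.isMaximal hsbot |>.eq_of_le (t : PrimeSpectrum R).2.ne_top ht)).symm⟩
    let Fb := X.hom.fiber s
    let ι : Fb ⟶ X.left := X.hom.fiberι s
    let q := X.hom.fiberToSpecResidueField s
    haveI : Smooth q := MorphismProperty.pullback_snd _ _ inferInstance
    haveI : IsLocallyNoetherian Fb := LocallyOfFiniteType.isLocallyNoetherian q
    haveI : IsNoetherian Fb := ⟨⟩
    have hdom : ∀ t : Fb, IsDomain (Fb.presheaf.stalk t) := fun t => by
      haveI := H19Grp.isRegularLocalRing_stalk_of_smooth (k := (Spec (CommRingCat.of R)).residueField s) q t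
      exact H4Depth.isDomain_of_isRegularLocalRing _
    have hrι : Set.range ι = X.hom ⁻¹' {s} := X.hom.range_fiberι s
    have hemb := (X.hom.fiberι s).isEmbedding
    let F' : Set Fb := ι ⁻¹' (g.left ⁻¹' {y})
    have hFsub : g.left ⁻¹' {y} ⊆ Set.range ι := fun z hz => by
      rw [hrι]
      show X.hom z = s
      rw [← hcomm, show g.left z = y from hz, hcomm]
    have hF'c : _root_.IsPreconnected F' := by
      rw [← hemb.isInducing.isPreconnected_image, Set.image_preimage_eq_of_subset hFsub]
      exact hpc y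
    obtain ⟨a, ha⟩ := hFsub (show x ∈ g.left ⁻¹' {y} from rfl)
    obtain ⟨a', ha'⟩ := hFsub (show x' ∈ g.left ⁻¹' {y} from hxx')
    have haF : a ∈ F' := (congrArg g.left ha :)
    have haF' : a' ∈ F' := (congrArg g.left ha').trans hxx'
    let C : Fb.Opens := ⟨connectedComponent a, H17.isOpen_connectedComponent a⟩
    have hF'C : F' ⊆ C := hF'c.subset_connectedComponent haF
    haveI : ConnectedSpace C.toScheme := Subtype.connectedSpace isConnected_connectedComponent
    haveI : CompactSpace C.toScheme :=
      isCompact_iff_compactSpace.1 (show IsCompact (C : Set Fb) from isClosed_connectedComponent.isCompact)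
    haveI : IsNoetherian C.toScheme := ⟨⟩
    haveI : IsIntegral C.toScheme := S7862.isIntegral_of_connected _ fun t => by
      haveI := hdom t.1
      exact MulEquiv.isDomain (Fb.presheaf.stalk t.1) (asIso (C.ι.stalkMap t)).symm.commRingCatIsoToRingEquiv.toMulEquiv
    let η := genericPoint X.left
    have hXS : IsClosed (X.hom ⁻¹' {s}) := hscl.preimage X.hom.continuous
    have hCcl : IsClosed (ι '' (C : Set Fb)) := by
      have hcl : Topology.IsClosedEmbedding ι := ⟨hemb, hrι ▸ hXS⟩
      exact hcl.isClosedMap _ isClosed_connectedComponent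
    have hdimC : topologicalKrullDim C.toScheme ≤ 1 := by
      have h1 : topologicalKrullDim ↥(X.hom ⁻¹' {s}) < ((2 : ℕ) : WithBot ℕ∞) := by
        refine H28Int.dim_lt_of_notMem (genericPoint_spec X.left).def ?_ hXS (fun _ _ => trivial) fun hη => ?_
        · exact Topology.IsInducing.subtypeVal.topologicalKrullDim_le.trans hdim.le
        · exact hs0 (((show X.hom η = s from hη).symm).trans hom_genericPoint_eq_bot)
      refine (C.ι.isOpenEmbedding.isInducing.topologicalKrullDim_le).trans ?_
      refine le_trans ?_ (le_one_of_lt_two h1)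
      rw [← hrι, ← hemb.toHomeomorph.isHomeomorph.topologicalKrullDim_eq]
    let F'' : Set C.toScheme := C.ι ⁻¹' F'
    have hF''cl : IsClosed F'' :=
      ((hycl.preimage g.left.continuous).preimage ι.continuous).preimage C.ι.continuous
    have hF'r : F' ⊆ Set.range C.ι := by rw [Scheme.Opens.range_ι]; exact hF'C
    have hF''c : _root_.IsPreconnected F'' := by
      rw [← C.ι.isOpenEmbedding.isInducing.isPreconnected_image, Set.image_preimage_eq_of_subset hF'r]
      exact hF'c
    by_cases hgc : genericPoint C.toScheme ∈ F''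
    swap
    · haveI := H26CDiv.discreteTopology_of_closed hdimC hF''cl hgc
      haveI : PreconnectedSpace F'' := Subtype.preconnectedSpace hF''c
      haveI : Subsingleton F'' := PreconnectedSpace.trivial_of_discrete
      obtain ⟨c, hc⟩ := hF'r haF
      obtain ⟨c', hc'⟩ := hF'r haF'
      have hcc : c' = c := congrArg Subtype.val (Subsingleton.elim
        (⟨c', show C.ι c' ∈ F' from hc'.symm ▸ haF'⟩ : F'') ⟨c, show C.ι c ∈ F' from hc.symm ▸ haF⟩)
      exact hne (by rw [← ha, ← ha', ← hc, ← hc', hcc])
    have hall : ∀ t ∈ C, g.left (ι t) = y := fun t ht => by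
      have : F'' = Set.univ := Set.eq_univ_of_forall fun c =>
        ((genericPoint_specializes c).mem_closed hF''cl hgc)
      have h2 : (⟨t, ht⟩ : C.toScheme) ∈ F'' := this ▸ trivial
      exact h2
    have hBcl : IsClosed (ι '' (C : Set Fb)ᶜ) :=
      (show Topology.IsClosedEmbedding ι from ⟨hemb, hrι ▸ hXS⟩).isClosedMap _ C.2.isClosed_compl
    let W : Y.left.Opens := ⟨(g.left '' (ι '' (C : Set Fb)ᶜ))ᶜ, (g.left.isClosedMap _ hBcl).isOpen_compl⟩
    have hyW : y ∈ W := by
      rintro ⟨_, ⟨t, ht, rfl⟩, hty⟩
      exact ht (hF'C hty)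
    have hWy : ∀ z ∈ W, Y.hom z = Y.hom y → z = y := fun z hz hzs => by
      obtain ⟨w, rfl⟩ := hsurj z
      obtain ⟨t, rfl⟩ : w ∈ Set.range ι := by
        rw [hrι]
        exact (hcomm w).symm.trans (hzs.trans (hcomm x))
      by_cases htC : t ∈ C
      · exact hall t htC
      · exact absurd ⟨ι t, ⟨t, htC, rfl⟩, rfl⟩ hz
    have hgmap : ∀ r, g.left.stalkMap η (DualGr.stalkHom Y.hom (g.left η) r) = DualGr.stalkHom X.hom η r :=
      fun r => stalkHom_stalkMap g η r
    have hinjX : Function.Injective (DualGr.stalkHom X.hom η) := by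
      intro r r' hrr'
      by_contra hd
      have hu : IsUnit (DualGr.stalkHom X.hom η (r - r')) := by
        refine (isUnit_stalkHom_iff' X.hom η _).2 ?_
        rw [hom_genericPoint_eq_bot]
        exact fun hm => hd (sub_eq_zero.1 hm)
      rw [map_sub, hrr', sub_self] at hu
      exact not_isUnit_zero hu
    have hinjY : Function.Injective (DualGr.stalkHom Y.hom (g.left η)) := fun r r' hrr' =>
      hinjX (by rw [← hgmap, ← hgmap, hrr'])
    have halg : ∀ p : Y.left, genericPoint Y.left = p → Function.Injective (DualGr.stalkHom Y.hom p) →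
        ∀ b : Y.left.presheaf.stalk p, ∃ f : R[X], f ≠ 0 ∧ f.eval₂ (DualGr.stalkHom Y.hom p) b = 0 := by
      rintro _ rfl hinj b
      exact isAlgebraic_functionField_of_isolated Y.hom hinj y W hyW hWy b
    have hle : topologicalKrullDim X.left ≤ ((1 : ℕ) : WithBot ℕ∞) := by
      refine topologicalKrullDim_le_of_stalks _ fun z => ?_
      let F := X.left.functionField
      haveI : IsDomain (X.left.presheaf.stalk z) := inferInstance
      have hψ : Function.Injective (DualGr.stalkHom X.hom z) := fun r r' hrr' => hinjX (by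
        rw [← algebraMap_stalkHom_base X.hom z r, ← algebraMap_stalkHom_base X.hom z r', hrr'])
      refine ringKrullDim_le_one_of_algebraic' _ hψ fun b => ?_
      obtain ⟨c, hc⟩ := hbir.2 (algebraMap (X.left.presheaf.stalk z) F b)
      obtain ⟨f, hf, hfc⟩ := halg _ hξ.symm hinjY c
      refine ⟨f, hf, IsFractionRing.injective (X.left.presheaf.stalk z) F ?_⟩
      rw [map_zero, hom_eval₂, ← hc, show (algebraMap (X.left.presheaf.stalk z) F).comp (DualGr.stalkHom X.hom z) =
        (g.left.stalkMap η).hom.comp (DualGr.stalkHom Y.hom (g.left η)) from RingHom.ext fun r =>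
          (algebraMap_stalkHom_base X.hom z r).trans (hgmap r).symm, ← hom_eval₂, hfc, map_zero]
    rw [hdim] at hle
    exact absurd hle (by decide)
  haveI : IsIso g.left.fromNormalization := H10ZMT.isIso_fromNormalization g.left fun V _ =>
    ⟨(H28Pinch.bijective_app_of_birational g.left hnor hξ hbir V).1,
      fun b _ => (H28Pinch.bijective_app_of_birational g.left hnor hξ hbir V).2 b⟩
  obtain ⟨V, hV, hVq⟩ := H10ZMT.exists_open_isIso_quasiFinite g.left
  have hVtop : V = ⊤ := by
    haveI : CompactSpace Y.left := QuasiCompact.compactSpace_of_compactSpace Y.hom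
    by_contra hVne
    obtain ⟨y, hyV, hy⟩ := V.2.isClosed_compl.exists_closed_singleton
      (Set.nonempty_compl.2 fun e => hVne (Opens.ext e))
    obtain ⟨x, rfl⟩ := hsurj y
    refine hyV ((hVq x).2 ?_)
    rw [Scheme.Hom.quasiFiniteAt_iff_isOpen_singleton_asFiber]
    haveI : Subsingleton (g.left.fiber (g.left x)) := ⟨fun u v => by
      have hu : g.left (g.left.fiberι _ u) = g.left x := (g.left.range_fiberι (g.left x)).subset ⟨u, rfl⟩
      have hv : g.left (g.left.fiberι _ v) = g.left x := (g.left.range_fiberι (g.left x)).subset ⟨v, rfl⟩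
      exact (g.left.fiberι _).isEmbedding.injective ((hstar x _ hy hu).trans (hstar x _ hy hv).symm)⟩
    exact isOpen_discrete _
  haveI : IsIso g.left := by
    refine IsZariskiLocalAtTarget.of_iSup_eq_top (P := MorphismProperty.isomorphisms Scheme) (fun _ : PUnit.{u+1} => V)
      (by rw [iSup_const, hVtop]) fun _ => hV
  haveI : IsIso ((Over.forget _).map g) := ‹IsIso g.left›
  exact isIso_of_reflects_iso g (Over.forget _)

end Groth.Agent.H28Vert
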