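import Groth.Agent.H28Vert.ExcNum
import Groth.Agent.H28Curve.DegOneIso

/-!
# Genus zero and self-intersection minus the degree of the constants characterise exceptional curves
-/

set_option autoImplicit false
set_option linter.style.haveILetI false
set_option backward.isDefEq.respectTransparency.types false
universe u

open CategoryTheory CategoryTheory.Limits AlgebraicGeometry Opposite TopologicalSpace

namespace Groth.Agent.H28Vert

/-- Dimensions of cohomology over a field of constants and over a smaller field. -/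
theorem finrank_HH_tower (k K : Type u) [Field k] [Field K] [Algebra k K] {E : Scheme.{u}}
    [E.Over (Spec (CommRingCat.of k))] [E.Over (Spec (CommRingCat.of K))]
    (h : ∀ a, Coh.toGlobal (E ↘ Spec (CommRingCat.of K)) (algebraMap k K a) =
      Coh.toGlobal (E ↘ Spec (CommRingCat.of k)) a) (M : E.Modules) (i : ℕ) :
    Module.finrank k (Coh.HH E M i) = Module.finrank k K * Module.finrank K (Coh.HH E M i) := by
  haveI : IsScalarTower k K (Coh.HH E M i) := IsScalarTower.of_algebraMap_smul fun a x => by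
    show Coh.toGlobal (E ↘ Spec (CommRingCat.of K)) (algebraMap k K a) • x =
      Coh.toGlobal (E ↘ Spec (CommRingCat.of k)) a • x
    rw [h a]
  exact (Module.finrank_mul_finrank k K (Coh.HH E M i)).symm

/-- The global functions are a line over the field they come from. -/
theorem finrank_H0_eq_one {K : Type u} [Field K] {E : Scheme.{u}} [E.Over (Spec (CommRingCat.of K))]
    [IsIntegral E] (hs : Function.Surjective (Coh.toGlobal (E ↘ Spec (CommRingCat.of K)))) :
    Module.finrank K (Coh.HH E (Coh.structureModule E) 0) = 1 := by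
  haveI : Nonempty (⊤ : E.Opens) := ⟨⟨genericPoint E, trivial⟩⟩
  haveI := E.component_nontrivial ⊤
  let S := H29RR.sec (Coh.structureModule E)
  refine finrank_eq_one (S.symm (show Γ(Coh.structureModule E, ⊤) from (1 : Γ(E, ⊤)))) (fun h0 => ?_) fun w => ?_
  · have := congrArg S h0
    rw [AddEquiv.apply_symm_apply, map_zero] at this
    exact one_ne_zero (α := Γ(E, ⊤)) this
  · obtain ⟨a, ha⟩ := hs (show Γ(E, ⊤) from S w)
    refine ⟨a, S.injective ?_⟩
    rw [H29RR.sec_smul, AddEquiv.apply_symm_apply]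
    show H10Coh.globA (A := K) (X := E) a * (1 : Γ(E, ⊤)) = (show Γ(E, ⊤) from S w)
    rw [mul_one]
    exact ha

/-- A curve with numbers of an exceptional curve is a projective line over any field which is its field of
constants. -/
theorem exists_iso_projLine_over (k K : Type u) [Field k] [Field K] [Algebra k K] {E : Scheme.{u}}
    [E.Over (Spec (CommRingCat.of k))] [E.Over (Spec (CommRingCat.of K))]
    [IsProper (E ↘ Spec (CommRingCat.of K))] [IsIntegral E] (hdim : topologicalKrullDim E ≤ 1)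
    (htow : ∀ a, Coh.toGlobal (E ↘ Spec (CommRingCat.of K)) (algebraMap k K a) =
      Coh.toGlobal (E ↘ Spec (CommRingCat.of k)) a)
    (hs : Function.Surjective (Coh.toGlobal (E ↘ Spec (CommRingCat.of K))))
    {M M' : E.Modules} (hM : PicF.IsInvertible M) (hM' : PicF.IsInvertible M')
    (t : CohB1.tensorMod M' M ≅ Coh.structureModule E)
    (hpos : 0 < Module.finrank k (Coh.HH E (Coh.structureModule E) 0))
    (h1 : Module.finrank k (Coh.HH E (Coh.structureModule E) 1) = 0)
    (hneg : FGA.eulerCharLE k E M' 1 - FGA.eulerCharLE k E (Coh.structureModule E) 1 =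
      -(Module.finrank k (Coh.HH E (Coh.structureModule E) 0) : ℤ)) :
    ∃ e : E ≅ CohB1.ProjSpace 1 K,
      e.hom ≫ CohB1.ProjSpace.toSpec 1 K = E ↘ Spec (CommRingCat.of K) ∧ Nonempty ((Scheme.Modules.pullback e.hom).obj (Twist.twistProjSpace 1 K 1) ≅ M) := by
  have hh0 := finrank_H0_eq_one (K := K) (E := E) hs
  have hmul := finrank_HH_tower k K (E := E) htow
  have hd : Module.finrank k (Coh.HH E (Coh.structureModule E) 0) = Module.finrank k K := by
    rw [hmul, hh0, mul_one]
  rw [hd] at hpos hneg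
  have hgen : Curv2.genus K E = 0 := by
    rw [hmul, mul_eq_zero] at h1
    exact h1.resolve_left hpos.ne'
  have hdegM' : Curv2.deg K E M' 1 = -1 := by
    have e1 := H29RR.euler_eq_sub (k := K) hdim M'
    have e2 := H29RR.euler_eq_sub (k := K) hdim (Coh.structureModule E)
    simp only [FGA.eulerCharLE, Finset.sum_range_succ, Finset.sum_range_zero, zero_add, pow_zero, pow_one, one_mul,
      hmul, Nat.cast_mul] at hneg
    rw [H29RR.deg_def, e1, e2]
    have h4 : (Module.finrank k K : ℤ) *
        (((Module.finrank K (Coh.HH E M' 0) : ℤ) - Module.finrank K (Coh.HH E M' 1)) -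
          ((Module.finrank K (Coh.HH E (Coh.structureModule E) 0) : ℤ) -
            Module.finrank K (Coh.HH E (Coh.structureModule E) 1)) + 1) = 0 := by
      linear_combination hneg
    have h5 := (mul_eq_zero.1 h4).resolve_left (by exact_mod_cast hpos.ne')
    omega
  have hdegM : Curv2.deg K E M 1 = 1 := by
    have h := H29RR.deg_congr (k := K) t
    rw [H29RR.deg_tensor (k := K) hdim hM' hM, H29RR.deg_structureModule, hdegM'] at h
    omega
  obtain ⟨e, he, hτ⟩ := H28Curve.exists_iso_projLine (k := K) hdim hgen hM hdegM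
  exact ⟨e, he, hτ⟩

/-- Conjugating the twist of the line by an isomorphism. -/
theorem isExcCurve_of_iso {E Y : Scheme.{u}} (ι : E ⟶ Y) (hEff : BlowUp.IsEffCartierIdeal ι.ker) (K : Type u)
    [Field K] (e : E ≅ CohB1.ProjSpace 1 K)
    (τ : (Scheme.Modules.pullback e.hom).obj (Twist.twistProjSpace 1 K 1) ≅
      (Scheme.Modules.pullback ι).obj (ClSub.idealMod ι.ker)) : Models.IsExcCurve ι :=
  ⟨hEff, K, inferInstance, e.symm, ⟨((Scheme.Modules.pullbackComp e.inv ι).app _).symm ≪≫
    (Scheme.Modules.pullback e.inv).mapIso τ.symm ≪≫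
    (Scheme.Modules.pullbackComp e.inv e.hom).app _ ≪≫
    (Scheme.Modules.pullbackCongr e.inv_hom_id).app _ ≪≫ (Scheme.Modules.pullbackId _).app _⟩⟩

variable {R : Type u} [CommRing R] [IsDomain R] [IsDiscreteValuationRing R]
  {X : Over (Spec (CommRingCat.of R))}

/-- The criterion for exceptional curves of the first kind. -/
theorem isExcCurve_of_numbers [IsProper X.hom] {Γ : ArSurf.VertComp R X} {L : X.left.Modules}
    (hEff : BlowUp.IsEffCartierIdeal Γ.ι.ker) (hinv : PicF.IsInvertible L)
    (hL : ClSub.IsInverseOf L (ClSub.idealMod Γ.ι.ker)) (hh1 : Models.h1 R X Γ = 0)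
    (hint : ArSurf.inter R X L Γ = -(Models.wdeg R X Γ : ℤ)) : Models.IsExcCurve Γ.ι := by
  let k := IsLocalRing.ResidueField R
  let E := Γ.curve.left
  haveI := isProper_curve Γ
  haveI : IsIntegral E := Γ.isIntegral
  haveI hpk : IsProper (E ↘ Spec (CommRingCat.of k)) := inferInstanceAs (IsProper Γ.curve.hom)
  have hdim : topologicalKrullDim E ≤ 1 := Γ.dim_eq.le
  letI : Field Γ(E, ⊤) :=
    (H22Alg.GlobalFunctions.isField_of_universallyClosed (E ↘ Spec (CommRingCat.of k))).toField
  letI : Algebra k Γ(E, ⊤) := (Coh.toGlobal (E ↘ Spec (CommRingCat.of k))).toAlgebra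
  letI : E.Over (Spec (CommRingCat.of Γ(E, ⊤))) := ⟨E.toSpecΓ⟩
  have hid : ∀ x : Γ(E, ⊤), Coh.toGlobal (E ↘ Spec (CommRingCat.of Γ(E, ⊤))) x = x := fun x => by
    show E.toSpecΓ.appTop ((Scheme.ΓSpecIso Γ(E, ⊤)).inv x) = x
    rw [Scheme.toSpecΓ_appTop]
    exact congrArg (fun f => f x) (Scheme.ΓSpecIso Γ(E, ⊤)).inv_hom_id
  haveI : IsProper (E ↘ Spec (CommRingCat.of Γ(E, ⊤))) := by
    let θ := (Scheme.ΓSpecIso (CommRingCat.of k)).inv ≫ (E ↘ Spec (CommRingCat.of k)).appTop
    have hfac : E.toSpecΓ ≫ Spec.map θ = E ↘ Spec (CommRingCat.of k) :=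
      (H11Tilde.hom_to_Spec_ext (E ↘ Spec (CommRingCat.of k))).symm
    haveI : IsProper (E.toSpecΓ ≫ Spec.map θ) := by rw [hfac]; exact hpk
    exact IsProper.of_comp E.toSpecΓ (Spec.map θ)
  obtain ⟨ρ⟩ := hL
  obtain ⟨π⟩ := H11Ample.exists_iso_pullback_tensor Γ.ι hinv (H29Blow.isInvertible_of_isEffCartierIdeal _ hEff)
  obtain ⟨s⟩ := H11Ample.nonempty_pullback_structureModule_iso Γ.ι
  obtain ⟨e, -, ⟨τ⟩⟩ := exists_iso_projLine_over k Γ(E, ⊤) (E := E) hdim (fun a => hid _) (fun x => ⟨x, hid x⟩)
    (H11Ample.isInvertible_pullback Γ.ι (H29Blow.isInvertible_of_isEffCartierIdeal _ hEff))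
    (H11Ample.isInvertible_pullback Γ.ι hinv)
    (π.symm ≪≫ (Scheme.Modules.pullback Γ.ι).mapIso ρ ≪≫ s)
    (wdeg_pos Γ) hh1 hint
  exact isExcCurve_of_iso Γ.ι hEff Γ(E, ⊤) e τ

end Groth.Agent.H28Vert

namespace Groth.Agent.H28Vert

variable {R : Type u} [CommRing R] [IsDomain R] [IsDiscreteValuationRing R]
  {X : Over (Spec (CommRingCat.of R))}

/-- An exceptional curve with constants the residue field is the projective line over the residue field. -/
theorem exists_iso_residueField [IsProper X.hom] {Γ : ArSurf.VertComp R X} {L : X.left.Modules}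
    (hinv : PicF.IsInvertible L) (hL : ClSub.IsInverseOf L (ClSub.idealMod Γ.ι.ker))
    (hEff : BlowUp.IsEffCartierIdeal Γ.ι.ker) (hw : Models.wdeg R X Γ = 1)
    (hh1 : Models.h1 R X Γ = 0) (hint : ArSurf.inter R X L Γ = -(Models.wdeg R X Γ : ℤ)) :
    ∃ e : Γ.curve.left ≅ CohB1.ProjSpace 1 (IsLocalRing.ResidueField R),
      e.hom ≫ CohB1.ProjSpace.toSpec 1 (IsLocalRing.ResidueField R) = Γ.curve.hom := by
  let k := IsLocalRing.ResidueField R
  let E := Γ.curve.left
  haveI := isProper_curve Γ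
  haveI : IsIntegral E := Γ.isIntegral
  haveI hpk : IsProper (E ↘ Spec (CommRingCat.of k)) := inferInstanceAs (IsProper Γ.curve.hom)
  have hs : Function.Surjective (Coh.toGlobal (E ↘ Spec (CommRingCat.of k))) := by
    intro x
    let S := H29RR.sec (Coh.structureModule E)
    have hne : S.symm (show Γ(Coh.structureModule E, ⊤) from (1 : Γ(E, ⊤))) ≠ 0 := fun h => by
      haveI : Nonempty (⊤ : E.Opens) := ⟨⟨genericPoint E, trivial⟩⟩
      haveI := E.component_nontrivial ⊤
      have := congrArg S h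
      rw [AddEquiv.apply_symm_apply, map_zero] at this
      exact one_ne_zero (α := Γ(E, ⊤)) this
    obtain ⟨a, ha⟩ := (finrank_eq_one_iff_of_nonzero' _ hne).1 hw (S.symm (show Γ(Coh.structureModule E, ⊤) from x))
    refine ⟨a, ?_⟩
    have := congrArg S ha
    rw [H29RR.sec_smul, AddEquiv.apply_symm_apply, AddEquiv.apply_symm_apply] at this
    exact (mul_one _).symm.trans this
  obtain ⟨ρ⟩ := hL
  obtain ⟨π⟩ := H11Ample.exists_iso_pullback_tensor Γ.ι hinv (H29Blow.isInvertible_of_isEffCartierIdeal _ hEff)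
  obtain ⟨s⟩ := H11Ample.nonempty_pullback_structureModule_iso Γ.ι
  obtain ⟨e, he, -⟩ := exists_iso_projLine_over k k (E := E) Γ.dim_eq.le (fun a => rfl) hs
    (H11Ample.isInvertible_pullback Γ.ι (H29Blow.isInvertible_of_isEffCartierIdeal _ hEff))
    (H11Ample.isInvertible_pullback Γ.ι hinv)
    (π.symm ≪≫ (Scheme.Modules.pullback Γ.ι).mapIso ρ ≪≫ s)
    (wdeg_pos Γ) hh1 hint
  exact ⟨e, he⟩

end Groth.Agent.H28Vert
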