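import Groth.Agent.H28Vert.Degree
import Groth.Agent.H16Derived.ProjFormula.ClosedImm
import Groth.Agent.H10Coh.Serre

/-!
# Symmetry of the intersection numbers of vertical curves
-/

set_option autoImplicit false
set_option linter.style.haveILetI false
set_option backward.isDefEq.respectTransparency.types false
universe u

open CategoryTheory CategoryTheory.Limits AlgebraicGeometry Opposite TopologicalSpace

namespace Groth.Agent.H28Vert

open Groth.Agent.H28Int

/-- The cokernel of the inclusion of an ideal is the structure sheaf of the closed subscheme. -/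
noncomputable def cokernelIdealModιIso {X : Scheme.{u}} (I : X.IdealSheafData) :
    cokernel (ClSub.idealModι I) ≅ ClSub.quotMod I := by
  haveI := H10Coh.epi_toSubscheme I
  exact (cokernelIsCokernel _).coconePointUniqueUpToIso
    (H10Coh.shortExact_kernel (ClSub.toSubscheme I)).gIsCokernel

/-- A direct image along an isomorphism of the structure sheaf. -/
noncomputable def pushStructureIso {X Y : Scheme.{u}} (t : Y ⟶ X) [IsIso t] :
    (Coh.push t).obj (Coh.structureModule Y) ≅ Coh.structureModule X :=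
  haveI := H28Pinch.isIso_unit_of_isFinLocFree t (fun U => ConcreteCategory.bijective_of_isIso (t.app U))
    (Coh.structureModule X) (H28Pinch.isFinLocFree_of_isInvertible (H28Int.isInvertible_structureModule X))
  ((Coh.push t).mapIso (H16Derived.KFlat.Stalk.structurePullbackIso t)).symm ≪≫
    (asIso ((Scheme.Modules.pullbackPushforwardAdjunction t).unit.app (Coh.structureModule X))).symm

/-- The structure sheaf of the scheme theoretic image of a closed immersion. -/
noncomputable def quotModKerIso {X Y : Scheme.{u}} (ι : Y ⟶ X) [IsClosedImmersion ι] :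
    ClSub.quotMod ι.ker ≅ (Coh.push ι).obj (Coh.structureModule Y) :=
  haveI : IsIso ι.toImage := inferInstance
  (Coh.push ι.imageι).mapIso (pushStructureIso ι.toImage).symm ≪≫
    (Scheme.Modules.pushforwardComp ι.toImage ι.imageι).app _ ≪≫
    eqToIso (by rw [Scheme.Hom.toImage_imageι])

section field

variable (k : Type u) [Field k] {X Y : Scheme.{u}} [X.Over (Spec (CommRingCat.of k))]
  [Y.Over (Spec (CommRingCat.of k))] [IsProper (X ↘ Spec (CommRingCat.of k))]
  [IsProper (Y ↘ Spec (CommRingCat.of k))] [IsIntegral Y]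

/-- The degree against a closed curve of a cosection which is invertible at its generic point. -/
theorem D_eq_euler_tensor (j : Y ⟶ X) [IsClosedImmersion j] {N N' : X.Modules} (hN : PicF.IsInvertible N)
    (hN' : PicF.IsInvertible N') (e : CohB1.tensorMod N N' ≅ Coh.structureModule X)
    (ν : N ⟶ Coh.structureModule X) (hν : IsIso ((DerSch.stalkFunctor X (j (genericPoint Y))).map ν)) :
    D k [N] ((Coh.push j).obj (Coh.structureModule Y)) =
      Curv2.euler k X (CohB1.tensorMod ((Coh.push j).obj (Coh.structureModule Y)) (cokernel ν)) := by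
  haveI := isNoetherian k (X := X)
  haveI := isNoetherian k (X := Y)
  let E := (Coh.push j).obj (Coh.structureModule Y)
  let x := j (genericPoint Y)
  have hE : Coh.IsCoh E := LeadDev.isCoh_push_structure j
  let T := (DCoh.tensorBi (X := X)).obj E
  let φ := T.map ν
  have hx : IsIso ((DerSch.stalkFunctor X x).map φ) := by
    have h2 : IsIso ((T ⋙ DerSch.stalkFunctor X x).map ν) := by
      rw [NatIso.isIso_map_iff (H16Derived.KFlat.Stalk.leftIso E x) ν]
      exact inferInstanceAs (IsIso ((MonoidalCategory.tensorLeft _).map _))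
    exact h2
  let T' := (DCoh.tensorBi (X := X)).flip.obj N'
  have hS₀ : (ShortComplex.mk (kernel.ι φ) (cokernel.π (kernel.ι φ)) (cokernel.condition _)).ShortExact :=
    ShortComplex.ShortExact.mk' (ShortComplex.exact_cokernel _) inferInstance inferInstance
  haveI : Mono (T'.map (kernel.ι φ)) := (tensor_shortExact hS₀ hN').mono_f
  let i : CohB1.tensorMod (kernel φ) N' ⟶ E :=
    T'.map (kernel.ι φ) ≫ (H10Coh.Tw.assoc E N N' ≪≫ PicGrp.tensorModIso (Iso.refl E) e ≪≫
      H10Coh.Tw.rightUnitIso E).hom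
  haveI : Mono i := mono_comp (T'.map (kernel.ι φ)) _
  have hKz : IsZero (CohB1.tensorMod (kernel φ) N') := isZero_of_mono_push j i
    fun h => (H25Euler.notMem_support_kernel_cokernel φ hx).1 (H25Euler.support_tensor_subset _ N' h)
  have hker : IsZero (kernel φ) := by
    refine H16Derived.KFlat.Stalk.isZero_of_stalk fun z => (H25Euler.notMem_support_iff _ z).1 fun hz => ?_
    have h1 : z ∈ CohB1.support (CohB1.tensorMod (CohB1.tensorMod (kernel φ) N') N) :=
      LeadDev.support_subset_of_iso
        ((H10Coh.Tw.rightUnitIso (kernel φ)).symm ≪≫ PicGrp.tensorModIso (Iso.refl _)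
          (e.symm ≪≫ H10Coh.Tw.commIso N N') ≪≫ (H10Coh.Tw.assoc (kernel φ) N' N).symm) hz
    have h2 := H25Euler.support_tensor_subset _ N h1
    rw [LeadDev.support_eq_empty_of_isZero hKz] at h2
    exact h2
  haveI : Mono φ := Preadditive.mono_of_isZero_kernel φ hker
  have hA : Coh.IsCoh (T.obj N) := H11Ample.isCoh_tensor hE hN
  have hB : Coh.IsCoh (T.obj (Coh.structureModule X)) :=
    H10Coh.isCoh_of_iso (H10Coh.Tw.rightUnitIso E).symm hE
  have hC := H10Coh.isCoh_cokernel φ hA.1 hB
  have hS : (ShortComplex.mk φ (cokernel.π φ) (cokernel.condition φ)).ShortExact :=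
    ShortComplex.ShortExact.mk' (ShortComplex.exact_cokernel φ) inferInstance inferInstance
  have hadd := (isAddFn_euler k).add _ hS hA hB hC
  change Curv2.euler k X (T.obj (Coh.structureModule X)) = Curv2.euler k X (T.obj N) +
    Curv2.euler k X (cokernel φ) at hadd
  have e1 : Curv2.euler k X (T.obj (Coh.structureModule X)) = Curv2.euler k X E :=
    H25Euler.euler_congr (H10Coh.Tw.rightUnitIso E)
  have e2 : Curv2.euler k X (T.obj N) = Curv2.euler k X (CohB1.tensorMod N E) :=
    H25Euler.euler_congr (H10Coh.Tw.commIso E N)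
  have e3 : Curv2.euler k X (cokernel φ) = Curv2.euler k X (T.obj (cokernel ν)) :=
    H25Euler.euler_congr (PreservesCokernel.iso T ν).symm
  show Curv2.euler k X E - Curv2.euler k X (CohB1.tensorMod N E) = Curv2.euler k X (T.obj (cokernel ν))
  omega

end field

variable {R : Type u} [CommRing R] [IsDomain R] [IsDiscreteValuationRing R]
  {X : Over (Spec (CommRingCat.of R))}

/-- The inclusion of the closed point in the spectrum. -/
noncomputable abbrev closedPt (R : Type u) [CommRing R] [IsLocalRing R] :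
    Spec (CommRingCat.of (IsLocalRing.ResidueField R)) ⟶ Spec (CommRingCat.of R) :=
  Spec.map (CommRingCat.ofHom (IsLocalRing.residue R))

instance : IsClosedImmersion (closedPt R) :=
  IsClosedImmersion.spec_of_surjective _ IsLocalRing.residue_surjective

/-- A vertical curve in the closed fibre. -/
noncomputable def toFibre (Γ : ArSurf.VertComp R X) : Γ.curve.left ⟶ pullback X.hom (closedPt R) :=
  pullback.lift Γ.ι Γ.curve.hom Γ.w

theorem toFibre_fst (Γ : ArSurf.VertComp R X) :
    toFibre Γ ≫ pullback.fst X.hom (closedPt R) = Γ.ι :=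
  pullback.lift_fst _ _ _

instance (Γ : ArSurf.VertComp R X) : IsClosedImmersion (toFibre Γ) := by
  haveI : IsClosedImmersion (toFibre Γ ≫ pullback.fst X.hom (closedPt R)) := by
    rw [toFibre_fst]; infer_instance
  exact IsClosedImmersion.of_comp (toFibre Γ) (pullback.fst X.hom (closedPt R))

noncomputable instance : (pullback X.hom (closedPt R)).Over
    (Spec (CommRingCat.of (IsLocalRing.ResidueField R))) :=
  ⟨pullback.snd X.hom (closedPt R)⟩

instance [IsProper X.hom] :
    IsProper ((pullback X.hom (closedPt R)) ↘ Spec (CommRingCat.of (IsLocalRing.ResidueField R))) :=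
  inferInstanceAs (IsProper (pullback.snd X.hom (closedPt R)))

/-- The restriction to the closed fibre of the cokernel of the ideal of a vertical curve. -/
noncomputable def fibreCokerIso (Γ : ArSurf.VertComp R X) :
    cokernel ((Scheme.Modules.pullback (pullback.fst X.hom (closedPt R))).map (ClSub.idealModι Γ.ι.ker) ≫
      (H16Derived.KFlat.Stalk.structurePullbackIso (pullback.fst X.hom (closedPt R))).hom) ≅
    (Coh.push (toFibre Γ)).obj (Coh.structureModule Γ.curve.left) :=
  let b := pullback.fst X.hom (closedPt R)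
  haveI : (Scheme.Modules.pullback b).IsLeftAdjoint :=
    (Scheme.Modules.pullbackPushforwardAdjunction b).isLeftAdjoint
  haveI := H16Derived.ProjFormula.isIso_counit_of_isClosedImmersion b
    ((Coh.push (toFibre Γ)).obj (Coh.structureModule Γ.curve.left))
  cokernelCompIsIso _ _ ≪≫ (PreservesCokernel.iso _ (ClSub.idealModι Γ.ι.ker)).symm ≪≫
    (Scheme.Modules.pullback b).mapIso (cokernelIdealModιIso Γ.ι.ker ≪≫ quotModKerIso Γ.ι ≪≫
      eqToIso (by rw [toFibre_fst]) ≪≫ ((Scheme.Modules.pushforwardComp (toFibre Γ) b).app _).symm) ≪≫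
    asIso ((Scheme.Modules.pullbackPushforwardAdjunction b).counit.app _)

theorem genericPoint_notMem (Γ₁ Γ₂ : ArSurf.VertComp R X)
    (hne : Set.range Γ₁.ι.base ≠ Set.range Γ₂.ι.base) :
    Γ₁.ι.base (genericPoint Γ₁.curve.left) ∉ (Γ₂.ι.ker.support : Set X.left) := by
  rw [Scheme.Hom.support_ker, IsClosed.closure_eq Γ₂.ι.isClosedEmbedding.isClosed_range]
  intro h
  have hsub : Set.range Γ₁.ι.base ⊆ Set.range Γ₂.ι.base := by
    rintro _ ⟨z, rfl⟩
    exact ((genericPoint_specializes z).map Γ₁.ι.continuous).mem_closed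
      Γ₂.ι.isClosedEmbedding.isClosed_range h
  have hdim : ∀ Γ : ArSurf.VertComp R X, topologicalKrullDim (Set.range Γ.ι.base) = 1 := fun Γ =>
    (IsHomeomorph.topologicalKrullDim_eq _ Γ.ι.isClosedEmbedding.isEmbedding.toHomeomorph.isHomeomorph).symm.trans Γ.dim_eq
  by_cases h₂ : Γ₂.ι.base (genericPoint Γ₂.curve.left) ∈ Set.range Γ₁.ι.base
  · refine hne (hsub.antisymm ?_)
    rintro _ ⟨z, rfl⟩
    exact ((genericPoint_specializes z).map Γ₂.ι.continuous).mem_closed
      Γ₁.ι.isClosedEmbedding.isClosed_range h₂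
  · have hlt : topologicalKrullDim (Set.range Γ₁.ι.base) < ((1 : ℕ) : WithBot ℕ∞) :=
      dim_lt_of_notMem (C := Set.range Γ₂.ι.base) (LeadDev.range_eq_closure Γ₂.ι (ξ := Γ₂.ι (genericPoint _)) rfl).symm
        (hdim Γ₂).le Γ₁.ι.isClosedEmbedding.isClosed_range hsub h₂
    exact absurd (hdim Γ₁) hlt.ne

theorem inter_eq_euler [IsProper X.hom] (Γ₁ Γ₂ : ArSurf.VertComp R X)
    (hne : Set.range Γ₁.ι.base ≠ Set.range Γ₂.ι.base) {L : X.left.Modules}
    (hL : ClSub.IsInverseOf L (ClSub.idealMod Γ₂.ι.ker)) :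
    ArSurf.inter R X L Γ₁ = Curv2.euler (IsLocalRing.ResidueField R) (pullback X.hom (closedPt R))
      (CohB1.tensorMod ((Coh.push (toFibre Γ₁)).obj (Coh.structureModule Γ₁.curve.left))
        ((Coh.push (toFibre Γ₂)).obj (Coh.structureModule Γ₂.curve.left))) := by
  let k := IsLocalRing.ResidueField R
  haveI := isProper_curve Γ₁
  haveI : IsProper (Γ₁.curve.left ↘ Spec (CommRingCat.of k)) := inferInstanceAs (IsProper Γ₁.curve.hom)
  obtain ⟨e⟩ := hL
  let I := Γ₂.ι.ker
  have hLi : PicF.IsInvertible L := H17.InvertibleTensor.isInvertible_of_tensor_iso L _ e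
  have hIi : PicF.IsInvertible (ClSub.idealMod I) :=
    H17.InvertibleTensor.isInvertible_of_tensor_iso _ L (H10Coh.Tw.commIso _ _ ≪≫ e)
  let b := pullback.fst X.hom (closedPt R)
  let j := toFibre Γ₁
  have hj : j ≫ (pullback X.hom (closedPt R) ↘ Spec (CommRingCat.of k)) =
      Γ₁.curve.left ↘ Spec (CommRingCat.of k) := pullback.lift_snd _ _ _
  let F := Scheme.Modules.pullback b
  let u := H16Derived.KFlat.Stalk.structurePullbackIso b
  let N := F.obj (ClSub.idealMod I)
  let N' := F.obj L
  let ν : N ⟶ Coh.structureModule _ := F.map (ClSub.idealModι I) ≫ u.hom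
  have hN : PicF.IsInvertible N := H11Ample.isInvertible_pullback b hIi
  have hN' : PicF.IsInvertible N' := H11Ample.isInvertible_pullback b hLi
  let eN : CohB1.tensorMod N N' ≅ Coh.structureModule _ :=
    ((H16Derived.KFlat.Stalk.pullTensorLIso b L).app (ClSub.idealMod I)).symm ≪≫
      F.mapIso (H10Coh.Tw.commIso _ _ ≪≫ e) ≪≫ u
  have hν : IsIso ((DerSch.stalkFunctor (pullback X.hom (closedPt R)) (j (genericPoint _))).map ν) := by
    let x := j (genericPoint Γ₁.curve.left)
    have hbx : b x ∉ (I.support : Set X.left) := by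
      show (j ≫ b) (genericPoint _) ∉ _
      rw [show j ≫ b = Γ₁.ι from toFibre_fst Γ₁]
      exact genericPoint_notMem Γ₁ Γ₂ hne
    haveI := H25Euler.isIso_stalk_idealModι I hbx
    have h2 : IsIso ((F ⋙ DerSch.stalkFunctor _ x ⋙
        forget₂ (ModuleCat.{u} _) AddCommGrpCat.{u}).map (ClSub.idealModι I)) := by
      rw [← NatIso.isIso_map_iff (H16Derived.KFlat.Stalk.pullStalkNatIso b x) (ClSub.idealModι I)]
      rw [Functor.comp_map]
      infer_instance
    have h1 : IsIso ((DerSch.stalkFunctor _ x).map (F.map (ClSub.idealModι I))) :=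
      @isIso_of_reflects_iso _ _ _ _ _ _ _ (forget₂ (ModuleCat.{u} _) AddCommGrpCat.{u}) h2 _
    rw [Functor.map_comp]
    haveI := h1
    infer_instance
  let P := (Scheme.Modules.pullback Γ₁.ι).obj L
  let eP : (Scheme.Modules.pullback j).obj N' ≅ P :=
    (Scheme.Modules.pullbackComp j b).app L ≪≫ eqToIso (by rw [toFibre_fst])
  let eP' : CohB1.tensorMod P ((Scheme.Modules.pullback j).obj N) ≅ Coh.structureModule _ :=
    PicGrp.tensorModIso eP.symm (Iso.refl _) ≪≫
      ((H16Derived.KFlat.Stalk.pullTensorLIso j N).app N').symm ≪≫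
      (Scheme.Modules.pullback j).mapIso (H10Coh.Tw.commIso _ _ ≪≫ eN) ≪≫
      H16Derived.KFlat.Stalk.structurePullbackIso j
  have h1 : ArSurf.inter R X L Γ₁ = - D k [P] (Coh.structureModule Γ₁.curve.left) :=
    Curves.curveDeg_eq k Γ₁.dim_eq (H11Ample.isInvertible_pullback Γ₁.ι hLi)
  rw [h1, D_flip k (l := []) (by simp) (H11Ample.isInvertible_pullback Γ₁.ι hLi)
      (H11Ample.isInvertible_pullback j hN) eP' Γ₁.dim_eq.le, neg_neg,
    ← Curves.D_push_affine k j hj hN, D_eq_euler_tensor k j hN hN' eN ν hν]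
  exact H25Euler.euler_congr (PicGrp.tensorModIso (Iso.refl _) (fibreCokerIso Γ₂))

theorem inter_symm [IsProper X.hom] (Γ₁ Γ₂ : ArSurf.VertComp R X)
    (hne : Set.range Γ₁.ι.base ≠ Set.range Γ₂.ι.base) {L₁ L₂ : X.left.Modules}
    (h₁ : ClSub.IsInverseOf L₁ (ClSub.idealMod Γ₁.ι.ker)) (h₂ : ClSub.IsInverseOf L₂ (ClSub.idealMod Γ₂.ι.ker)) :
    ArSurf.inter R X L₂ Γ₁ = ArSurf.inter R X L₁ Γ₂ := by
  rw [inter_eq_euler Γ₁ Γ₂ hne h₂, inter_eq_euler Γ₂ Γ₁ hne.symm h₁]
  exact H25Euler.euler_congr (H10Coh.Tw.commIso _ _)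

end Groth.Agent.H28Vert
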