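import Groth.Agent.H28Vert.CompList
import Groth.Agent.H17.Dim

/-!
# No point of the closed fibre of a surface is isolated in it
-/

set_option autoImplicit false
set_option linter.style.haveILetI false
set_option backward.isDefEq.respectTransparency.types false
universe u

open CategoryTheory CategoryTheory.Limits AlgebraicGeometry Opposite TopologicalSpace IsLocalRing Polynomial

namespace Groth.Agent.H28Vert

theorem topologicalKrullDim_le_of_stalks {X : Scheme.{u}} (M : WithBot ℕ∞)
    (h : ∀ x : X, ringKrullDim (X.presheaf.stalk x) ≤ M) : topologicalKrullDim X ≤ M := by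
  rw [Groth.Agent.H17.topologicalKrullDim_eq_krullDim_specialization]
  rcases isEmpty_or_nonempty X with hX | hX
  · rw [Order.krullDim_eq_bot]; exact bot_le
  refine (Order.krullDim_eq_iSup_coheight_of_nonempty).trans_le ?_
  obtain ⟨x⟩ := id hX
  obtain ⟨m, hm⟩ := WithBot.ne_bot_iff_exists.1 (ne_bot_of_le_ne_bot
    (ne_of_gt (lt_of_lt_of_le (WithBot.bot_lt_coe 0) ringKrullDim_nonneg_of_nontrivial)) (h x))
  rw [← hm] at h ⊢
  refine WithBot.coe_le_coe.2 (iSup_le fun y => ?_)
  have := h y
  rw [ringKrullDim_stalk_eq_coheight, WithBot.coe_le_coe] at this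
  exact this

variable {R : Type u} [CommRing R] [IsDomain R] [IsDiscreteValuationRing R]

/-- A Noetherian local domain algebraic over a discrete valuation ring has dimension at most one. -/
theorem ringKrullDim_le_one_of_algebraic {A : Type u} [CommRing A] [IsDomain A] [IsLocalRing A]
    [IsNoetherianRing A] (ψ : R →+* A) (hψ : Function.Injective ψ)
    (halg : ∀ b : A, ∃ p : R[X], p ≠ 0 ∧ p.eval₂ ψ b = 0) :
    ringKrullDim A ≤ ((1 : ℕ) : WithBot ℕ∞) := by
  obtain ⟨ϖ, hϖ⟩ := IsDiscreteValuationRing.exists_irreducible R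
  by_cases hu : IsUnit (ψ ϖ)
  · have hfield : ∀ b : A, b ≠ 0 → IsUnit b := by
      intro b hb
      obtain ⟨p, hp, hpb⟩ := halg b
      obtain ⟨j, q, hq, rfl⟩ := WfDvdMonoid.max_power_factor hp (Polynomial.irreducible_X (R := R))
      rw [eval₂_mul, eval₂_X_pow, mul_eq_zero] at hpb
      have hq0 : q.coeff 0 ≠ 0 := fun h => hq (X_dvd_iff.2 h)
      have hqb := hpb.resolve_left (pow_ne_zero _ hb)
      obtain ⟨n, u, hn⟩ := IsDiscreteValuationRing.eq_unit_mul_pow_irreducible hq0 hϖ
      have hcu : IsUnit (ψ (q.coeff 0)) := by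
        rw [hn, map_mul, map_pow]
        exact (u.isUnit.map ψ).mul (hu.pow n)
      rw [← X_mul_divX_add q, eval₂_add, eval₂_mul, eval₂_X, eval₂_C] at hqb
      have h2 : b * q.divX.eval₂ ψ b = - ψ (q.coeff 0) := eq_neg_of_add_eq_zero_left hqb
      exact isUnit_of_mul_isUnit_left (h2 ▸ hcu.neg)
    have : IsField A := ⟨⟨0, 1, zero_ne_one⟩, mul_comm, fun hb => (hfield _ hb).exists_right_inv⟩
    rw [ringKrullDim_eq_zero_of_isField this]
    exact WithBot.coe_le_coe.2 bot_le
  have hmax : ∀ P : Ideal A, P.IsPrime → ψ ϖ ∈ P → IsLocalRing.maximalIdeal A ≤ P := by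
    intro P hP hϖP b hb
    by_contra hbP
    obtain ⟨p, hp, hpb⟩ := halg b
    obtain ⟨e, p', hp', rfl⟩ := WfDvdMonoid.max_power_factor' hp
      (fun h : IsUnit (C ϖ) => hϖ.not_isUnit (isUnit_C.1 h))
    rw [eval₂_mul, eval₂_pow, eval₂_C, mul_eq_zero] at hpb
    have hb' := hpb.resolve_left (pow_ne_zero _ ((map_ne_zero_iff ψ hψ).2 hϖ.ne_zero))
    let π := Ideal.Quotient.mk P
    let φ : ResidueField R →+* A ⧸ P := Ideal.Quotient.lift (IsLocalRing.maximalIdeal R) (π.comp ψ) fun r hr => by
      rw [hϖ.maximalIdeal_eq, Ideal.mem_span_singleton] at hr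
      obtain ⟨s, rfl⟩ := hr
      exact Ideal.Quotient.eq_zero_iff_mem.2 (by rw [map_mul]; exact P.mul_mem_right _ hϖP)
    have hq0 : p'.map (residue R) ≠ 0 := by
      intro h0
      refine hp' ((C_dvd_iff_dvd_coeff _ _).2 fun i => ?_)
      rw [← Ideal.mem_span_singleton, ← hϖ.maximalIdeal_eq, ← residue_eq_zero_iff]
      simpa using congrArg (fun f => f.coeff i) h0
    have hval : (p'.map (residue R)).eval₂ φ (π b) = 0 := by
      rw [eval₂_map, show φ.comp (residue R) = π.comp ψ from RingHom.ext fun r => rfl, ← hom_eval₂, hb', map_zero]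
    obtain ⟨j, q, hq, hpq⟩ := WfDvdMonoid.max_power_factor hq0 (Polynomial.irreducible_X (R := ResidueField R))
    rw [hpq, eval₂_mul, eval₂_X_pow, mul_eq_zero] at hval
    have hb0 : π b ≠ 0 := fun h => hbP (Ideal.Quotient.eq_zero_iff_mem.1 h)
    have hqb := hval.resolve_left (pow_ne_zero _ hb0)
    have hc : q.coeff 0 ≠ 0 := fun h => hq (X_dvd_iff.2 h)
    rw [← X_mul_divX_add q, eval₂_add, eval₂_mul, eval₂_X, eval₂_C] at hqb
    have h2 : π b * q.divX.eval₂ φ (π b) = - φ (q.coeff 0) := eq_neg_of_add_eq_zero_left hqb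
    have hub : IsUnit (π b) := isUnit_of_mul_isUnit_left (h2 ▸ ((Ne.isUnit hc).map φ).neg)
    obtain ⟨c, hc'⟩ := hub.exists_right_inv
    obtain ⟨c, rfl⟩ := Ideal.Quotient.mk_surjective c
    rw [← map_mul, ← map_one π, Ideal.Quotient.eq] at hc'
    have h1 : (1 : A) ∈ IsLocalRing.maximalIdeal A := by
      have h3 := Ideal.mul_mem_right c _ hb
      have h4 := IsLocalRing.le_maximalIdeal hP.ne_top hc'
      simpa using Ideal.sub_mem _ h3 h4
    exact (IsLocalRing.maximalIdeal.isMaximal A).ne_top ((Ideal.eq_top_iff_one _).2 h1)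
  rw [← IsLocalRing.maximalIdeal_height_eq_ringKrullDim]
  refine WithBot.coe_le_coe.2 (Ideal.height_le_one_of_isPrincipal_of_mem_minimalPrimes (Ideal.span {ψ ϖ}) _ ?_)
  exact ⟨⟨inferInstance, (Ideal.span_singleton_le_iff_mem _).2 hu⟩,
    fun Q ⟨hQ, hQϖ⟩ _ => hmax Q hQ (hQϖ (Ideal.mem_span_singleton_self _))⟩

variable {X : Over (Spec (CommRingCat.of R))}

/-- The homomorphism from the base into the function field. -/
theorem algebraMap_stalkHom [IsIntegral X.left] (x : X.left) (r : R) :
    algebraMap (X.left.presheaf.stalk x) X.left.functionField (Models.stalkHom R X x r) =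
      Models.stalkHom R X (genericPoint X.left) r :=
  TopCat.Presheaf.germ_stalkSpecializes_apply X.left.presheaf (U := ⊤) trivial (genericPoint_specializes x) _

/-- No point of the closed fibre of an integral surface is isolated in the closed fibre. -/
theorem not_isolated [LocallyOfFiniteType X.hom] [Flat X.hom] [IsIntegral X.left]
    (hdim : topologicalKrullDim X.left = 2) {x : X.left} (hx : x ∈ Models.specialFibreSet R X)
    (W : X.left.Opens) (hxW : x ∈ W) : ¬ (W : Set X.left) ∩ Models.specialFibreSet R X ⊆ {x} := by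
  intro hW
  haveI : IsLocallyNoetherian X.left := LocallyOfFiniteType.isLocallyNoetherian X.hom
  obtain ⟨ϖ, hϖ⟩ := IsDiscreteValuationRing.exists_irreducible R
  have hq : X.hom.QuasiFiniteAt x := by
    rw [Scheme.Hom.quasiFiniteAt_iff_isOpen_singleton_asFiber, ← (X.hom.fiberHomeo (X.hom x)).isOpen_image]
    simp only [Set.image_singleton, Scheme.Hom.asFiber, Homeomorph.apply_symm_apply]
    refine isOpen_induced_iff.2 ⟨W, W.2, ?_⟩
    ext ⟨z, hz⟩
    refine ⟨fun hzW => Subtype.ext (hW ⟨hzW, (show X.hom z = X.hom x from hz).trans hx⟩), fun h => ?_⟩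
    show z ∈ W
    rw [show z = x from congrArg Subtype.val h]
    exact hxW
  let ψ : ∀ z : X.left, R →+* X.left.presheaf.stalk z := fun z => Models.stalkHom R X z
  let F := X.left.functionField
  have hψ : Function.Injective (ψ (genericPoint X.left)) := by
    refine (injective_iff_map_eq_zero _).2 fun r hr => ?_
    by_contra hr0
    exact stalkHom_ne_zero hr0 _ hr
  have hinj : ∀ z, Function.Injective (ψ z) := fun z => (injective_iff_map_eq_zero _).2 fun r hr => by
    refine (injective_iff_map_eq_zero _).1 hψ r ?_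
    exact (algebraMap_stalkHom z r).symm.trans ((congrArg _ hr).trans (map_zero _))
  have hqR : (ψ x).QuasiFinite := by
    have hU := isAffineOpen_top (Spec (CommRingCat.of R))
    have h2 : ((Scheme.ΓSpecIso (CommRingCat.of R)).inv ≫
        (Spec (CommRingCat.of R)).presheaf.germ ⊤ (X.hom x) trivial).hom.QuasiFinite := by
      letI := ((Spec (CommRingCat.of R)).presheaf.germ ⊤ (X.hom x) trivial).hom.toAlgebra
      haveI := hU.isLocalization_stalk ⟨X.hom x, trivial⟩
      refine RingHom.QuasiFinite.comp ?_ (RingHom.QuasiFinite.of_finite (RingHom.Finite.of_surjective _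
        (ConcreteCategory.bijective_of_isIso (Scheme.ΓSpecIso (CommRingCat.of R)).inv).2))
      refine RingHom.quasiFinite_algebraMap.2 ?_
      exact .of_isLocalization (hU.primeIdealOf ⟨X.hom x, trivial⟩).asIdeal.primeCompl
    have h3 := hq.comp h2
    convert h3 using 1
    refine RingHom.ext fun r => ?_
    exact (Scheme.Hom.germ_stalkMap_apply X.hom ⊤ x trivial ((Scheme.ΓSpecIso (CommRingCat.of R)).inv r)).symm
  letI : Algebra R (X.left.presheaf.stalk x) := (ψ x).toAlgebra
  letI : Algebra R F := (ψ (genericPoint X.left)).toAlgebra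
  haveI : IsScalarTower R (X.left.presheaf.stalk x) F :=
    .of_algebraMap_eq fun r => (algebraMap_stalkHom x r).symm
  haveI : Algebra.QuasiFinite R (X.left.presheaf.stalk x) := hqR
  haveI : Algebra.QuasiFinite R F := Algebra.QuasiFinite.trans R (X.left.presheaf.stalk x) F
  let K := FractionRing R
  letI : Algebra K F := (IsFractionRing.lift (K := K) hψ).toAlgebra
  haveI : IsScalarTower R K F := .of_algebraMap_eq fun r => (IsFractionRing.lift_algebraMap hψ r).symm
  haveI : Algebra.QuasiFinite K F := Algebra.QuasiFinite.of_restrictScalars R K F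
  haveI : Module.Finite K F := Module.Finite.of_quasiFinite
  haveI : Algebra.IsAlgebraic R F :=
    (IsFractionRing.comap_isAlgebraic_iff (A := R) (K := K) (C := F)).2 (Algebra.IsAlgebraic.of_finite K F)
  have hle : topologicalKrullDim X.left ≤ ((1 : ℕ) : WithBot ℕ∞) := by
    refine topologicalKrullDim_le_of_stalks _ fun z => ?_
    haveI : IsDomain (X.left.presheaf.stalk z) := inferInstance
    refine ringKrullDim_le_one_of_algebraic (ψ z) (hinj z) fun b => ?_
    obtain ⟨p, hp, hpb⟩ := Algebra.IsAlgebraic.isAlgebraic (R := R) (algebraMap (X.left.presheaf.stalk z) F b)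
    refine ⟨p, hp, IsFractionRing.injective (X.left.presheaf.stalk z) F ?_⟩
    rw [map_zero, hom_eval₂, show (algebraMap (X.left.presheaf.stalk z) F).comp (ψ z) = algebraMap R F from
      RingHom.ext fun r => algebraMap_stalkHom z r]
    exact hpb
  rw [hdim] at hle
  exact absurd hle (by decide)

end Groth.Agent.H28Vert
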