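import Groth.Agent.H28Vert.Form
import Groth.Agent.H28Vert.NoIsolated
import Groth.Agent.H28Pinch.ContractionUnique

/-!
# Curves contracted by a birational morphism of surfaces
-/

set_option autoImplicit false
set_option linter.style.haveILetI false
set_option backward.isDefEq.respectTransparency.types false
universe u

open CategoryTheory CategoryTheory.Limits AlgebraicGeometry Opposite TopologicalSpace

namespace Groth.Agent.H28Vert

open Groth.Agent.H28Int

variable {R : Type u} [CommRing R] [IsDomain R] [IsDiscreteValuationRing R]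
  {X : Over (Spec (CommRingCat.of R))}

/-- A vector whose support touches a curve outside it has negative square. -/
theorem form_neg_of_edge [IsProper X.hom] [Flat X.hom] {n : ℕ} {Γ : Fin n → ArSurf.VertComp R X}
    (hΓ : Models.IsComponentList R X Γ) {L : Fin n → X.left.Modules}
    (hL : ∀ j, ClSub.IsInverseOf (L j) (ClSub.idealMod (Γ j).ι.ker)) (a : Fin n → ℤ)
    {k l : Fin n} (hk : a k ≠ 0) (hl : a l = 0) (hkl : ArSurf.inter R X (L l) (Γ k) ≠ 0) :
    ∑ i, ∑ j, a i * a j * ArSurf.inter R X (L j) (Γ i) < 0 := by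
  classical
  let M : Matrix (Fin n) (Fin n) ℝ := fun i j => (ArSurf.inter R X (L j) (Γ i) : ℝ)
  let m : Fin n → ℝ := fun i => (Models.mult R X (Γ i) : ℝ)
  let x : Fin n → ℝ := fun i => (a i : ℝ)
  have hs : M.IsSymm := Matrix.IsSymm.ext fun i j => congrArg (fun z : ℤ => (z : ℝ)) (inter_symm' hΓ hL j i)
  have hoff : ∀ i j, i ≠ j → 0 ≤ M i j := fun i j hij => by
    show (0 : ℝ) ≤ (ArSurf.inter R X (L j) (Γ i) : ℝ)
    exact_mod_cast (inter_offDiag hΓ hL hij).1
  have hm : ∀ i, 0 < m i := fun i => by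
    show (0 : ℝ) < (Models.mult R X (Γ i) : ℝ)
    exact_mod_cast mult_pos hΓ i
  have hMm : ∀ i, M.mulVec m i ≤ 0 := fun i => by
    refine le_of_eq ?_
    show ∑ j, (ArSurf.inter R X (L j) (Γ i) : ℝ) * ((Models.mult R X (Γ j) : ℕ) : ℝ) = 0
    exact_mod_cast sum_inter_mult hΓ hL i
  obtain ⟨hle, heq⟩ := H28Alg.scaled_facts hs hoff hm hMm x
  have hQ : ((∑ i, ∑ j, a i * a j * ArSurf.inter R X (L j) (Γ i) : ℤ) : ℝ) = dotProduct x (M.mulVec x) := by
    simp only [dotProduct, Matrix.mulVec, Finset.mul_sum, x, M, Int.cast_sum, Int.cast_mul]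
    exact Finset.sum_congr rfl fun i _ => Finset.sum_congr rfl fun j _ => by ring
  have h0 : ∑ i, ∑ j, a i * a j * ArSurf.inter R X (L j) (Γ i) ≤ 0 := by exact_mod_cast hQ.trans_le hle
  refine lt_of_le_of_ne h0 fun he => ?_
  have h := (heq (by rw [← hQ, he, Int.cast_zero])).1 k l (fun h => hk (h ▸ hl)) (by
    show (ArSurf.inter R X (L l) (Γ k) : ℝ) ≠ 0
    exact_mod_cast hkl)
  simp only [x, hl, Int.cast_zero, zero_div, div_eq_zero_iff, Int.cast_eq_zero] at h
  exact h.elim hk (hm k).ne'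

variable {Y : Over (Spec (CommRingCat.of R))}

/-- A morphism which is an isomorphism over a nonempty open subset is birational. -/
theorem birational_of_isIso_restrict {X Y : Scheme.{u}} [IsIntegral X] [IsIntegral Y] (f : X ⟶ Y)
    (U : Y.Opens) (hU : (U : Set Y).Nonempty) [IsIso (f ∣_ U)] :
    f (genericPoint X) = genericPoint Y ∧ Function.Bijective (f.stalkMap (genericPoint X)) := by
  obtain ⟨y, hy⟩ := hU
  haveI : Nonempty U.toScheme := ⟨⟨y, hy⟩⟩
  haveI : Nonempty (f ⁻¹ᵁ U).toScheme := ⟨(inv (f ∣_ U)) ⟨y, hy⟩⟩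
  haveI : IsIntegral U.toScheme := isIntegral_of_isOpenImmersion U.ι
  haveI : IsIntegral (f ⁻¹ᵁ U).toScheme := isIntegral_of_isOpenImmersion (f ⁻¹ᵁ U).ι
  let η : (f ⁻¹ᵁ U).toScheme := genericPoint _
  have hη : (f ⁻¹ᵁ U).ι η = genericPoint X := genericPoint_eq_of_isOpenImmersion (f ⁻¹ᵁ U).ι
  refine ⟨?_, ?_⟩
  · rw [← hη, ← Scheme.Hom.comp_apply, ← morphismRestrict_ι, Scheme.Hom.comp_apply,
      genericPoint_eq_of_isOpenImmersion (f ∣_ U), genericPoint_eq_of_isOpenImmersion U.ι]
  · have hst : IsIso (f.stalkMap (genericPoint X)) := by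
      rw [← hη]
      exact ((MorphismProperty.isomorphisms _).arrow_mk_iso_iff (morphismRestrictStalkMap f U η)).mp
        (inferInstance : IsIso ((f ∣_ U).stalkMap η))
    exact ConcreteCategory.bijective_of_isIso (f.stalkMap (genericPoint X))

/-- The curves contracted to a point by a proper birational morphism to a normal surface do not make up a
connected component of the closed fibre. -/
theorem exists_edge_of_contracted [IsProper X.hom] [IsProper Y.hom] [IsIntegral X.left] [IsIntegral Y.left]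
    [Flat Y.hom] (hnor : Pi1.IsNormalScheme Y.left) (hdimY : topologicalKrullDim Y.left = 2) (f : X ⟶ Y)
    (U : Y.left.Opens) (hU : (U : Set Y.left).Nonempty) [IsIso (f.left ∣_ U)] (y : Y.left)
    {n : ℕ} {Γ : Fin n → ArSurf.VertComp R X}
    (hΓ : Models.IsComponentList R X Γ) (J : Finset (Fin n)) (hJ : J.Nonempty)
    (hJy : ∀ k ∈ J, ∀ z, f.left ((Γ k).ι z) = y) :
    ∃ k ∈ J, ∃ l ∉ J, ¬ Disjoint (Set.range (Γ k).ι.base) (Set.range (Γ l).ι.base) := by
  classical
  by_contra hc
  push Not at hc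
  haveI : IsLocallyNoetherian Y.left := LocallyOfFiniteType.isLocallyNoetherian Y.hom
  haveI : IsProper f.left := by
    haveI : IsProper (f.left ≫ Y.hom) := by rw [Over.w f]; infer_instance
    exact IsProper.of_comp f.left Y.hom
  obtain ⟨hgen, hbir⟩ := birational_of_isIso_restrict f.left U hU
  have hpc := H28Pinch.isPreconnected_fibre_of_birational f.left hnor hgen hbir y
  haveI : IsDominant f.left := H10ZMT.isDominant_of_apply_genericPoint f.left hgen
  have hsurj : Function.Surjective f.left := fun t => by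
    have h1 : Set.range f.left = Set.univ := by
      rw [← f.left.isClosedMap.isClosed_range.closure_eq]
      exact f.left.denseRange.closure_range
    exact h1.ge (Set.mem_univ t)
  let A : Set X.left := ⋃ k ∈ J, Set.range (Γ k).ι.base
  let B : Set X.left := ⋃ l ∈ Jᶜ, Set.range (Γ l).ι.base
  have hcl : ∀ J : Finset (Fin n), IsClosed (⋃ i ∈ J, Set.range (Γ i).ι.base) := fun J =>
    isClosed_biUnion_finset fun i _ => by
      haveI := (Γ i).isClosedImmersion
      exact (Γ i).ι.isClosedEmbedding.isClosed_range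
  have hS : ∀ i, Set.range (Γ i).ι.base ⊆ Models.specialFibreSet R X := fun i => ((hΓ.2 ▸ ⟨i, rfl⟩ :
    Set.range (Γ i).ι.base ∈ Models.fibreComponents R X)).1.2
  have hcov : Models.specialFibreSet R X ⊆ A ∪ B := by
    intro x hx
    obtain ⟨W, hW, hxW⟩ := exists_maximal_irreducible_subset (R := R) (X := X) hx
    obtain ⟨l, rfl⟩ := hΓ.2.ge hW
    by_cases hl : l ∈ J
    · exact Or.inl (Set.mem_biUnion hl hxW)
    · exact Or.inr (Set.mem_biUnion (Finset.mem_compl.2 hl) hxW)
  have hAB : ∀ x, x ∈ A → x ∉ B := fun x hxA hxB => by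
    obtain ⟨k, hk, hxk⟩ := Set.mem_iUnion₂.1 hxA
    obtain ⟨l, hl, hxl⟩ := Set.mem_iUnion₂.1 hxB
    exact Set.disjoint_left.1 (hc k hk l (Finset.mem_compl.1 hl)) hxk hxl
  obtain ⟨k₀, hk₀⟩ := hJ
  let z₀ := (Γ k₀).ι.base (genericPoint ↥(Γ k₀).curve.left)
  have hz₀ : f.left z₀ = y := hJy k₀ hk₀ _
  have hyS : y ∈ Models.specialFibreSet R Y := by
    show Y.hom y = IsLocalRing.closedPoint R
    rw [← hz₀, ← Scheme.Hom.comp_apply, Over.w f]
    exact hS k₀ ⟨_, rfl⟩
  have hsub : f.left ⁻¹' {y} ⊆ A := by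
    refine fun t ht => (hcov (show X.hom t = IsLocalRing.closedPoint R by
      rw [← Over.w f, Scheme.Hom.comp_apply, Set.mem_singleton_iff.1 ht]; exact hyS)).elim id fun htB => ?_
    obtain ⟨x, -, hxA, hxB⟩ := (isPreconnected_closed_iff.1 hpc) A B (hcl J) (hcl Jᶜ)
      (fun s hs => hcov (show X.hom s = IsLocalRing.closedPoint R by
        rw [← Over.w f, Scheme.Hom.comp_apply, Set.mem_singleton_iff.1 hs]; exact hyS))
      ⟨z₀, hz₀, Set.mem_biUnion hk₀ ⟨_, rfl⟩⟩ ⟨t, ht, htB⟩
    exact absurd hxB (hAB x hxA)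
  let W : Y.left.Opens := ⟨(f.left '' B)ᶜ, (f.left.isClosedMap _ (hcl Jᶜ)).isOpen_compl⟩
  refine not_isolated hdimY hyS W ?_ ?_
  · rintro ⟨t, htB, ht⟩
    exact hAB t (hsub ht) htB
  · rintro t ⟨htW, htS⟩
    obtain ⟨s, rfl⟩ := hsurj t
    have hsS : s ∈ Models.specialFibreSet R X := by
      show X.hom s = IsLocalRing.closedPoint R
      rw [← Over.w f, Scheme.Hom.comp_apply]
      exact htS
    rcases hcov hsS with hA | hB
    · obtain ⟨k, hk, z, rfl⟩ := Set.mem_iUnion₂.1 hA
      exact hJy k hk z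
    · exact absurd ⟨s, hB, rfl⟩ htW

end Groth.Agent.H28Vert
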