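import Groth.Agent.H28Vert.NoIsolated

/-!
# Component lists of closed fibres of surfaces
-/

set_option autoImplicit false
set_option linter.style.haveILetI false
set_option backward.isDefEq.respectTransparency.types false
universe u

open CategoryTheory CategoryTheory.Limits AlgebraicGeometry Opposite TopologicalSpace IsLocalRing

namespace Groth.Agent.H28Vert

variable {R : Type u} [CommRing R] [IsDomain R] [IsDiscreteValuationRing R]
  {X : Over (Spec (CommRingCat.of R))}

/-- The closed fibre of an integral surface, proper and flat over a DVR, has a component list. -/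
theorem exists_isComponentList' [IsProper X.hom] [Flat X.hom] [IsIntegral X.left]
    (hdim : topologicalKrullDim X.left = 2) :
    ∃ (n : ℕ) (Γ : Fin n → ArSurf.VertComp R X), Models.IsComponentList R X Γ := by
  classical
  haveI : IsLocallyNoetherian X.left := LocallyOfFiniteType.isLocallyNoetherian X.hom
  haveI : CompactSpace X.left := QuasiCompact.compactSpace_of_compactSpace X.hom
  haveI : IsNoetherian X.left := ⟨⟩
  let S := Models.specialFibreSet R X
  let b := pullback.fst X.hom (closedPt R)
  let q := pullback.snd X.hom (closedPt R)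
  obtain ⟨ϖ, hϖ⟩ := IsDiscreteValuationRing.exists_irreducible R
  have hη : genericPoint X.left ∉ S := by
    rw [notMem_specialFibreSet_iff hϖ]
    exact (Ne.isUnit (stalkHom_ne_zero hϖ.ne_zero _) : IsUnit (Models.stalkHom R X (genericPoint X.left) ϖ : X.left.functionField))
  have hfin := finite_fibreComponents (X := X)
  have hcomp : ∀ Z ∈ Models.fibreComponents R X, ∃ Δ : ArSurf.VertComp R X, Set.range Δ.ι.base = Z := by
    intro Z hZ
    have hZc := isClosed_of_mem_fibreComponents hZ
    have hlt : topologicalKrullDim Z < ((2 : ℕ) : WithBot ℕ∞) := by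
      refine H28Int.dim_lt_of_notMem (genericPoint_spec X.left).def ?_ hZc (fun x _ => trivial)
        (fun h => hη (hZ.1.2 h))
      exact Topology.IsInducing.subtypeVal.topologicalKrullDim_le.trans hdim.le
    obtain ⟨ζ, hζ⟩ : ∃ ζ, IsGenericPoint ζ Z := QuasiSober.sober hZ.1.1 hZc
    have hnpt : ∃ z ∈ Z, z ≠ ζ := by
      by_contra hne
      push Not at hne
      have hothers : IsClosed (⋃ W ∈ Models.fibreComponents R X \ {Z}, W) :=
        (hfin.subset Set.sdiff_subset).isClosed_biUnion fun W hW => isClosed_of_mem_fibreComponents hW.1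
      refine not_isolated hdim (hZ.1.2 hζ.mem) (⟨_, hothers.isOpen_compl⟩ : X.left.Opens) (fun h => ?_) fun t ⟨htO, htS⟩ => ?_
      · obtain ⟨W, hW, hζW⟩ := Set.mem_iUnion₂.1 h
        have h1 : Z ⊆ W := fun z hz => (hne z hz).symm ▸ hζW
        exact hW.2 (Set.Subset.antisymm (hZ.2 hW.1.1 h1) h1)
      · obtain ⟨W, hW, htW⟩ := exists_maximal_irreducible_subset (R := R) (X := X) htS
        rcases eq_or_ne W Z with rfl | hne'
        · exact hne t htW
        · exact absurd (Set.mem_biUnion (show W ∈ Models.fibreComponents R X \ {Z} from ⟨hW, hne'⟩) htW) htO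
    let Z' : Closeds ↥(pullback X.hom (closedPt R)) := ⟨b ⁻¹' Z, hZc.preimage b.continuous⟩
    let I := Scheme.IdealSheafData.vanishingIdeal Z'
    let j := I.subschemeι
    have hrj : Set.range (j ≫ b) = Z := by
      rw [Scheme.Hom.comp_base, TopCat.coe_comp, Set.range_comp, Scheme.IdealSheafData.range_subschemeι,
        Scheme.IdealSheafData.coe_support_vanishingIdeal]
      refine Set.image_preimage_eq_of_subset ?_
      rw [range_fst_closedPt]
      exact hZ.1.2
    let e : I.subscheme ≃ₜ Z := ((j ≫ b).isClosedEmbedding.isEmbedding.toHomeomorph).trans (Homeomorph.setCongr hrj)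
    haveI : IrreducibleSpace I.subscheme := by
      haveI : IrreducibleSpace Z := Subtype.irreducibleSpace hZ.1.1
      exact e.symm.isHomeomorph.isQuotientMap.surjective.irreducibleSpace e.symm.continuous
    haveI : IsReduced I.subscheme := H17.isReduced_vanishingIdeal_subscheme _
    haveI : IsIntegral I.subscheme := isIntegral_of_irreducibleSpace_of_isReduced _
    refine ⟨{
      curve := Over.mk (j ≫ q)
      ι := j ≫ b
      isClosedImmersion := inferInstanceAs (IsClosedImmersion (j ≫ b))
      isIntegral := ‹IsIntegral I.subscheme›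
      dim_eq := ?_
      w := by
        show (j ≫ b) ≫ X.hom = (j ≫ q) ≫ closedPt R
        rw [Category.assoc, pullback.condition, Category.assoc] }, hrj⟩
    show topologicalKrullDim I.subscheme = 1
    rw [e.isHomeomorph.topologicalKrullDim_eq]
    obtain ⟨z, hzZ, hzne⟩ := hnpt
    exact le_antisymm (le_one_of_lt_two hlt) (one_le_dim_of_mem hZc hζ hzZ hzne)
  choose Δ hΔ using hcomp
  haveI := hfin.fintype
  let e := (Fintype.equivFin (Models.fibreComponents R X)).symm
  refine ⟨Fintype.card (Models.fibreComponents R X), fun i => Δ (e i).1 (e i).2, ?_, ?_⟩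
  · intro i i' h
    refine e.injective (Subtype.ext ?_)
    exact (hΔ _ (e i).2).symm.trans (h.trans (hΔ _ (e i').2))
  · ext Z
    refine ⟨?_, fun hZ => ⟨e.symm ⟨Z, hZ⟩, ?_⟩⟩
    · rintro ⟨i, rfl⟩
      show Set.range (Δ _ (e i).2).ι.base ∈ _
      rw [hΔ]; exact (e i).2
    · show Set.range (Δ (e (e.symm ⟨Z, hZ⟩)).1 (e (e.symm ⟨Z, hZ⟩)).2).ι.base = Z
      rw [hΔ, Equiv.apply_symm_apply]

end Groth.Agent.H28Vert
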