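import Groth.Agent.H28Vert.Form

/-!
# Families of vertical curves which need not exhaust the closed fibre
-/

set_option autoImplicit false
set_option linter.style.haveILetI false
set_option backward.isDefEq.respectTransparency.types false
universe u

open CategoryTheory CategoryTheory.Limits AlgebraicGeometry Opposite TopologicalSpace

namespace Groth.Agent.H28Vert

open Groth.Agent.H28Int

section general

variable {Y : Scheme.{u}} {n : ℕ} {C : Fin n → Scheme.{u}} (j : ∀ l, C l ⟶ Y) [∀ l, IsClosedImmersion (j l)]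
  [∀ l, IsIntegral (C l)]

/-- An additive function which is nonnegative on the other curves dominates the listed multiplicities. -/
theorem sum_len_le [IsNoetherian Y] (hY : topologicalKrullDim Y ≤ ((1 : ℕ) : WithBot ℕ∞))
    (hdim : ∀ l, topologicalKrullDim (C l) = 1)
    (hne : ∀ l m, l ≠ m → (j l) (genericPoint (C l)) ∉ Set.range (j m))
    {ψ : Y.Modules → ℤ} (hψ : IsAddFn ψ)
    (h0 : ∀ F, Coh.IsCoh F → topologicalKrullDim (CohB1.support F) < ((1 : ℕ) : WithBot ℕ∞) → ψ F = 0)
    (hpos : ∀ (Z : Scheme.{u}) (i : Z ⟶ Y) [IsClosedImmersion i] [IsIntegral Z],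
      (∀ l, (j l) (genericPoint (C l)) ∉ Set.range i) → 0 ≤ ψ ((Coh.push i).obj (Coh.structureModule Z)))
    (G : Y.Modules) (hG : Coh.IsCoh G) :
    (∀ l, len ((j l) (genericPoint (C l))) G ≠ ⊤) ∧
    (∑ l, ((len ((j l) (genericPoint (C l))) G).toNat : ℤ) * ψ ((Coh.push (j l)).obj (Coh.structureModule (C l)))) ≤ ψ G := by
  let ξ : Fin n → Y := fun l => (j l) (genericPoint (C l))
  let E : Fin n → ℤ := fun l => ψ ((Coh.push (j l)).obj (Coh.structureModule (C l)))
  let P : Y.Modules → Prop := fun F =>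
    (∀ l, len (ξ l) F ≠ ⊤) ∧ (∑ l, ((len (ξ l) F).toNat : ℤ) * E l) ≤ ψ F
  have hzero : ∀ F : Y.Modules, 0 ≤ ψ F → (∀ l, ξ l ∉ CohB1.support F) → P F := fun F hF hl =>
    ⟨fun l => by simp [len_eq_zero (hl l)],
      (Finset.sum_eq_zero fun l _ => by simp [len_eq_zero (hl l)]).trans_le hF⟩
  suffices h : P G from h
  refine LeadDev.devissage_induction (CohB1.support G) P ?_ ?_ ?_ ?_ G hG le_rfl
  · rintro A B ⟨e⟩ ⟨h1, h2⟩
    exact ⟨fun l => len_congr (ξ := ξ l) e ▸ h1 l, by simpa only [← hψ.congr e, ← len_congr e] using h2⟩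
  · intro A hA
    exact hzero A (hψ.zero hA).ge fun l => by simp [LeadDev.support_eq_empty_of_isZero hA]
  · rintro S hS h₁ h₂ h₃ ⟨f₁, e₁⟩ ⟨f₃, e₃⟩
    refine ⟨fun l => by rw [len_add _ hS]; exact WithTop.add_ne_top.2 ⟨f₁ l, f₃ l⟩, ?_⟩
    rw [hψ.add S hS h₁ h₂ h₃]
    refine le_trans (le_of_eq ?_) (add_le_add e₁ e₃)
    rw [← Finset.sum_add_distrib]
    refine Finset.sum_congr rfl fun l _ => ?_
    rw [len_add _ hS, ENat.toNat_add (f₁ l) (f₃ l)]
    push_cast
    ring
  intro Z i _ _ _ _ I ι _ hI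
  haveI : I.IsQuasicoherent := hI
  let η := i (genericPoint Z)
  let Q := (Coh.push i).obj (Coh.structureModule Z)
  let G' := (Coh.push i).obj I
  have hQ : Coh.IsCoh Q := LeadDev.isCoh_push_structure i
  have hG' : Coh.IsCoh G' :=
    H10Coh.isCoh_of_mono ((Coh.push i).map ι) (H10Coh.isQuasicoherent_pushforward i I) hQ
  by_cases hzI : IsZero I
  · exact hzero G' (hψ.zero ((Coh.push i).map_isZero hzI)).ge fun m => by
      simp [LeadDev.support_eq_empty_of_isZero ((Coh.push i).map_isZero hzI), G']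
  let φ := (Coh.push i).map ι
  have hC := H10Coh.isCoh_cokernel φ hG'.1 hQ
  have hS : (ShortComplex.mk φ (cokernel.π φ) (cokernel.condition φ)).ShortExact :=
    ShortComplex.ShortExact.mk' (ShortComplex.exact_cokernel φ) inferInstance inferInstance
  obtain ⟨W, hW, hηW, -⟩ := exists_isAffineOpen_mem_and_subset (U := (⊤ : Y.Opens)) (x := η) trivial
  have hCs : CohB1.support (cokernel φ) ⊆ Set.range i :=
    (LeadDev.support_subset_of_epi (cokernel.π φ)).trans (support_push_structure_eq i).le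
  have hηC : η ∉ CohB1.support (cokernel φ) :=
    LeadDev.notMem_support_cokernel φ hG'.1 hQ.1 hW hηW (LeadDev.surjAt_push_map i rfl I ι hI hzI hW hηW)
  have hcl : closure {η} = Set.range i := (LeadDev.range_eq_closure i (ξ := η) rfl).symm
  have hrd : topologicalKrullDim (Set.range i) ≤ ((1 : ℕ) : WithBot ℕ∞) :=
    Topology.IsInducing.subtypeVal.topologicalKrullDim_le.trans hY
  have hψC : ψ (cokernel φ) = 0 := h0 _ hC
    (dim_lt_of_notMem hcl hrd (H10Coh.isClosed_support _ hC.2) (fun x hx => hCs hx) hηC)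
  have hadd := hψ.add _ hS hG' hQ hC
  change ψ Q = ψ G' + ψ (cokernel φ) at hadd
  have hψG : ψ G' = ψ Q := by omega
  by_cases hA : ∃ l, ξ l ∈ Set.range i
  swap
  · refine hzero G' (hψG ▸ hpos Z i fun l hl => hA ⟨l, hl⟩) fun l hl => hA ⟨l, ?_⟩
    exact (support_push_structure_eq i).le ((LeadDev.support_subset_of_mono φ) hl)
  obtain ⟨l, hl⟩ := hA
  have hsub : Set.range (j l) ⊆ Set.range i := by
    rintro _ ⟨z, rfl⟩
    exact ((genericPoint_specializes z).map (j l).continuous).mem_closed i.isClosedEmbedding.isClosed_range hl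
  have hξ : ξ l = η := by
    by_contra hne'
    have hnot : η ∉ Set.range (j l) := fun h => hne' (by
      have h2 : IsGenericPoint (ξ l) (Set.range (j l)) := (LeadDev.range_eq_closure (j l) (ξ := ξ l) rfl).symm
      have h3 : IsGenericPoint η (Set.range (j l)) :=
        Set.Subset.antisymm (closure_minimal (Set.singleton_subset_iff.2 h) (j l).isClosedEmbedding.isClosed_range)
          (hcl.symm ▸ hsub)
      exact h2.eq h3)
    have hlt := dim_lt_of_notMem hcl hrd (j l).isClosedEmbedding.isClosed_range (fun x hx => hsub hx) hnot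
    rw [(IsHomeomorph.topologicalKrullDim_eq _ (j l).isClosedEmbedding.isEmbedding.toHomeomorph.isHomeomorph).symm,
      hdim l] at hlt
    exact lt_irrefl _ hlt
  have hrange : Set.range i = Set.range (j l) := by
    rw [← hcl, ← hξ]
    exact (LeadDev.range_eq_closure (j l) (ξ := ξ l) rfl).symm
  have hother : ∀ m, m ≠ l → ξ m ∉ Set.range i := fun m hm h => hne m l hm (hrange ▸ h)
  have hClen : ∀ m, len (ξ m) (cokernel φ) = 0 := fun m => len_eq_zero fun h => by
    rcases eq_or_ne m l with rfl | hm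
    · exact hηC (hξ ▸ h)
    · exact hother m hm (hCs h)
  have hlenG : ∀ m, len (ξ m) G' = len (ξ m) Q := fun m => by
    have h := len_add (ξ m) hS
    change len (ξ m) Q = len (ξ m) G' + len (ξ m) (cokernel φ) at h
    rw [h, hClen m, add_zero]
  have hlenQ : ∀ m, len (ξ m) Q = if m = l then 1 else 0 := fun m => by
    rcases eq_or_ne m l with rfl | hm
    · rw [if_pos rfl, hξ]
      exact len_push_structure i
    · rw [if_neg hm]
      exact len_eq_zero fun h => hother m hm ((support_push_structure_eq i).le h)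
  have hker : i.ker = (j l).ker := by
    rw [H17.ker_eq_vanishingIdeal i, H17.ker_eq_vanishingIdeal (j l)]
    simp only [show Set.range i = Set.range (j l) from hrange]
  let eQ : Q ≅ (Coh.push (j l)).obj (Coh.structureModule (C l)) :=
    (quotModKerIso i).symm ≪≫ eqToIso (by rw [hker]) ≪≫ quotModKerIso (j l)
  refine ⟨fun m => by rw [hlenG, hlenQ]; split_ifs <;> simp, le_of_eq ?_⟩
  rw [Finset.sum_eq_single l (fun m _ hm => by rw [hlenG, hlenQ, if_neg hm]; simp) (by simp)]
  show ((len (ξ l) G').toNat : ℤ) * E l = ψ G'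
  rw [hlenG, hlenQ, if_pos rfl, ENat.toNat_one, Nat.cast_one, one_mul, hψG]
  exact (hψ.congr eQ).symm

end general

variable {R : Type u} [CommRing R] [IsDomain R] [IsDiscreteValuationRing R]
  {X : Over (Spec (CommRingCat.of R))}

/-- Curves with the same image have the same intersection numbers. -/
theorem inter_congr [IsProper X.hom] {Γ Γ' Δ Δ' : ArSurf.VertComp R X}
    (hΓ : Set.range Γ.ι.base = Set.range Γ'.ι.base) (hΔ : Set.range Δ.ι.base = Set.range Δ'.ι.base)
    {L L' : X.left.Modules} (hL : ClSub.IsInverseOf L (ClSub.idealMod Δ.ι.ker))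
    (hL' : ClSub.IsInverseOf L' (ClSub.idealMod Δ'.ι.ker)) :
    ArSurf.inter R X L Γ = ArSurf.inter R X L' Γ' := by
  obtain ⟨e⟩ := hL
  obtain ⟨e'⟩ := hL'
  let k := IsLocalRing.ResidueField R
  let Y := pullback X.hom (closedPt R)
  let b := pullback.fst X.hom (closedPt R)
  haveI := isNoetherian k (X := Y)
  have hk : Δ.ι.ker = Δ'.ι.ker := by
    rw [H17.ker_eq_vanishingIdeal, H17.ker_eq_vanishingIdeal]
    simp only [show Set.range Δ.ι = Set.range Δ'.ι from hΔ]
  have hr : Set.range (toFibre Γ) = Set.range (toFibre Γ') := by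
    have : ∀ Δ : ArSurf.VertComp R X, b '' Set.range (toFibre Δ) = Set.range Δ.ι.base := fun Δ => by
      rw [← Set.range_comp, ← toFibre_fst Δ]
      rfl
    exact (Set.image_injective.2 b.isClosedEmbedding.injective) ((this Γ).trans (hΓ.trans (this Γ').symm))
  have hk' : (toFibre Γ).ker = (toFibre Γ').ker := by
    rw [H17.ker_eq_vanishingIdeal, H17.ker_eq_vanishingIdeal]
    simp only [hr]
  have hI : PicF.IsInvertible (ClSub.idealMod Δ'.ι.ker) :=
    H17.InvertibleTensor.isInvertible_of_tensor_iso _ L' (H10Coh.Tw.commIso _ _ ≪≫ e')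
  rw [inter_eq_D Γ e, inter_eq_D Γ' e', hk]
  exact (isAddFn_D k _ (by simpa using H11Ample.isInvertible_pullback b hI)).congr
    ((quotModKerIso (toFibre Γ)).symm ≪≫ eqToIso (by rw [hk']) ≪≫ quotModKerIso (toFibre Γ'))

variable [IsProper X.hom] [Flat X.hom]

theorem sum_mult_inter_le {n : ℕ} (Γ : Fin n → ArSurf.VertComp R X)
    (hY : topologicalKrullDim ↥(pullback X.hom (closedPt R)) ≤ ((1 : ℕ) : WithBot ℕ∞))
    (hdist : Function.Injective fun i => Set.range (Γ i).ι.base) (i : Fin n) {L : X.left.Modules}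
    (hL : ClSub.IsInverseOf L (ClSub.idealMod (Γ i).ι.ker)) :
    (∀ l, 0 < Models.mult R X (Γ l)) ∧
    ∑ j, (Models.mult R X (Γ j) : ℤ) * ArSurf.inter R X L (Γ j) ≤ 0 := by
  let k := IsLocalRing.ResidueField R
  let Y := pullback X.hom (closedPt R)
  let b := pullback.fst X.hom (closedPt R)
  haveI := isNoetherian k (X := Y)
  obtain ⟨e⟩ := hL
  let J := ClSub.idealMod (Γ i).ι.ker
  have hJ : PicF.IsInvertible J :=
    H17.InvertibleTensor.isInvertible_of_tensor_iso _ L (H10Coh.Tw.commIso _ _ ≪≫ e)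
  let N := (Scheme.Modules.pullback b).obj J
  have hN : ∀ A ∈ [N], PicF.IsInvertible A := by simpa using H11Ample.isInvertible_pullback b hJ
  have h0 : ∀ F, Coh.IsCoh F → topologicalKrullDim (CohB1.support F) < ((1 : ℕ) : WithBot ℕ∞) →
      D k [N] F = 0 := fun F hF hd => D_eq_zero k [N] hN F hF hd
  have hpt : ∀ l, b ((toFibre (Γ l)) (genericPoint (Γ l).curve.left)) = Models.genPtOf R X (Γ l) := fun l => by
    show (toFibre (Γ l) ≫ b) _ = _
    rw [show toFibre (Γ l) ≫ b = (Γ l).ι from toFibre_fst _]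
    rfl
  have hne : ∀ l m, l ≠ m → (toFibre (Γ l)) (genericPoint (Γ l).curve.left) ∉ Set.range (toFibre (Γ m)) := by
    rintro l m hlm ⟨z, hz⟩
    refine genericPoint_notMem (Γ l) (Γ m) (fun h => hlm (hdist h)) ?_
    rw [Scheme.Hom.support_ker, IsClosed.closure_eq (Γ m).ι.isClosedEmbedding.isClosed_range]
    refine ⟨z, ?_⟩
    rw [← toFibre_fst (Γ m)]
    exact (congrArg b hz).trans (hpt l)
  have hpos : ∀ (Z : Scheme.{u}) (z : Z ⟶ Y) [IsClosedImmersion z] [IsIntegral Z],
      (∀ l, (toFibre (Γ l)) (genericPoint (Γ l).curve.left) ∉ Set.range z) →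
      0 ≤ D k [N] ((Coh.push z).obj (Coh.structureModule Z)) := by
    intro Z z _ _ hz
    have hsupp := support_push_structure_eq z
    have hzd : topologicalKrullDim Z ≤ ((1 : ℕ) : WithBot ℕ∞) :=
      z.isClosedEmbedding.isInducing.topologicalKrullDim_le.trans hY
    rcases hzd.lt_or_eq with hlt | heq
    · refine (h0 _ (LeadDev.isCoh_push_structure z) ?_).ge
      rwa [hsupp, ← IsHomeomorph.topologicalKrullDim_eq _ z.isClosedEmbedding.isEmbedding.toHomeomorph.isHomeomorph]
    let Δ : ArSurf.VertComp R X :=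
      { curve := Over.mk (z ≫ pullback.snd X.hom (closedPt R))
        ι := z ≫ b
        isClosedImmersion := inferInstanceAs (IsClosedImmersion (z ≫ b))
        isIntegral := ‹IsIntegral Z›
        dim_eq := heq
        w := by
          show (z ≫ b) ≫ X.hom = (z ≫ pullback.snd X.hom (closedPt R)) ≫ closedPt R
          rw [Category.assoc, pullback.condition, Category.assoc] }
    have hΔ : toFibre Δ = z := pullback.hom_ext (toFibre_fst Δ) (pullback.lift_snd _ _ _)
    haveI : IsIntegral Δ.curve.left := Δ.isIntegral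
    have hnot : Δ.ι.base (genericPoint Δ.curve.left) ∉ ((Γ i).ι.ker.support : Set X.left) := by
      refine genericPoint_notMem Δ (Γ i) fun h => hz i ?_
      have : Models.genPtOf R X (Γ i) ∈ Set.range Δ.ι.base := h.ge ⟨_, rfl⟩
      obtain ⟨w, hw⟩ := this
      exact ⟨w, b.isClosedEmbedding.injective (hw.trans (hpt i).symm)⟩
    have h := (inter_nonneg Δ (Γ i).ι.ker hnot ⟨e⟩).1
    rw [inter_eq_D Δ e] at h
    rw [← hΔ]
    exact h
  have hmain := sum_len_le (fun l => toFibre (Γ l)) hY (fun l => (Γ l).dim_eq) hne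
    (isAddFn_D k [N] hN) h0 hpos (Coh.structureModule Y) (H10Coh.isCoh_structureModule' Y)
  obtain ⟨hfin, hle⟩ := hmain
  refine ⟨fun l => ?_, ?_⟩
  · let ξ : Y := (toFibre (Γ l)) (genericPoint (Γ l).curve.left)
    have hf := hfin l
    rw [len_structure_eq] at hf
    have hne' : Ideal.map (Models.stalkHom R X (b ξ)) (IsLocalRing.maximalIdeal R) ≠ ⊤ := by
      rw [← ker_stalkMap_fst ξ]
      exact RingHom.ker_ne_top _
    haveI : Nontrivial (X.left.presheaf.stalk (b ξ) ⧸
        Ideal.map (Models.stalkHom R X (b ξ)) (IsLocalRing.maximalIdeal R)) :=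
      Ideal.Quotient.nontrivial_iff.2 hne'
    have hpos' : Module.length (X.left.presheaf.stalk (b ξ)) (X.left.presheaf.stalk (b ξ) ⧸
        Ideal.map (Models.stalkHom R X (b ξ)) (IsLocalRing.maximalIdeal R)) ≠ 0 :=
      Module.length_pos.ne'
    unfold Models.mult
    rw [← hpt l]
    refine Nat.pos_of_ne_zero fun h => ?_
    rcases ENat.toNat_eq_zero.1 h with h | h
    · exact hpos' h
    · exact hf h
  have hO : D k [N] (Coh.structureModule Y) = 0 := by
    show Curv2.euler k Y (Coh.structureModule Y) - Curv2.euler k Y (CohB1.tensorMod N (Coh.structureModule Y)) = 0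
    rw [H25Euler.euler_congr (H10Coh.Tw.rightUnitIso N), euler_pullback_ideal (Γ i) hJ, sub_self]
  rw [hO] at hle
  refine le_trans (le_of_eq (Finset.sum_congr rfl fun l _ => ?_)) hle
  refine congrArg₂ (fun (a : ℕ) (c : ℤ) => (a : ℤ) * c) ?_ (inter_eq_D (Γ l) e)
  rw [len_structure_eq]
  unfold Models.mult
  rw [← hpt l]

omit [IsProper X.hom] in
/-- The closed fibre of an integral flat surface has dimension at most one. -/
theorem dim_fibre_le [IsIntegral X.left] (hX : topologicalKrullDim X.left = 2) :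
    topologicalKrullDim ↥(pullback X.hom (closedPt R)) ≤ ((1 : ℕ) : WithBot ℕ∞) := by
  let b := pullback.fst X.hom (closedPt R)
  let ξ := genericPoint X.left
  have hξ : ξ ∉ Set.range b := by
    rintro ⟨y, hy⟩
    obtain ⟨ϖ, hirr⟩ := IsDiscreteValuationRing.exists_irreducible R
    obtain ⟨U, hU, hξU, -⟩ := exists_isAffineOpen_mem_and_subset (U := (⊤ : X.left.Opens)) (x := ξ) trivial
    have hker : baseSect X ϖ U ∈ RingHom.ker (b.app U).hom :=
      (ker_fst_app hirr.maximalIdeal_eq hU).ge (Ideal.mem_span_singleton_self _)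
    have hne : baseSect X ϖ U ≠ 0 := fun h0 => by
      haveI : Nonempty U := ⟨⟨ξ, hξU⟩⟩
      have : (1 : Γ(X.left, U)) = 0 := baseSect_mul_cancel hirr.ne_zero hU (by rw [h0, zero_mul, zero_mul])
      exact one_ne_zero this
    have hmem : ξ ∈ X.left.basicOpen (baseSect X ϖ U) :=
      ((genericPoint_spec X.left).mem_open_set_iff (X.left.basicOpen _).isOpen).2 (by
        rw [Set.univ_inter, Set.nonempty_iff_ne_empty]
        exact fun h => hne ((basicOpen_eq_bot_iff _).1 (Opens.ext h)))
    have hy' : y ∈ b ⁻¹ᵁ X.left.basicOpen (baseSect X ϖ U) := by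
      show b y ∈ X.left.basicOpen _
      rw [hy]
      exact hmem
    rw [Scheme.preimage_basicOpen, RingHom.mem_ker.1 hker, Scheme.basicOpen_zero] at hy'
    exact hy'
  have hd : topologicalKrullDim (Set.univ : Set X.left) ≤ ((2 : ℕ) : WithBot ℕ∞) :=
    Topology.IsInducing.subtypeVal.topologicalKrullDim_le.trans hX.le
  have hlt := dim_lt_of_notMem (C := Set.univ) (genericPoint_spec X.left) hd
    b.isClosedEmbedding.isClosed_range (fun _ _ => trivial) hξ
  rw [← IsHomeomorph.topologicalKrullDim_eq _ b.isClosedEmbedding.isEmbedding.toHomeomorph.isHomeomorph] at hlt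
  rcases hdim : topologicalKrullDim ↥(pullback X.hom (closedPt R)) with _ | n
  · exact bot_le
  · rw [hdim] at hlt
    have : n < ((1 + 1 : ℕ) : ℕ∞) := WithBot.coe_lt_coe.1 hlt
    exact WithBot.coe_le_coe.2 (ENat.lt_natCast_add_one_iff.1 (by exact_mod_cast this))

theorem form_nonpos_of_vertical {r : ℕ} (Γ : Fin r → ArSurf.VertComp R X)
    (hY : topologicalKrullDim ↥(pullback X.hom (closedPt R)) ≤ ((1 : ℕ) : WithBot ℕ∞))
    (L : Fin r → X.left.Modules) (hL : ∀ j, ClSub.IsInverseOf (L j) (ClSub.idealMod ((Γ j).ι.ker)))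
    (a : Fin r → ℤ) :
    (∑ p : Fin r × Fin r, a p.1 * a p.2 * ArSurf.inter R X (L p.2) (Γ p.1)) ≤ 0 := by
  classical
  let f : Fin r → Set X.left := fun i => Set.range (Γ i).ι.base
  let s := Finset.univ.image f
  let e := s.equivFin
  have hmem : ∀ i, f i ∈ s := fun i => Finset.mem_image.2 ⟨i, Finset.mem_univ _, rfl⟩
  let q : Fin r → Fin s.card := fun i => e ⟨f i, hmem i⟩
  have hex : ∀ t : Fin s.card, ∃ i, q i = t := fun t => by
    obtain ⟨i, -, hi⟩ := Finset.mem_image.1 (e.symm t).2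
    exact ⟨i, by rw [← e.apply_symm_apply t]; exact congrArg e (Subtype.ext hi)⟩
  choose rep hrep using hex
  have hq : ∀ i, f (rep (q i)) = f i := fun i =>
    congrArg Subtype.val (e.injective (hrep (q i)))
  let Δ := fun t => Γ (rep t)
  have hdist : Function.Injective fun t => Set.range (Δ t).ι.base := fun t t' h => by
    rw [← hrep t, ← hrep t']
    exact congrArg e (Subtype.ext h)
  let M : Matrix (Fin s.card) (Fin s.card) ℝ := fun t t' => (ArSurf.inter R X (L (rep t')) (Δ t) : ℝ)
  have hsymm : M.IsSymm := Matrix.IsSymm.ext fun t t' => by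
    rcases eq_or_ne t t' with rfl | h
    · rfl
    · exact congrArg (fun z : ℤ => (z : ℝ))
        (inter_symm (Δ t) (Δ t') (fun h' => h (hdist h')) (hL _) (hL _)).symm
  have hoff : ∀ t t', t ≠ t' → 0 ≤ M t t' := fun t t' h => by
    show (0 : ℝ) ≤ (ArSurf.inter R X (L (rep t')) (Δ t) : ℝ)
    exact_mod_cast (inter_nonneg (Δ t) (Δ t').ι.ker
      (genericPoint_notMem (Δ t) (Δ t') fun h' => h (hdist h')) (hL _)).1
  let m : Fin s.card → ℝ := fun t => (Models.mult R X (Δ t) : ℝ)
  have hm : ∀ t, 0 < m t := fun t => by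
    show (0 : ℝ) < (Models.mult R X (Δ t) : ℝ)
    exact_mod_cast (sum_mult_inter_le Δ hY hdist t (hL _)).1 t
  have hMm : ∀ t, M.mulVec m t ≤ 0 := fun t => by
    show ∑ t', (ArSurf.inter R X (L (rep t')) (Δ t) : ℝ) * ((Models.mult R X (Δ t') : ℕ) : ℝ) ≤ 0
    have h := (sum_mult_inter_le Δ hY hdist t (hL (rep t))).2
    refine le_trans (le_of_eq (Finset.sum_congr rfl fun t' _ => ?_)) (by exact_mod_cast h :
      ∑ t', ((Models.mult R X (Δ t') : ℕ) : ℝ) * (ArSurf.inter R X (L (rep t)) (Δ t') : ℝ) ≤ 0)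
    rcases eq_or_ne t t' with rfl | hne
    · exact mul_comm _ _
    · rw [inter_symm (Δ t) (Δ t') (fun h' => hne (hdist h')) (hL _) (hL _), mul_comm]
  let x : Fin s.card → ℝ := fun t => ∑ i ∈ Finset.univ.filter (fun i => q i = t), (a i : ℝ)
  have hle := (H28Alg.scaled_facts hsymm hoff hm hMm x).1
  have hQ : ((∑ p : Fin r × Fin r, a p.1 * a p.2 * ArSurf.inter R X (L p.2) (Γ p.1) : ℤ) : ℝ) =
      dotProduct x (M.mulVec x) := by
    have hterm : ∀ i j, ArSurf.inter R X (L j) (Γ i) = ArSurf.inter R X (L (rep (q j))) (Δ (q i)) := fun i j =>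
      inter_congr (hq i).symm (hq j).symm (hL j) (hL _)
    push_cast
    rw [Fintype.sum_prod_type]
    simp only [hterm]
    have : ∀ i j, (ArSurf.inter R X (L (rep (q j))) (Δ (q i)) : ℝ) = M (q i) (q j) := fun _ _ => rfl
    simp only [this, dotProduct, Matrix.mulVec, x, Finset.mul_sum, Finset.sum_mul]
    rw [← Finset.sum_fiberwise Finset.univ q]
    refine Finset.sum_congr rfl fun t _ => ?_
    rw [Finset.sum_comm]
    rw [← Finset.sum_fiberwise Finset.univ q]
    refine Finset.sum_congr rfl fun t' _ => ?_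
    refine Finset.sum_congr rfl fun i hi => Finset.sum_congr rfl fun j hj => ?_
    rw [(Finset.mem_filter.1 hj).2, (Finset.mem_filter.1 hi).2]
    ring
  exact_mod_cast hQ.trans_le hle

end Groth.Agent.H28Vert
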