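import Groth.Agent.H28Vert.ClosedFibre
import Groth.Agent.H28Alg.Laplacian
import Groth.Agent.H22Alg.CohSupport
import Groth.Agent.H28NT.GlobalFunctions

/-!
# The intersection form on the components of the closed fibre
-/

set_option autoImplicit false
set_option linter.style.haveILetI false
set_option backward.isDefEq.respectTransparency.types false
universe u

open CategoryTheory CategoryTheory.Limits AlgebraicGeometry Opposite TopologicalSpace

namespace Groth.Agent.H28Vert

open Groth.Agent.H28Int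

variable {R : Type u} [CommRing R] [IsDomain R] [IsDiscreteValuationRing R]
  {X : Over (Spec (CommRingCat.of R))}

theorem mult_pos [IsProper X.hom] {n : ℕ} {Γ : Fin n → ArSurf.VertComp R X}
    (hΓ : Models.IsComponentList R X Γ) (l : Fin n) : 0 < Models.mult R X (Γ l) := by
  let k := IsLocalRing.ResidueField R
  let Y := pullback X.hom (closedPt R)
  let b := pullback.fst X.hom (closedPt R)
  haveI := isNoetherian k (X := Y)
  let ξ : Y := (toFibre (Γ l)) (genericPoint (Γ l).curve.left)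
  have hfin := H22Alg.CohSupport.length_stalk_lt_top (Coh.structureModule Y) (H10Coh.isCoh_structureModule' Y) ξ
    fun z _ hz => by
      obtain ⟨m, w, hw⟩ := exists_mem_range_toFibre hΓ z
      have hξm : ξ ∈ Set.range (toFibre (Γ m)) :=
        hz.mem_closed (toFibre (Γ m)).isClosedEmbedding.isClosed_range ⟨w, hw⟩
      obtain rfl : l = m := by
        by_contra hlm
        obtain ⟨v, hv⟩ := hξm
        refine genPt_notMem_range hΓ hlm ⟨v, ?_⟩
        rw [← toFibre_fst (Γ m), ← toFibre_fst (Γ l)]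
        exact congrArg b hv
      rw [← hw]
      refine congrArg (toFibre (Γ l)) ?_
      have hsp : w ⤳ genericPoint (Γ l).curve.left :=
        (toFibre (Γ l)).isClosedEmbedding.isInducing.specializes_iff.1 (hw.symm ▸ hz)
      exact ((genericPoint_specializes w).antisymm hsp).eq.symm
  change len ξ (Coh.structureModule Y) < ⊤ at hfin
  rw [len_structure_eq] at hfin
  have hne : Ideal.map (Models.stalkHom R X (b ξ)) (IsLocalRing.maximalIdeal R) ≠ ⊤ := by
    rw [← ker_stalkMap_fst ξ]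
    exact RingHom.ker_ne_top _
  haveI : Nontrivial (X.left.presheaf.stalk (b ξ) ⧸
      Ideal.map (Models.stalkHom R X (b ξ)) (IsLocalRing.maximalIdeal R)) :=
    Ideal.Quotient.nontrivial_iff.2 hne
  have hpos : Module.length (X.left.presheaf.stalk (b ξ)) (X.left.presheaf.stalk (b ξ) ⧸
      Ideal.map (Models.stalkHom R X (b ξ)) (IsLocalRing.maximalIdeal R)) ≠ 0 :=
    Module.length_pos.ne'
  have hpt : b ξ = Models.genPtOf R X (Γ l) := by
    show (toFibre (Γ l) ≫ b) _ = _
    rw [show toFibre (Γ l) ≫ b = (Γ l).ι from toFibre_fst _]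
    rfl
  unfold Models.mult
  rw [← hpt]
  refine Nat.pos_of_ne_zero fun h => ?_
  rcases ENat.toNat_eq_zero.1 h with h | h
  · exact hpos h
  · exact hfin.ne h

/-- A list of distinct vertical curves covering the closed fibre is the list of its components. -/
theorem isComponentList_of_cover {n : ℕ} {Γ : Fin n → ArSurf.VertComp R X}
    (hdist : Function.Injective fun i => Set.range (Γ i).ι.base)
    (hcov : ∀ x : X.left, X.hom.base x = IsLocalRing.closedPoint R → ∃ i, x ∈ Set.range (Γ i).ι.base) :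
    Models.IsComponentList R X Γ := by
  let S := Models.specialFibreSet R X
  have hsub : ∀ i, Set.range (Γ i).ι.base ⊆ S := by
    rintro i _ ⟨z, rfl⟩
    show X.hom ((Γ i).ι z) = IsLocalRing.closedPoint R
    rw [← Scheme.Hom.comp_apply, (Γ i).w, Scheme.Hom.comp_apply]
    exact IsLocalRing.PrimeSpectrum.comap_residue R _
  have hirr : ∀ i, IsIrreducible (Set.range (Γ i).ι.base) := fun i => by
    rw [← Set.image_univ]
    exact (IrreducibleSpace.isIrreducible_univ _).image _ (Γ i).ι.continuous.continuousOn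
  have hT : ∀ T : Set X.left, IsIrreducible T → T ⊆ S → ∃ l, T ⊆ Set.range (Γ l).ι.base := by
    intro T hT hTS
    obtain ⟨z, hz, hTz⟩ := (isIrreducible_iff_sUnion_isClosed.1 hT)
      (Finset.univ.image fun i => Set.range (Γ i).ι.base)
      (fun z hz => by
        obtain ⟨i, -, rfl⟩ := Finset.mem_image.1 hz
        exact (Γ i).ι.isClosedEmbedding.isClosed_range)
      (fun x hx => by
        obtain ⟨i, hi⟩ := hcov x (hTS hx)
        exact ⟨_, by simp, hi⟩)
    obtain ⟨l, -, rfl⟩ := Finset.mem_image.1 hz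
    exact ⟨l, hTz⟩
  have hle : ∀ i l, Set.range (Γ i).ι.base ⊆ Set.range (Γ l).ι.base → i = l := fun i l h => by
    by_contra hil
    refine genericPoint_notMem (Γ i) (Γ l) (fun e => hil (hdist e)) ?_
    rw [Scheme.Hom.support_ker, IsClosed.closure_eq (Γ l).ι.isClosedEmbedding.isClosed_range]
    exact h ⟨_, rfl⟩
  refine ⟨hdist, Set.Subset.antisymm ?_ ?_⟩
  · rintro _ ⟨i, rfl⟩
    refine ⟨⟨hirr i, hsub i⟩, ?_⟩
    rintro T ⟨hTi, hTS⟩ hiT
    obtain ⟨l, hl⟩ := hT T hTi hTS
    obtain rfl := hle i l (hiT.trans hl)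
    exact hl
  · rintro T ⟨⟨hTi, hTS⟩, hmax⟩
    obtain ⟨l, hl⟩ := hT T hTi hTS
    exact ⟨l, Set.Subset.antisymm (hmax ⟨hirr l, hsub l⟩ hl) hl⟩

section form

variable [IsProper X.hom] {n : ℕ} {Γ : Fin n → ArSurf.VertComp R X} (hΓ : Models.IsComponentList R X Γ)
  {L : Fin n → X.left.Modules} (hL : ∀ j, ClSub.IsInverseOf (L j) (ClSub.idealMod (Γ j).ι.ker))

include hΓ hL

theorem inter_symm' (i j : Fin n) : ArSurf.inter R X (L j) (Γ i) = ArSurf.inter R X (L i) (Γ j) := by
  rcases eq_or_ne i j with rfl | hij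
  · rfl
  · exact inter_symm (Γ i) (Γ j) (fun h => hij (hΓ.1 h)) (hL i) (hL j)

theorem inter_offDiag {i j : Fin n} (hij : i ≠ j) :
    0 ≤ ArSurf.inter R X (L j) (Γ i) ∧ (ArSurf.inter R X (L j) (Γ i) = 0 ↔
      Disjoint (Set.range (Γ i).ι.base) (Set.range (Γ j).ι.base)) := by
  have hsupp : ((Γ j).ι.ker.support : Set X.left) = Set.range (Γ j).ι.base := by
    rw [Scheme.Hom.support_ker]
    exact (Γ j).ι.isClosedEmbedding.isClosed_range.closure_eq
  have hne : (Γ i).ι.base (genericPoint ↥(Γ i).curve.left) ∉ ((Γ j).ι.ker.support : Set X.left) :=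
    genericPoint_notMem (Γ i) (Γ j) fun h => hij (hΓ.1 h)
  have := inter_nonneg (Γ i) (Γ j).ι.ker hne (hL j)
  rwa [hsupp] at this

theorem exists_inter_ne_zero
    (hconn : _root_.IsPreconnected (Models.specialFibreSet R X)) (I : Finset (Fin n)) (hI : I.Nonempty)
    (hI' : I ≠ Finset.univ) : ∃ i ∈ I, ∃ j ∉ I, ArSurf.inter R X (L j) (Γ i) ≠ 0 := by
  by_contra hc
  push Not at hc
  let S := Models.specialFibreSet R X
  let A : Set X.left := ⋃ i ∈ I, Set.range (Γ i).ι.base
  let B : Set X.left := ⋃ j ∈ Iᶜ, Set.range (Γ j).ι.base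
  have hcl : ∀ J : Finset (Fin n), IsClosed (⋃ i ∈ J, Set.range (Γ i).ι.base) := fun J =>
    isClosed_biUnion_finset fun i _ => (Γ i).ι.isClosedEmbedding.isClosed_range
  have hS : ∀ i, Set.range (Γ i).ι.base ⊆ S := fun i => ((hΓ.2 ▸ ⟨i, rfl⟩ :
    Set.range (Γ i).ι.base ∈ Models.fibreComponents R X)).1.2
  have hcov : S ⊆ A ∪ B := by
    intro x hx
    obtain ⟨y, rfl⟩ : x ∈ Set.range (pullback.fst X.hom (closedPt R)) := by
      rw [Scheme.Pullback.range_fst]
      exact ⟨IsLocalRing.closedPoint (IsLocalRing.ResidueField R),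
        (IsLocalRing.PrimeSpectrum.comap_residue R _).trans hx.symm⟩
    obtain ⟨l, z, rfl⟩ := exists_mem_range_toFibre hΓ y
    have hz : pullback.fst X.hom (closedPt R) (toFibre (Γ l) z) ∈ Set.range (Γ l).ι.base := by
      refine ⟨z, ?_⟩
      rw [← Scheme.Hom.comp_apply, show toFibre (Γ l) ≫ pullback.fst X.hom (closedPt R) = (Γ l).ι from toFibre_fst _]
    by_cases hl : l ∈ I
    · exact Or.inl (Set.mem_biUnion hl hz)
    · exact Or.inr (Set.mem_biUnion (Finset.mem_compl.2 hl) hz)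
  obtain ⟨i₀, hi₀⟩ := hI
  obtain ⟨j₀, hj₀⟩ : ∃ j, j ∉ I := by
    by_contra h
    push Not at h
    exact hI' (Finset.eq_univ_of_forall h)
  obtain ⟨x, -, hxA, hxB⟩ := (isPreconnected_closed_iff.1 hconn) A B (hcl I) (hcl Iᶜ) hcov
    ⟨(Γ i₀).ι.base (genericPoint _), hS i₀ ⟨_, rfl⟩, Set.mem_biUnion hi₀ ⟨_, rfl⟩⟩
    ⟨(Γ j₀).ι.base (genericPoint _), hS j₀ ⟨_, rfl⟩, Set.mem_biUnion (Finset.mem_compl.2 hj₀) ⟨_, rfl⟩⟩
  obtain ⟨i, hi, hxi⟩ := Set.mem_iUnion₂.1 hxA
  obtain ⟨j, hj, hxj⟩ := Set.mem_iUnion₂.1 hxB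
  have hj' := Finset.mem_compl.1 hj
  exact Set.disjoint_left.1 ((inter_offDiag hΓ hL (fun (h : i = j) => hj' (h ▸ hi))).2.1 (hc i hi j hj')) hxi hxj

variable [Flat X.hom]

theorem sum_inter_mult (i : Fin n) :
    ∑ j, ArSurf.inter R X (L j) (Γ i) * (Models.mult R X (Γ j) : ℤ) = 0 := by
  refine (Finset.sum_congr rfl fun j _ => ?_).trans (sum_mult_inter Γ hΓ i (hL i))
  rw [inter_symm' hΓ hL i j, mul_comm]

theorem form_nonpos (hconn : _root_.IsPreconnected (Models.specialFibreSet R X)) (a : Fin n → ℤ) :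
    (∑ q : Fin n × Fin n, a q.1 * a q.2 * ArSurf.inter R X (L q.2) (Γ q.1)) ≤ 0 ∧
      ((∑ q : Fin n × Fin n, a q.1 * a q.2 * ArSurf.inter R X (L q.2) (Γ q.1)) = 0 ↔
        ∃ c : ℚ, ∀ i, (a i : ℚ) = c * (Models.mult R X (Γ i) : ℚ)) := by
  classical
  let M : Matrix (Fin n) (Fin n) ℝ := fun i j => (ArSurf.inter R X (L j) (Γ i) : ℝ)
  let m : Fin n → ℝ := fun i => (Models.mult R X (Γ i) : ℝ)
  let x : Fin n → ℝ := fun i => (a i : ℝ)
  have hs : M.IsSymm := Matrix.IsSymm.ext fun i j => congrArg (fun z : ℤ => (z : ℝ)) (inter_symm' hΓ hL j i)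
  have hoff : ∀ i j, i ≠ j → 0 ≤ M i j := fun i j hij => by
    show (0 : ℝ) ≤ (ArSurf.inter R X (L j) (Γ i) : ℝ)
    exact_mod_cast (inter_offDiag hΓ hL hij).1
  have hm : ∀ i, 0 < m i := fun i => by
    show (0 : ℝ) < (Models.mult R X (Γ i) : ℝ)
    exact_mod_cast mult_pos hΓ i
  have hMm : ∀ i, M.mulVec m i ≤ 0 := fun i => by
    refine le_of_eq ?_
    show ∑ j, (ArSurf.inter R X (L j) (Γ i) : ℝ) * ((Models.mult R X (Γ j) : ℕ) : ℝ) = 0
    exact_mod_cast sum_inter_mult hΓ hL i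
  obtain ⟨hle, heq⟩ := H28Alg.scaled_facts hs hoff hm hMm x
  have hQ : ((∑ q : Fin n × Fin n, a q.1 * a q.2 * ArSurf.inter R X (L q.2) (Γ q.1) : ℤ) : ℝ) =
      dotProduct x (M.mulVec x) := by
    simp only [Fintype.sum_prod_type, dotProduct, Matrix.mulVec, Finset.mul_sum, x, M, Int.cast_sum, Int.cast_mul]
    exact Finset.sum_congr rfl fun i _ => Finset.sum_congr rfl fun j _ => by ring
  refine ⟨by exact_mod_cast hQ.trans_le hle, fun h0 => ?_, fun ⟨c, hc⟩ => ?_⟩
  · obtain ⟨hedge, -⟩ := heq (by rw [← hQ, h0, Int.cast_zero])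
    rcases isEmpty_or_nonempty (Fin n) with hn | ⟨⟨i₀⟩⟩
    · exact ⟨0, fun i => isEmptyElim i⟩
    let y : Fin n → ℚ := fun i => (a i : ℚ) / (Models.mult R X (Γ i) : ℚ)
    let I := Finset.univ.filter fun i => y i = y i₀
    have hI : I = Finset.univ := by
      by_contra hne
      obtain ⟨i, hi, j, hj, hij⟩ := exists_inter_ne_zero hΓ hL hconn I ⟨i₀, by simp [I]⟩ hne
      have h1 := hedge i j (fun h => hj (h ▸ hi)) (by
        show (ArSurf.inter R X (L j) (Γ i) : ℝ) ≠ 0
        exact_mod_cast hij)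
      have h2 : ((y i : ℚ) : ℝ) = ((y j : ℚ) : ℝ) := by
        simp only [y, Rat.cast_div, Rat.cast_intCast, Rat.cast_natCast]
        exact h1
      refine hj (Finset.mem_filter.2 ⟨Finset.mem_univ _, ?_⟩)
      rw [← show y i = y j by exact_mod_cast h2]
      exact (Finset.mem_filter.1 hi).2
    refine ⟨y i₀, fun i => ?_⟩
    have hi : y i = y i₀ := (Finset.mem_filter.1 (hI.ge (Finset.mem_univ i) : i ∈ I)).2
    rw [← hi]
    have : (Models.mult R X (Γ i) : ℚ) ≠ 0 := by exact_mod_cast (mult_pos hΓ i).ne'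
    simp only [y]
    field_simp
  · have hx : ∀ i, x i = (c : ℝ) * m i := fun i => by
      show ((a i : ℤ) : ℝ) = (c : ℝ) * ((Models.mult R X (Γ i) : ℕ) : ℝ)
      exact_mod_cast congrArg (fun q : ℚ => (q : ℝ)) (hc i)
    have hz : dotProduct x (M.mulVec x) = 0 := by
      have hv : M.mulVec x = 0 := by
        have hxm : x = (c : ℝ) • m := funext hx
        rw [hxm, Matrix.mulVec_smul]
        ext i
        have h0 : M.mulVec m i = 0 := by
          show ∑ j, (ArSurf.inter R X (L j) (Γ i) : ℝ) * ((Models.mult R X (Γ j) : ℕ) : ℝ) = 0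
          exact_mod_cast sum_inter_mult hΓ hL i
        simp [h0]
      rw [hv, dotProduct_zero]
    exact_mod_cast hQ.trans hz

theorem kernel_iff (hconn : _root_.IsPreconnected (Models.specialFibreSet R X)) (a : Fin n → ℤ) :
    (∀ i, ∑ j, a j * ArSurf.inter R X (L j) (Γ i) = 0) ↔
      ∃ c : ℚ, ∀ i, (a i : ℚ) = c * (Models.mult R X (Γ i) : ℚ) := by
  constructor
  · intro h
    refine (form_nonpos hΓ hL hconn a).2.1 ?_
    rw [Fintype.sum_prod_type]
    refine Finset.sum_eq_zero fun i _ => ?_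
    simp only [mul_assoc, ← Finset.mul_sum, h i, mul_zero]
  · rintro ⟨c, hc⟩ i
    have h0 : (∑ j, (a j : ℚ) * (ArSurf.inter R X (L j) (Γ i) : ℚ)) =
        c * ∑ j, (ArSurf.inter R X (L j) (Γ i) : ℚ) * (Models.mult R X (Γ j) : ℚ) := by
      rw [Finset.mul_sum]
      exact Finset.sum_congr rfl fun j _ => by rw [hc j]; ring
    have h1 : (∑ j, (ArSurf.inter R X (L j) (Γ i) : ℚ) * (Models.mult R X (Γ j) : ℚ)) = 0 := by
      exact_mod_cast sum_inter_mult hΓ hL i
    rw [h1, mul_zero] at h0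
    exact_mod_cast h0

end form

/-- The closed fibre of a proper flat model of a curve with constant global functions is preconnected. -/
theorem isPreconnected_specialFibreSet {X C : Scheme.{u}} (p : X ⟶ Spec (CommRingCat.of R)) [IsProper p] [Flat p]
    (f : C ⟶ Spec (CommRingCat.of (FractionRing R))) (g : C ⟶ X)
    (hg : IsPullback g f p (Spec.map (CommRingCat.ofHom (algebraMap R (FractionRing R)))))
    (hf : IsIso f.appTop) : _root_.IsPreconnected (Models.specialFibreSet R (Over.mk p)) := by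
  letI : X.Over (Spec (CommRingCat.of R)) := ⟨p⟩
  haveI : IsProper (X ↘ Spec (CommRingCat.of R)) := ‹IsProper p›
  haveI := hf
  exact H28NT.isPreconnected_closedFibre (X := X) (A := R)
    (H28NT.toGlobal_surjective_of_genericFibre R p f g hg (ConcreteCategory.bijective_of_isIso f.appTop).2)

end Groth.Agent.H28Vert
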