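import Groth.Agent.H28Vert.Field
import Groth.Agent.H28Vert.Form

/-!
# The reduced closed fibre divisor
-/

set_option autoImplicit false
set_option linter.style.haveILetI false
set_option backward.isDefEq.respectTransparency.types false
universe u

open CategoryTheory CategoryTheory.Limits AlgebraicGeometry Opposite TopologicalSpace

namespace Groth.Agent.H28Vert

variable {R : Type u} [CommRing R] [IsDomain R] [IsDiscreteValuationRing R]
  {X : Over (Spec (CommRingCat.of R))} [IsProper X.hom] [Flat X.hom] {n : ℕ} {Γ : Fin n → ArSurf.VertComp R X}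
  (hΓ : Models.IsComponentList R X Γ)
  {L : Fin n → X.left.Modules} (hL : ∀ j, ClSub.IsInverseOf (L j) (ClSub.idealMod (Γ j).ι.ker))

omit [IsProper X.hom] [Flat X.hom] in
theorem multGcd_dvd (i : Fin n) : Models.multGcd R X Γ ∣ Models.mult R X (Γ i) :=
  Finset.gcd_dvd (Finset.mem_univ i)

include hΓ in
omit [Flat X.hom] in
theorem multGcd_pos (hn : 0 < n) : 0 < Models.multGcd R X Γ :=
  Nat.pos_of_ne_zero fun h => (mult_pos hΓ ⟨0, hn⟩).ne'
    (Finset.gcd_eq_zero_iff.1 h ⟨0, hn⟩ (Finset.mem_univ _))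

include hΓ hL in
/-- A proper part of the reduced fibre divisor with non-positive degrees vanishes. -/
theorem eq_zero_of_degrees (hconn : _root_.IsPreconnected (Models.specialFibreSet R X)) (hn : 0 < n)
    (a : Fin n → ℕ) (haz : ∀ i, a i ≤ Models.mult R X (Γ i) / Models.multGcd R X Γ)
    (hne : a ≠ fun i => Models.mult R X (Γ i) / Models.multGcd R X Γ)
    (hdeg : ∀ i, a i < Models.mult R X (Γ i) / Models.multGcd R X Γ →
      ∑ j, (a j : ℤ) * ArSurf.inter R X (L j) (Γ i) ≤ 0) : a = 0 := by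
  classical
  let d := Models.multGcd R X Γ
  have hd : 0 < d := multGcd_pos hΓ hn
  let z : Fin n → ℕ := fun i => Models.mult R X (Γ i) / d
  have hzm : ∀ i, d * z i = Models.mult R X (Γ i) := fun i => Nat.mul_div_cancel' (multGcd_dvd i)
  have hzsum : ∀ i, ∑ j, (z j : ℤ) * ArSurf.inter R X (L j) (Γ i) = 0 := fun i => by
    have h := sum_inter_mult hΓ hL i
    simp only [← hzm, Nat.cast_mul] at h
    have h2 : (d : ℤ) * ∑ j, (z j : ℤ) * ArSurf.inter R X (L j) (Γ i) = 0 := by
      rw [Finset.mul_sum, ← h]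
      exact Finset.sum_congr rfl fun j _ => by ring
    exact (mul_eq_zero.1 h2).resolve_left (by exact_mod_cast hd.ne')
  have hall : ∀ i, ∑ j, (a j : ℤ) * ArSurf.inter R X (L j) (Γ i) ≤ 0 := by
    intro i
    rcases (haz i).lt_or_eq with h | h
    · exact hdeg i h
    · refine le_trans (Finset.sum_le_sum fun j _ => ?_) (hzsum i).le
      rcases eq_or_ne i j with rfl | hij
      · rw [h]
      · exact mul_le_mul_of_nonneg_right (Int.ofNat_le.2 (haz j)) (inter_offDiag hΓ hL hij).1
  have htot : ∑ i, (Models.mult R X (Γ i) : ℤ) * ∑ j, (a j : ℤ) * ArSurf.inter R X (L j) (Γ i) = 0 := by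
    simp only [Finset.mul_sum]
    rw [Finset.sum_comm]
    refine Finset.sum_eq_zero fun j _ => ?_
    have h := congrArg ((a j : ℤ) * ·) (sum_inter_mult hΓ hL j)
    simp only [mul_zero, Finset.mul_sum] at h
    rw [← h]
    refine Finset.sum_congr rfl fun i _ => ?_
    rw [inter_symm' hΓ hL i j]
    ring
  have hzero : ∀ i, ∑ j, (a j : ℤ) * ArSurf.inter R X (L j) (Γ i) = 0 := fun i => by
    have h1 := (Finset.sum_eq_zero_iff_of_nonpos fun l _ =>
      mul_nonpos_iff.2 (Or.inl ⟨Int.natCast_nonneg (Models.mult R X (Γ l)), hall l⟩)).1 htot i (Finset.mem_univ i)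
    exact (mul_eq_zero.1 h1).resolve_left (by exact_mod_cast (mult_pos hΓ i).ne')
  obtain ⟨c, hc⟩ := (kernel_iff hΓ hL hconn fun j => (a j : ℤ)).1 hzero
  have hc' : ∀ i, (a i : ℚ) = c * d * (z i : ℚ) := fun i => by
    have h := hc i
    rw [← hzm i] at h
    push_cast at h ⊢
    linarith
  have hzpos : ∀ i, 0 < z i := fun i => Nat.pos_of_ne_zero fun h => (mult_pos hΓ i).ne' (by rw [← hzm i, h, mul_zero])
  let p := (c * d).num
  have hgcd : Finset.univ.gcd z = 1 :=
    Finset.gcd_div_eq_one (f := fun i => Models.mult R X (Γ i)) (Finset.mem_univ (⟨0, hn⟩ : Fin n))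
      (mult_pos hΓ _).ne'
  have hden : ∀ i, ((c * d).den : ℤ) ∣ (z i : ℤ) := fun i => by
    have h := hc' i
    rw [← Rat.num_div_den (c * d), div_mul_eq_mul_div, eq_div_iff (by exact_mod_cast (c * d).den_pos.ne')] at h
    have h2 : (a i : ℤ) * ((c * d).den : ℤ) = (c * d).num * (z i : ℤ) := by exact_mod_cast h
    have hcop : IsCoprime ((c * d).den : ℤ) (c * d).num := by
      rw [Int.isCoprime_iff_nat_coprime]
      exact (c * d).reduced.symm
    exact hcop.dvd_of_dvd_mul_left ⟨(a i : ℤ), by rw [← h2, mul_comm]⟩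
  have hden1 : (c * d).den = 1 := Nat.dvd_one.1 (hgcd ▸ Finset.dvd_gcd fun i _ => Int.natCast_dvd_natCast.1 (hden i))
  have hp : ∀ i, (a i : ℤ) = (c * d).num * (z i : ℤ) := fun i => by
    have h := hc' i
    rw [← Rat.num_div_den (c * d), hden1, Nat.cast_one, div_one] at h
    exact_mod_cast h
  have h0 := hp ⟨0, hn⟩
  have hpos := hzpos ⟨0, hn⟩
  have hle := haz ⟨0, hn⟩
  have hnum : (c * d).num = 0 := by
    by_contra hnum
    have hn0 : 0 ≤ (c * d).num := by nlinarith [Int.natCast_nonneg (a ⟨0, hn⟩)]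
    have hn1 : (c * d).num ≤ 1 := by
      have : (a ⟨0, hn⟩ : ℤ) ≤ (z ⟨0, hn⟩ : ℤ) := Int.ofNat_le.2 hle
      nlinarith
    have h1 : (c * d).num = 1 := by omega
    refine hne (funext fun i => ?_)
    have := hp i
    rw [h1, one_mul] at this
    exact_mod_cast this
  refine funext fun i => ?_
  have := hp i
  rw [hnum, zero_mul] at this
  exact_mod_cast this

end Groth.Agent.H28Vert
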