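import Groth.Agent.H28Vert.TrivGeneric
import Groth.Agent.H28Vert.Fund

/-!
# Degrees on vertical curves, and modules trivial on the generic fibre
-/

set_option autoImplicit false
set_option linter.style.haveILetI false
set_option backward.isDefEq.respectTransparency.types false
universe u

open CategoryTheory CategoryTheory.Limits AlgebraicGeometry Opposite TopologicalSpace

namespace Groth.Agent.H28Vert

open Groth.Agent.H28Int

variable {R : Type u} [CommRing R] [IsDomain R] [IsDiscreteValuationRing R]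
  {X : Over (Spec (CommRingCat.of R))} [IsProper X.hom] (Δ : ArSurf.VertComp R X)

theorem inter_eq_neg_D {M : X.left.Modules} (hM : PicF.IsInvertible M) :
    haveI := isProper_curve Δ
    ArSurf.inter R X M Δ = - D (IsLocalRing.ResidueField R) [(Scheme.Modules.pullback Δ.ι).obj M]
      (Coh.structureModule Δ.curve.left) := by
  haveI := isProper_curve Δ
  haveI : IsProper (Δ.curve.left ↘ Spec (CommRingCat.of (IsLocalRing.ResidueField R))) :=
    inferInstanceAs (IsProper Δ.curve.hom)
  exact Curves.curveDeg_eq _ Δ.dim_eq (H11Ample.isInvertible_pullback Δ.ι hM)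

theorem inter_congr_iso {M N : X.left.Modules} (hM : PicF.IsInvertible M) (hN : PicF.IsInvertible N) (e : M ≅ N) :
    ArSurf.inter R X M Δ = ArSurf.inter R X N Δ := by
  haveI := isProper_curve Δ
  haveI : IsProper (Δ.curve.left ↘ Spec (CommRingCat.of (IsLocalRing.ResidueField R))) :=
    inferInstanceAs (IsProper Δ.curve.hom)
  rw [inter_eq_neg_D Δ hM, inter_eq_neg_D Δ hN]
  show -(Curv2.euler _ _ _ - Curv2.euler _ _ _) = -(Curv2.euler _ _ _ - Curv2.euler _ _ _)
  rw [H25Euler.euler_congr (PicGrp.tensorModIso ((Scheme.Modules.pullback Δ.ι).mapIso e)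
    (Iso.refl (Coh.structureModule Δ.curve.left)))]

theorem inter_tensor {M N : X.left.Modules} (hM : PicF.IsInvertible M) (hN : PicF.IsInvertible N) :
    ArSurf.inter R X (CohB1.tensorMod M N) Δ = ArSurf.inter R X M Δ + ArSurf.inter R X N Δ := by
  haveI := isProper_curve Δ
  haveI : IsProper (Δ.curve.left ↘ Spec (CommRingCat.of (IsLocalRing.ResidueField R))) :=
    inferInstanceAs (IsProper Δ.curve.hom)
  haveI := isNoetherian (IsLocalRing.ResidueField R) (X := Δ.curve.left)
  rw [inter_eq_neg_D Δ hM, inter_eq_neg_D Δ hN, inter_eq_neg_D Δ (H11Ample.isInvertible_tensor hM hN)]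
  have h : D (IsLocalRing.ResidueField R) [(Scheme.Modules.pullback Δ.ι).obj (CohB1.tensorMod M N)]
      (Coh.structureModule Δ.curve.left) = D (IsLocalRing.ResidueField R)
      [CohB1.tensorMod ((Scheme.Modules.pullback Δ.ι).obj M) ((Scheme.Modules.pullback Δ.ι).obj N)]
      (Coh.structureModule Δ.curve.left) := by
    let e : (Scheme.Modules.pullback Δ.ι).obj (CohB1.tensorMod M N) ≅
        CohB1.tensorMod ((Scheme.Modules.pullback Δ.ι).obj M) ((Scheme.Modules.pullback Δ.ι).obj N) :=
      (H16Derived.KFlat.Stalk.pullTensorLIso Δ.ι N).app M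
    show Curv2.euler _ _ _ - Curv2.euler _ _ _ = Curv2.euler _ _ _ - Curv2.euler _ _ _
    rw [H25Euler.euler_congr (PicGrp.tensorModIso e (Iso.refl (Coh.structureModule Δ.curve.left)))]
  rw [h, D_cons_tensor _ (l := []) (by simp) (H11Ample.isInvertible_pullback Δ.ι hM)
    (H11Ample.isInvertible_pullback Δ.ι hN) (H10Coh.isCoh_structureModule' _)
    ((topologicalKrullDim_subspace_le Δ.curve.left _).trans Δ.dim_eq.le)]
  ring

theorem inter_structure : ArSurf.inter R X (Coh.structureModule X.left) Δ = 0 := by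
  have hO := PicLoc.isInvertible_structureModule X.left
  have h := inter_tensor Δ hO hO
  rw [inter_congr_iso Δ (H11Ample.isInvertible_tensor hO hO) hO (H10Coh.Tw.rightUnitIso _)] at h
  omega

theorem inter_tensorPow {M : X.left.Modules} (hM : PicF.IsInvertible M) :
    ∀ m : ℕ, ArSurf.inter R X (CohB1.tensorPow M m) Δ = m * ArSurf.inter R X M Δ
  | 0 => by rw [Nat.cast_zero, zero_mul]; exact inter_structure Δ
  | m + 1 => by
    show ArSurf.inter R X (CohB1.tensorMod (CohB1.tensorPow M m) M) Δ = _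
    rw [inter_tensor Δ (isInvertible_tensorPow hM m) hM, inter_tensorPow hM m]
    push_cast; ring

theorem inter_tensorList {ι : Type*} (M : ι → X.left.Modules) (hM : ∀ i, PicF.IsInvertible (M i)) :
    ∀ l : List ι, ArSurf.inter R X (FGA.tensorList (l.map M)) Δ = (l.map fun i => ArSurf.inter R X (M i) Δ).sum
  | [] => inter_structure Δ
  | i :: l => by
    show ArSurf.inter R X (CohB1.tensorMod (M i) (FGA.tensorList (l.map M))) Δ = _
    rw [inter_tensor Δ (hM i) (isInvertible_list (l.map M) fun A hA => by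
      obtain ⟨j, -, rfl⟩ := List.mem_map.1 hA; exact hM j), inter_tensorList M hM l]
    rfl

theorem inter_multiTwist {n : ℕ} {L : Fin n → X.left.Modules} (hL : ∀ i, PicF.IsInvertible (L i)) (a : Fin n → ℕ) :
    ArSurf.inter R X (FGA.multiTwist L a) Δ = ∑ j, (a j : ℤ) * ArSurf.inter R X (L j) Δ := by
  refine (inter_tensorList Δ (fun i => CohB1.tensorPow (L i) (a i)) (fun i => isInvertible_tensorPow (hL i) (a i))
    (List.finRange n)).trans ?_
  rw [← List.sum_toFinset _ (List.nodup_finRange n), List.toFinset_finRange]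
  exact Finset.sum_congr rfl fun j _ => inter_tensorPow Δ (hL j) (a j)

/-- Invertible modules trivial on the generic fibre have vertical inverses. -/
theorem exists_vertical {C X : Scheme.{u}} {f : C ⟶ Spec (CommRingCat.of (FractionRing R))}
    {p : X ⟶ Spec (CommRingCat.of R)} (hX : Models.IsRegularProperModel R X p C f)
    {n : ℕ} {Γ : Fin n → ArSurf.VertComp R (Over.mk p)} (hΓ : Models.IsComponentList R (Over.mk p) Γ)
    (g : C ⟶ X) (hg : IsPullback g f p (Spec.map (CommRingCat.ofHom (algebraMap R (FractionRing R)))))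
    (M : X.Modules) (hM : PicF.IsInvertible M)
    (htriv : Nonempty ((Scheme.Modules.pullback g).obj M ≅ Coh.structureModule C)) :
    ∃ (a : Fin n → ℕ) (M' : X.Modules), PicF.IsInvertible M' ∧
      Nonempty (CohB1.tensorMod M' M ≅ Coh.structureModule X) ∧
      Nonempty (M' ≅ ClSub.idealMod (divIdeal Γ a)) := by
  classical
  obtain ⟨⟨hfl, hlft, -, -⟩, hp, hreg⟩ := id hX
  haveI : LocallyOfFiniteType p := hlft
  haveI : IsProper p := hp
  haveI : Flat p := hfl
  haveI : IsProper (Over.mk p).hom := hp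
  haveI : Flat (Over.mk p).hom := hfl
  haveI : IsLocallyNoetherian (Over.mk p).left := LocallyOfFiniteType.isLocallyNoetherian p
  haveI : CompactSpace X := QuasiCompact.compactSpace_of_compactSpace p
  haveI : QuasiSeparatedSpace X := (quasiSeparated_iff_quasiSeparatedSpace p).1 inferInstance
  haveI : ∀ x : X, IsDomain (X.presheaf.stalk x) := fun x => (ufd_stalk (X := Over.mk p) hreg x).1
  haveI : IsReduced X := isReduced_of_isReduced_stalk X
  let P := Over.mk p
  obtain ⟨ϖ, hϖ⟩ := IsDiscreteValuationRing.exists_irreducible R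
  haveI := isOpenImmersion_generic R
  haveI : IsOpenImmersion g := MorphismProperty.of_isPullback hg.flip inferInstance
  let φ : Γ(X, ⊤) := Coh.toGlobal p ϖ
  have hmem : ∀ x : X, x ∈ X.basicOpen φ ↔ IsUnit (Models.stalkHom R (Over.mk p) x ϖ) :=
    fun x => mem_basicOpen_uniformizer R p ϖ x
  have hbasic : X.basicOpen φ ≤ g.opensRange := by
    intro x hx
    have h1 : p x ≠ IsLocalRing.closedPoint R := notMem_special_of_isUnit R p hϖ x ((hmem x).1 hx)
    obtain ⟨z, hz⟩ := mem_range_generic R (p x) h1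
    exact mem_opensRange_of_isPullback hg x z hz.symm
  obtain ⟨e₀, he₀⟩ := exists_gen_of_trivial_pullback g M htriv
  let e : Γ(M, X.basicOpen φ) := M.presheaf.map (homOfLE hbasic).op e₀
  have he : H11Tilde.IsGen M e := he₀.res hbasic
  haveI : M.IsQuasicoherent := (H11Ample.isCoh_of_isInvertible hM).1
  obtain ⟨N, s, hs⟩ := H10Coh.exists_pow_smul_eq_res_of_isCompact M (W := ⊤) (by simpa using isCompact_univ) φ e
  let σ := H29Fitt.homSec M s
  have hcu : IsUnit (X.presheaf.map (homOfLE (X.basicOpen_le φ)).op (φ ^ N)) := by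
    rw [map_pow]
    exact (X.toRingedSpace.isUnit_res_basicOpen φ).pow N
  have hstalk : ∀ y : X, y ∈ X.basicOpen φ → IsIso ((DerSch.stalkFunctor X y).map σ) :=
    fun y hy => isIso_stalk_homSec_of_res M s he hcu hs y hy
  obtain ⟨M', hM', ⟨ε⟩⟩ := H11Sym.exists_inverse hM
  let μ : M' ⟶ Coh.structureModule X := H25Euler.mulHom M' σ ≫ ε.hom
  have hμ : ∀ y : X, y ∈ X.basicOpen φ → IsIso ((DerSch.stalkFunctor X y).map μ) := fun y hy => by
    haveI := isIso_stalk_mulHom_of_isIso M' σ (hstalk y hy)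
    show IsIso ((DerSch.stalkFunctor X y).map (H25Euler.mulHom M' σ ≫ ε.hom))
    rw [Functor.map_comp]
    infer_instance
  have hne : ∀ y, imGerm μ y ≠ ⊥ := fun y => imGerm_ne_bot R p hM' μ hϖ hμ y
  obtain ⟨I, hI, ⟨ι⟩, hIs⟩ := exists_ideal_of_hom hM' μ hne
  obtain ⟨a, ha⟩ := exists_exponent (Z := P) hreg hΓ I hI fun y V hy hys => by
    rw [hIs]
    exact imGerm_eq_top μ y (hμ y ((hmem y).2 ((notMem_specialFibreSet_iff hϖ y).1 hys)))
  exact ⟨a, M', hM', ⟨ε⟩, ⟨ι ≪≫ eqToIso (by rw [ha])⟩⟩

attribute [local instance] picLaw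

variable {C X : Scheme.{u}} {f : C ⟶ Spec (CommRingCat.of (FractionRing R))}
  {p : X ⟶ Spec (CommRingCat.of R)} (hX : Models.IsRegularProperModel R X p C f)
  {n : ℕ} {Γ : Fin n → ArSurf.VertComp R (Over.mk p)} (hΓ : Models.IsComponentList R (Over.mk p) Γ)

include hX hΓ in
/-- Invertible modules trivial on the generic fibre are vertical twists. -/
theorem exists_vertical_twist (g : C ⟶ X)
    (hg : IsPullback g f p (Spec.map (CommRingCat.ofHom (algebraMap R (FractionRing R))))) (L : Fin n → X.Modules)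
    (hL : ∀ i, ClSub.IsInverseOf (L i) (ClSub.idealMod (Γ i).ι.ker)) (M : X.Modules) (hM : PicF.IsInvertible M)
    (htriv : Nonempty ((Scheme.Modules.pullback g).obj M ≅ Coh.structureModule C)) :
    ∃ a : Fin n → ℕ, Nonempty (M ≅ FGA.multiTwist L a) := by
  obtain ⟨a, M', hM', hε, ⟨ι⟩⟩ := exists_vertical hX hΓ g hg M hM htriv
  obtain ⟨⟨hfl, hlft, -, -⟩, hp, hreg⟩ := id hX
  haveI : IsProper (Over.mk p).hom := hp
  haveI : Flat (Over.mk p).hom := hfl
  haveI : LocallyOfFiniteType p := hlft
  haveI : IsLocallyNoetherian (Over.mk p).left := LocallyOfFiniteType.isLocallyNoetherian p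
  let q : Fin n → PicLoc.PicSet X := fun i => idealCls (isEffCartierIdeal_ker hreg hΓ i)
  have hLi : ∀ i, PicF.IsInvertible (L i) := fun i => by
    obtain ⟨e⟩ := hL i
    exact H17.InvertibleTensor.isInvertible_of_tensor_iso (L i) _ e
  have hLq : ∀ i, PicGrp.cls (L i) (hLi i) = (q i)⁻¹ := fun i =>
    eq_inv_of_mul_eq_one_left ((PicGrp.cls_mul_cls_eq_one_iff (hLi i) _).2 (hL i))
  obtain ⟨ha', ea⟩ := cls_multiTwist hLi a
  refine ⟨a, (PicGrp.cls_eq_cls_iff hM ha').1 ?_⟩
  have hMcls : PicGrp.cls M' hM' * PicGrp.cls M hM = 1 := (PicGrp.cls_mul_cls_eq_one_iff _ _).2 hε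
  have hM'cls : PicGrp.cls M' hM' = ∏ i, q i ^ a i := by
    rw [← idealCls_prod Finset.univ (fun j => (Γ j).ι.ker) (fun j => isEffCartierIdeal_ker hreg hΓ j) a]
    exact (PicGrp.cls_eq_cls_iff hM' _).2 ⟨ι⟩
  rw [ea, eq_inv_of_mul_eq_one_right hMcls, hM'cls]
  simp [hLq, inv_pow, Finset.prod_inv_distrib]

end Groth.Agent.H28Vert
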