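import Groth.Agent.H28Vert.Cartier
import Groth.Agent.H28Vert.Sub
import Groth.Agent.H28Vert.Symm

/-!
# Vertical prime divisors of a regular surface
-/

set_option autoImplicit false

universe u

open CategoryTheory Limits AlgebraicGeometry TopologicalSpace

namespace Groth.Agent.H28Vert

open Groth.Agent.H28Int

variable {R : Type u} [CommRing R] [IsDomain R] [IsDiscreteValuationRing R]
  {X : Over (Spec (CommRingCat.of R))} [IsLocallyNoetherian X.left] [Flat X.hom]

omit [IsLocallyNoetherian X.left] [Flat X.hom] in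
/-- A vertical prime divisor is a component of a closed fibre of dimension at most one. -/
theorem mem_fibreComponents (hd : topologicalKrullDim ↥(pullback X.hom (closedPt R)) ≤ ((1 : ℕ) : WithBot ℕ∞))
    (Δ : ArSurf.VertComp R X) : Set.range Δ.ι.base ∈ Models.fibreComponents R X := by
  let b := pullback.fst X.hom (closedPt R)
  have hS : Models.specialFibreSet R X = Set.range b := by
    ext x
    rw [Scheme.Pullback.range_fst]
    constructor
    · intro hx
      exact ⟨IsLocalRing.closedPoint _, (IsLocalRing.PrimeSpectrum.comap_residue R _).trans hx.symm⟩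
    · rintro ⟨w, hw⟩
      exact hw.symm.trans (IsLocalRing.PrimeSpectrum.comap_residue R _)
  have hsub : Set.range Δ.ι.base ⊆ Models.specialFibreSet R X := by
    rintro _ ⟨z, rfl⟩
    show X.hom (Δ.ι z) = IsLocalRing.closedPoint R
    rw [← Scheme.Hom.comp_apply, Δ.w, Scheme.Hom.comp_apply]
    exact IsLocalRing.PrimeSpectrum.comap_residue R _
  haveI := Δ.isIntegral
  haveI := Δ.isClosedImmersion
  have hirr : IsIrreducible (Set.range Δ.ι.base) := by
    rw [← Set.image_univ]
    exact (IrreducibleSpace.isIrreducible_univ _).image _ Δ.ι.continuous.continuousOn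
  refine ⟨⟨hirr, hsub⟩, ?_⟩
  rintro T ⟨hT, hTS⟩ hle
  let η := hT.genericPoint
  have hη : closure {η} = closure T := hT.isGenericPoint_genericPoint_closure
  by_contra hne
  have hηn : η ∉ Set.range Δ.ι.base := fun h => hne (subset_closure.trans (hη ▸
    closure_minimal (Set.singleton_subset_iff.2 h) Δ.ι.isClosedEmbedding.isClosed_range))
  have hsub' : closure T ⊆ Set.range b :=
    closure_minimal (hS ▸ hTS) b.isClosedEmbedding.isClosed_range
  have hdS : topologicalKrullDim (Set.range b) ≤ ((1 : ℕ) : WithBot ℕ∞) :=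
    (IsHomeomorph.topologicalKrullDim_eq _ b.isClosedEmbedding.isEmbedding.toHomeomorph.isHomeomorph).symm.trans_le hd
  have hdT : topologicalKrullDim (closure T) ≤ ((1 : ℕ) : WithBot ℕ∞) :=
    (Topology.IsEmbedding.inclusion hsub').toIsInducing.topologicalKrullDim_le.trans hdS
  have hlt := dim_lt_of_notMem hη hdT Δ.ι.isClosedEmbedding.isClosed_range
    (fun x hx => subset_closure (hle hx)) hηn
  rw [← IsHomeomorph.topologicalKrullDim_eq _ Δ.ι.isClosedEmbedding.isEmbedding.toHomeomorph.isHomeomorph,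
    Δ.dim_eq] at hlt
  exact lt_irrefl _ hlt

/-- The generic point of a component has a one dimensional local ring. -/
theorem dim_stalk_genPt_of_mem (hreg : Models.IsRegularScheme X.left) (Δ : ArSurf.VertComp R X)
    (hmax : Set.range Δ.ι.base ∈ Models.fibreComponents R X) :
    ringKrullDim (X.left.presheaf.stalk (Models.genPtOf R X Δ)) = 1 := by
  obtain ⟨ϖ, hϖ⟩ := IsDiscreteValuationRing.exists_irreducible R
  let ξ := Models.genPtOf R X Δ
  let A := X.left.presheaf.stalk ξ
  haveI := (ufd_stalk hreg ξ).1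
  obtain ⟨V, hV, hξV, -⟩ := exists_isAffineOpen_mem_and_subset (U := (⊤ : X.left.Opens)) (x := ξ) trivial
  letI := TopCat.Presheaf.algebra_section_stalk X.left.presheaf (⟨ξ, hξV⟩ : V)
  haveI hloc := hV.isLocalization_stalk ⟨ξ, hξV⟩
  haveI : IsNoetherianRing A := (hreg ξ).toIsNoetherian
  have hξs : ξ ∈ Models.specialFibreSet R X := hmax.1.2 ⟨_, rfl⟩
  have hu : ¬ IsUnit (Models.stalkHom R X ξ ϖ) := fun h => (notMem_specialFibreSet_iff hϖ ξ).2 h hξs
  have hmin : IsLocalRing.maximalIdeal A ∈ (Ideal.span {Models.stalkHom R X ξ ϖ}).minimalPrimes := by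
    refine ⟨⟨inferInstance, (Ideal.span_singleton_le_iff_mem _).2 hu⟩, ?_⟩
    rintro Q ⟨hQ, hQϖ⟩ -
    let z : PrimeSpectrum Γ(X.left, V) := ⟨Q.under Γ(X.left, V), inferInstance⟩
    have hzle : z.asIdeal ≤ (hV.primeIdealOf ⟨ξ, hξV⟩).asIdeal := by
      rw [← IsLocalization.AtPrime.under_maximalIdeal A (hV.primeIdealOf ⟨ξ, hξV⟩).asIdeal]
      exact Ideal.comap_mono (IsLocalRing.le_maximalIdeal hQ.ne_top)
    have hsp : hV.fromSpec z ⤳ ξ := by
      have h1 := ((PrimeSpectrum.le_iff_specializes z (hV.primeIdealOf ⟨ξ, hξV⟩)).1 hzle).map hV.fromSpec.continuous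
      rwa [hV.fromSpec_primeIdealOf] at h1
    have hzV : hV.fromSpec z ∈ V := by
      have h1 : hV.fromSpec z ∈ Set.range hV.fromSpec := ⟨z, rfl⟩
      rwa [hV.range_fromSpec] at h1
    have hzs : hV.fromSpec z ∈ Models.specialFibreSet R X := by
      by_contra hzs
      have h2 := (notMem_specialFibreSet_iff hϖ _).1 hzs
      letI := (X.left.presheaf.germ V (hV.fromSpec z) hzV).hom.toAlgebra
      haveI : IsLocalization.AtPrime (X.left.presheaf.stalk (hV.fromSpec z)) z.asIdeal :=
        hV.isLocalization_stalk' z hzV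
      have h3 : ∀ (w : X.left) (hw : w ∈ V),
          (X.left.presheaf.germ V w hw) (baseSect X ϖ V) = Models.stalkHom R X w ϖ := fun w hw => by
        show _ = (X.left.presheaf.germ ⊤ w trivial) (X.hom.appTop ((Scheme.ΓSpecIso (CommRingCat.of R)).inv ϖ))
        exact germ_appLE_top V hw _
      rw [← h3 _ hzV] at h2
      refine (IsLocalization.AtPrime.isUnit_to_map_iff (X.left.presheaf.stalk (hV.fromSpec z)) z.asIdeal _).1 h2 ?_
      show algebraMap Γ(X.left, V) A (baseSect X ϖ V) ∈ Q
      exact (h3 ξ hξV).symm ▸ hQϖ (Ideal.mem_span_singleton_self _)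
    have heq : hV.fromSpec z = ξ := by
      have hsub : Set.range Δ.ι.base ⊆ closure {hV.fromSpec z} := by
        rintro _ ⟨w, rfl⟩
        exact (hsp.trans ((genericPoint_specializes w).map Δ.ι.continuous)).mem_closure
      have hle := hmax.2 ⟨isIrreducible_singleton.closure,
        closure_minimal (Set.singleton_subset_iff.2 hzs) (Models.isClosed_specialFibreSet R X)⟩ hsub
      obtain ⟨w, hw⟩ := hle (subset_closure rfl)
      have h4 : ξ ⤳ hV.fromSpec z := hw ▸ (genericPoint_specializes w).map Δ.ι.continuous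
      exact (hsp.antisymm h4).eq
    have hz : z = hV.primeIdealOf ⟨ξ, hξV⟩ :=
      hV.fromSpec.isOpenEmbedding.injective (heq.trans (hV.fromSpec_primeIdealOf ⟨ξ, hξV⟩).symm)
    rw [← IsLocalization.map_under (hV.primeIdealOf ⟨ξ, hξV⟩).asIdeal.primeCompl A (IsLocalRing.maximalIdeal A),
      ← IsLocalization.map_under (hV.primeIdealOf ⟨ξ, hξV⟩).asIdeal.primeCompl A Q,
      IsLocalization.AtPrime.under_maximalIdeal A (hV.primeIdealOf ⟨ξ, hξV⟩).asIdeal]
    exact Ideal.map_mono (congrArg PrimeSpectrum.asIdeal hz).ge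
  rw [← IsLocalRing.maximalIdeal_height_eq_ringKrullDim]
  refine le_antisymm (WithBot.coe_le_coe.2
    (Ideal.height_le_one_of_isPrincipal_of_mem_minimalPrimes _ _ hmin)) (WithBot.coe_le_coe.2 ?_)
  rw [← Ideal.height_span_singleton_eq_one_of_mem_nonZeroDivisors
    (mem_nonZeroDivisors_of_ne_zero (stalkHom_ne_zero hϖ.ne_zero ξ)) hu]
  exact Ideal.height_mono ((Ideal.span_singleton_le_iff_mem _).2 hu)

theorem isEffCartierIdeal_ker_of_mem (hreg : Models.IsRegularScheme X.left) (Δ : ArSurf.VertComp R X)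
    (hmax : Set.range Δ.ι.base ∈ Models.fibreComponents R X) : BlowUp.IsEffCartierIdeal Δ.ι.ker := by
  let j := Δ.ι
  haveI : IsIso j.toImage := inferInstance
  haveI : Nonempty j.ker.subscheme := ⟨j.toImage (genericPoint Δ.curve.left)⟩
  haveI : IsIntegral j.ker.subscheme := isIntegral_of_isOpenImmersion (inv j.toImage)
  refine S1684.result X.left j.ker ?_ fun x _ => ufd_stalk hreg x
  have h : j.ker.subschemeι (genericPoint ↥j.ker.subscheme) = Models.genPtOf R X Δ := by
    have h1 : j.toImage (genericPoint Δ.curve.left) = genericPoint ↥j.ker.subscheme := by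
      obtain ⟨w, hw⟩ := j.toImage.homeomorph.surjective (genericPoint ↥j.ker.subscheme)
      exact (((genericPoint_specializes w).map j.toImage.continuous).antisymm
        (hw ▸ genericPoint_specializes (j.toImage (genericPoint Δ.curve.left)))).eq.trans hw
    rw [← h1, ← Scheme.Hom.comp_apply, Scheme.Hom.toImage_imageι]
    rfl
  rw [h]
  exact dim_stalk_genPt_of_mem hreg Δ hmax

end Groth.Agent.H28Vert
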