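import Groth.Agent.H28Vert.Genus

/-!
# The numerical type of a regular model
-/

set_option autoImplicit false
set_option linter.style.haveILetI false
set_option backward.isDefEq.respectTransparency.types false
universe u

open CategoryTheory CategoryTheory.Limits AlgebraicGeometry Opposite TopologicalSpace

namespace Groth.Agent.H28Vert

open Groth.Agent.H28Int

variable {R : Type u} [CommRing R] [IsDomain R] [IsDiscreteValuationRing R]
  {X : Over (Spec (CommRingCat.of R))} [IsProper X.hom]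

/-- All cohomology of a component is a vector space over its field of constants. -/
theorem wdeg_dvd_finrank (Γ : ArSurf.VertComp R X) (G : Γ.curve.left.Modules) (i : ℕ) :
    Models.wdeg R X Γ ∣ Module.finrank (IsLocalRing.ResidueField R) (Coh.HH Γ.curve.left G i) := by
  let k := IsLocalRing.ResidueField R
  let C := Γ.curve.left
  haveI := isProper_curve Γ
  letI : Field Γ(C, ⊤) := (isField_of_universallyClosed k Γ.curve.hom).toField
  letI : Algebra k Γ(C, ⊤) := (Coh.toGlobal (C ↘ Spec (CommRingCat.of k))).toAlgebra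
  haveI : IsScalarTower k Γ(C, ⊤) (Coh.HH C G i) := IsScalarTower.of_algebraMap_smul fun _ _ => rfl
  let e : Coh.HH C (Coh.structureModule C) 0 ≃+ Γ(C, ⊤) := H10Coh.HH0Equiv (Coh.structureModule C)
  have hlin : ∀ (r : k) x, e (r • x) = r • e x := fun r x =>
    (H10Coh.HH0Equiv_smul (Coh.structureModule C) (Coh.toGlobal (C ↘ Spec (CommRingCat.of k)) r) x).trans rfl
  have h1 : Models.wdeg R X Γ = Module.finrank k Γ(C, ⊤) :=
    LinearEquiv.finrank_eq ({ e with map_smul' := hlin } : Coh.HH C (Coh.structureModule C) 0 ≃ₗ[k] Γ(C, ⊤))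
  rw [h1, ← Module.finrank_mul_finrank k Γ(C, ⊤) (Coh.HH C G i)]
  exact dvd_mul_right _ _

theorem wdeg_dvd_inter (Γ : ArSurf.VertComp R X) (L : X.left.Modules) :
    (Models.wdeg R X Γ : ℤ) ∣ ArSurf.inter R X L Γ := by
  have h : ∀ (M : Γ.curve.left.Modules),
      (Models.wdeg R X Γ : ℤ) ∣ FGA.eulerCharLE (IsLocalRing.ResidueField R) Γ.curve.left M 1 := fun M =>
    Finset.dvd_sum fun i _ => Dvd.dvd.mul_left (Int.natCast_dvd_natCast.2 (wdeg_dvd_finrank Γ M i)) _
  exact dvd_sub (h _) (h _)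

theorem wdeg_pos (Γ : ArSurf.VertComp R X) : 0 < Models.wdeg R X Γ := by
  let k := IsLocalRing.ResidueField R
  haveI := isProper_curve Γ
  haveI : IsProper (Γ.curve.left ↘ Spec (CommRingCat.of k)) := inferInstanceAs (IsProper Γ.curve.hom)
  haveI := isNoetherian k (X := Γ.curve.left)
  haveI : Module.Finite k (Coh.HH Γ.curve.left (Coh.structureModule Γ.curve.left) 0) :=
    H10Coh.finite_HH_proper k _ _ (H10Coh.isCoh_structureModule' _) 0
  haveI : Nontrivial (Coh.HH Γ.curve.left (Coh.structureModule Γ.curve.left) 0) := by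
    haveI : Nonempty (⊤ : Γ.curve.left.Opens) := ⟨⟨genericPoint Γ.curve.left, trivial⟩⟩
    haveI := Γ.curve.left.component_nontrivial ⊤
    haveI : Nontrivial Γ(Coh.structureModule Γ.curve.left, ⊤) := inferInstanceAs (Nontrivial Γ(Γ.curve.left, ⊤))
    exact (H10Coh.HH0Equiv (Coh.structureModule Γ.curve.left)).toEquiv.nontrivial
  exact Module.finrank_pos

/-- A regular proper model gives a numerical type of the same genus. -/
theorem exists_numericalType' {X C : Scheme.{u}} (f : C ⟶ Spec (CommRingCat.of (FractionRing R)))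
    (p : X ⟶ Spec (CommRingCat.of R)) (hC : IsProper f ∧ IsIntegral C ∧ topologicalKrullDim C = 1) (hH0 : IsIso f.appTop)
    (hX : Models.IsRegularProperModel R X p C f) {n : ℕ} (Γ : Fin n → ArSurf.VertComp R (Over.mk p))
    (hΓ : Models.IsComponentList R (Over.mk p) Γ) (L : Fin n → X.Modules)
    (hL : ∀ i, ClSub.IsInverseOf (L i) (ClSub.idealMod (Γ i).ι.ker)) :
    ∃ T : Models.NumericalType n,
      (∀ i, T.m i = (Models.mult R (Over.mk p) (Γ i) : ℤ)) ∧ (∀ i j, T.a i j = ArSurf.inter R (Over.mk p) (L j) (Γ i)) ∧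
      (∀ i, T.w i = (Models.wdeg R (Over.mk p) (Γ i) : ℤ)) ∧
      (∀ i, T.w i * T.g i = (Models.h1 R (Over.mk p) (Γ i) : ℤ)) ∧
      T.genus = (Models.curveGenus (FractionRing R) C f : ℤ) := by
  have hgen := genus_formula' f p hC hH0 hX Γ hΓ L hL
  obtain ⟨⟨hfl, hlft, hqc, g, hg⟩, hp, hreg⟩ := hX
  haveI : LocallyOfFiniteType p := hlft
  haveI : IsProper p := hp
  haveI : Flat p := hfl
  haveI : IsProper (Over.mk p).hom := hp
  haveI : Flat (Over.mk p).hom := hfl
  have hconn := isPreconnected_specialFibreSet p f g hg hH0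
  have hn : 0 < n := by
    rcases Nat.eq_zero_or_pos n with rfl | h
    · simp only [Finset.univ_eq_empty, Finset.sum_empty, add_zero] at hgen
      exfalso
      obtain ⟨-, hint, -⟩ := hC
      obtain ⟨c⟩ : Nonempty ↥(pullback (Over.mk p).hom (closedPt R)) := by
        obtain ⟨z⟩ : Nonempty C := inferInstance
        obtain ⟨x, hx⟩ : IsLocalRing.closedPoint R ∈ Set.range p :=
          (IsLocalRing.specializes_closedPoint (p (g z))).mem_closed p.isClosedMap.isClosed_range ⟨g z, rfl⟩
        obtain ⟨y, -⟩ : x ∈ Set.range (pullback.fst (Over.mk p).hom (closedPt R)) := by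
          rw [Scheme.Pullback.range_fst]
          exact ⟨IsLocalRing.closedPoint _, (IsLocalRing.PrimeSpectrum.comap_residue R _).trans hx.symm⟩
        exact ⟨y⟩
      obtain ⟨l, -⟩ := exists_mem_range_toFibre hΓ c
      exact l.elim0
    · exact h
  have hdvd : ∀ i, (Models.wdeg R (Over.mk p) (Γ i) : ℤ) ∣ (Models.h1 R (Over.mk p) (Γ i) : ℤ) := fun i =>
    Int.natCast_dvd_natCast.2 (wdeg_dvd_finrank (Γ i) _ 1)
  let T : Models.NumericalType n :=
    { m := fun i => (Models.mult R (Over.mk p) (Γ i) : ℤ)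
      a := fun i j => ArSurf.inter R (Over.mk p) (L j) (Γ i)
      w := fun i => (Models.wdeg R (Over.mk p) (Γ i) : ℤ)
      g := fun i => (Models.h1 R (Over.mk p) (Γ i) : ℤ) / (Models.wdeg R (Over.mk p) (Γ i) : ℤ)
      pos := hn
      m_pos := fun i => Int.natCast_pos.2 (mult_pos hΓ i)
      w_pos := fun i => Int.natCast_pos.2 (wdeg_pos (Γ i))
      g_nonneg := fun i => Int.ediv_nonneg (Int.natCast_nonneg _) (Int.natCast_nonneg _)
      symm := Matrix.IsSymm.ext fun i j => (inter_symm' hΓ hL i j).symm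
      offDiag_nonneg := fun i j hij => (inter_offDiag hΓ hL hij).1
      connected := fun I hI hI' => exists_inter_ne_zero hΓ hL hconn I hI hI'
      mulVec_m := by
        funext i
        simp only [Matrix.mulVec, dotProduct, Pi.zero_apply]
        exact sum_inter_mult hΓ hL i
      w_dvd := fun i j => wdeg_dvd_inter (Γ i) (L j) }
  have hwg : ∀ i, T.w i * T.g i = (Models.h1 R (Over.mk p) (Γ i) : ℤ) := fun i => Int.mul_ediv_cancel' (hdvd i)
  refine ⟨T, fun i => rfl, fun i j => rfl, fun i => rfl, hwg, ?_⟩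
  have h1 : ∑ i, T.m i * T.a i i = 2 * (1 + ∑ i, T.m i * T.w i * (T.g i - 1) - (Models.curveGenus (FractionRing R) C f : ℤ)) := by
    have h2 : ∑ i, (Models.mult R (Over.mk p) (Γ i) : ℤ) *
        (2 * ((Models.h1 R (Over.mk p) (Γ i) : ℤ) - (Models.wdeg R (Over.mk p) (Γ i) : ℤ)) -
          ArSurf.inter R (Over.mk p) (L i) (Γ i)) = 2 * ∑ i, T.m i * T.w i * (T.g i - 1) - ∑ i, T.m i * T.a i i := by
      rw [Finset.mul_sum, ← Finset.sum_sub_distrib]
      refine Finset.sum_congr rfl fun i _ => ?_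
      rw [← hwg i]
      show (T.m i) * (2 * (T.w i * T.g i - T.w i) - T.a i i) = _
      ring
    rw [h2] at hgen
    linarith [hgen]
  unfold Models.NumericalType.genus
  rw [h1, Int.mul_ediv_cancel_left _ two_ne_zero]
  ring

/-- The numerical type for smooth curves. -/
theorem exists_numericalType {X C : Scheme.{u}} (f : C ⟶ Spec (CommRingCat.of (FractionRing R)))
    (p : X ⟶ Spec (CommRingCat.of R)) (hC : Curve.IsSmoothProperCurve (FractionRing R) C f) (hH0 : IsIso f.appTop)
    (hX : Models.IsRegularProperModel R X p C f) {n : ℕ} (Γ : Fin n → ArSurf.VertComp R (Over.mk p))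
    (hΓ : Models.IsComponentList R (Over.mk p) Γ) (L : Fin n → X.Modules)
    (hL : ∀ i, ClSub.IsInverseOf (L i) (ClSub.idealMod (Γ i).ι.ker)) :
    ∃ T : Models.NumericalType n,
      (∀ i, T.m i = (Models.mult R (Over.mk p) (Γ i) : ℤ)) ∧ (∀ i j, T.a i j = ArSurf.inter R (Over.mk p) (L j) (Γ i)) ∧
      (∀ i, T.w i = (Models.wdeg R (Over.mk p) (Γ i) : ℤ)) ∧
      (∀ i, T.w i * T.g i = (Models.h1 R (Over.mk p) (Γ i) : ℤ)) ∧
      T.genus = (Models.curveGenus (FractionRing R) C f : ℤ) :=
  exists_numericalType' f p ⟨hC.1, hC.2.2.1, hC.2.2.2⟩ hH0 hX Γ hΓ L hL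

end Groth.Agent.H28Vert
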