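import Groth.Agent.H28Vert.Cartier
import Groth.Agent.H28Vert.Sub
import Groth.Agent.H28Int.Positive
import Groth.Agent.H17.Reduced

/-!
# Component lists of a connected closed fibre of a surface
-/

set_option autoImplicit false
set_option linter.style.haveILetI false
set_option backward.isDefEq.respectTransparency.types false
universe u

open CategoryTheory CategoryTheory.Limits AlgebraicGeometry Opposite TopologicalSpace IsLocalRing

namespace Groth.Agent.H28Vert

variable {R : Type u} [CommRing R] [IsDomain R] [IsDiscreteValuationRing R]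
  {X : Over (Spec (CommRingCat.of R))}

theorem range_fst_closedPt :
    Set.range (pullback.fst X.hom (closedPt R)) = Models.specialFibreSet R X := by
  rw [Scheme.Pullback.range_fst]
  ext x
  refine ⟨?_, fun hx => ⟨closedPoint _, (IsLocalRing.PrimeSpectrum.comap_residue R _).trans hx.symm⟩⟩
  rintro ⟨c, hc⟩
  exact hc.symm.trans (IsLocalRing.PrimeSpectrum.comap_residue R c)

theorem finite_fibreComponents [NoetherianSpace X.left] : (Models.fibreComponents R X).Finite := by
  classical
  let S := Models.specialFibreSet R X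
  have himg : ∀ Z ∈ Models.fibreComponents R X, (Subtype.val '' (Subtype.val ⁻¹' Z : Set S)) = Z := fun Z hZ => by
    rw [Subtype.image_preimage_coe, Set.inter_eq_right.2 hZ.1.2]
  have hinj : Set.InjOn (fun Z : Set X.left => (Subtype.val ⁻¹' Z : Set S)) (Models.fibreComponents R X) := by
    intro Z hZ Z' hZ' e
    exact (himg Z hZ).symm.trans ((congrArg (Subtype.val '' ·) e).trans (himg Z' hZ'))
  refine Set.Finite.of_finite_image ?_ hinj
  refine (TopologicalSpace.NoetherianSpace.finite_irreducibleComponents (α := S)).subset ?_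
  rintro _ ⟨Z, hZ, rfl⟩
  refine ⟨⟨?_, fun U V hU hV h1 h2 => ?_⟩, fun T hT hle a ha => ?_⟩
  · obtain ⟨a, ha⟩ := hZ.1.1.1
    exact ⟨⟨a, hZ.1.2 ha⟩, ha⟩
  · obtain ⟨U', hU', rfl⟩ := hU
    obtain ⟨V', hV', rfl⟩ := hV
    obtain ⟨⟨a, haS⟩, ha, hau⟩ := h1
    obtain ⟨⟨b, hbS⟩, hb, hbv⟩ := h2
    obtain ⟨c, hc, hcu, hcv⟩ := hZ.1.1.2 U' V' hU' hV' ⟨a, ha, hau⟩ ⟨b, hb, hbv⟩
    exact ⟨⟨c, hZ.1.2 hc⟩, hc, hcu, hcv⟩
  · exact hZ.2 ⟨hT.image _ continuous_subtype_val.continuousOn, by rintro _ ⟨b, -, rfl⟩; exact b.2⟩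
      (by rw [← himg Z hZ]; exact Set.image_mono hle) ⟨a, ha, rfl⟩

theorem isClosed_of_mem_fibreComponents {Z : Set X.left} (hZ : Z ∈ Models.fibreComponents R X) : IsClosed Z := by
  rw [← closure_subset_iff_isClosed]
  exact hZ.2 ⟨hZ.1.1.closure, closure_minimal hZ.1.2 (Models.isClosed_specialFibreSet R X)⟩ subset_closure

theorem hom_fromSpecStalk (x : X.left) :
    X.left.fromSpecStalk x ≫ X.hom = Spec.map (CommRingCat.ofHom (Models.stalkHom R X x)) := by
  refine ext_of_isAffine ?_
  ext s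
  obtain ⟨r, rfl⟩ := (ConcreteCategory.bijective_of_isIso (Scheme.ΓSpecIso (CommRingCat.of R)).inv).2 s
  refine Eq.trans ?_ (congr($(Scheme.ΓSpecIso_inv_naturality (CommRingCat.ofHom (Models.stalkHom R X x))) r))
  show (X.left.fromSpecStalk x ≫ X.hom).appTop _ = _
  rw [Scheme.Hom.comp_appTop, Scheme.fromSpecStalk_appTop]
  rfl

theorem exists_maximal_irreducible_subset {t : X.left} (ht : t ∈ Models.specialFibreSet R X) :
    ∃ W, W ∈ Models.fibreComponents R X ∧ t ∈ W := by
  let S := Models.specialFibreSet R X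
  obtain ⟨C, hC, hCle⟩ := exists_mem_irreducibleComponents_subset_of_isIrreducible ({⟨t, ht⟩} : Set S)
    isIrreducible_singleton
  refine ⟨Subtype.val '' C, ⟨⟨hC.1.image _ continuous_subtype_val.continuousOn, by rintro _ ⟨a, -, rfl⟩; exact a.2⟩, ?_⟩,
    ⟨_, hCle rfl, rfl⟩⟩
  rintro T ⟨hT, hTS⟩ hCT x hx
  have hirr : IsIrreducible (Subtype.val ⁻¹' T : Set S) := by
    refine ⟨⟨⟨x, hTS hx⟩, hx⟩, ?_⟩
    rintro _ _ ⟨u, hu, rfl⟩ ⟨v, hv, rfl⟩ ⟨a, ha, hau⟩ ⟨c, hc, hcv⟩
    obtain ⟨d, hd, hdu, hdv⟩ := hT.2 u v hu hv ⟨a, ha, hau⟩ ⟨c, hc, hcv⟩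
    exact ⟨⟨d, hTS hd⟩, hd, hdu, hdv⟩
  exact ⟨⟨x, hTS hx⟩, hC.2 hirr (fun a ha => hCT ⟨a, ha, rfl⟩) hx, rfl⟩

theorem one_le_dim_of_mem {Y : Type*} [TopologicalSpace Y] [T0Space Y] {Z : Set Y} (hZc : IsClosed Z) {ζ z : Y}
    (hζ : IsGenericPoint ζ Z) (hz : z ∈ Z) (hne : z ≠ ζ) : 1 ≤ topologicalKrullDim Z := by
  let z' : Z := ⟨z, hz⟩
  let a : IrreducibleCloseds Z := ⟨closure {z'}, isIrreducible_singleton.closure, isClosed_closure⟩
  haveI : IrreducibleSpace Z := Subtype.irreducibleSpace hζ.isIrreducible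
  let t : IrreducibleCloseds Z := ⟨Set.univ, IrreducibleSpace.isIrreducible_univ Z, isClosed_univ⟩
  refine Order.one_le_krullDim_iff.2 ⟨a, t, lt_of_le_of_ne (fun _ _ => trivial) fun h => ?_⟩
  have h1 : (⟨ζ, hζ.mem⟩ : Z) ∈ closure {z'} := (congrArg (fun s : IrreducibleCloseds Z => (s : Set Z)) h).ge trivial
  have h2 : z ⤳ ζ := ((specializes_iff_mem_closure.2 h1).map continuous_subtype_val)
  exact hne (h2.antisymm (hζ.specializes hz)).eq

theorem le_one_of_lt_two {a : WithBot ℕ∞} (h : a < ((2 : ℕ) : WithBot ℕ∞)) : a ≤ 1 := by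
  induction a using WithBot.recBotCoe with
  | bot => exact bot_le
  | coe a =>
    have h' : a < ((2 : ℕ) : ℕ∞) := WithBot.coe_lt_coe.1 h
    exact WithBot.coe_le_coe.2 ((ENat.lt_coe_add_one_iff (m := a) (n := 1)).1 h')

/-- A closed fibre reduced to one point forces dimension at most one. -/
theorem dim_le_one_of_fibre_singleton [IsProper X.hom] [IsLocallyNoetherian X.left] {x : X.left}
    (hx : Models.specialFibreSet R X = {x}) : topologicalKrullDim X.left ≤ ((1 : ℕ) : WithBot ℕ∞) := by
  obtain ⟨ϖ, hϖ⟩ := IsDiscreteValuationRing.exists_irreducible R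
  let A := X.left.presheaf.stalk x
  let b := X.left.fromSpecStalk x
  have hsurj : ∀ y : X.left, y ∈ Set.range b := by
    intro y
    rw [Scheme.range_fromSpecStalk]
    have hc : IsClosed (X.hom '' closure {y}) := X.hom.isClosedMap _ isClosed_closure
    have hcp : closedPoint R ∈ X.hom '' closure {y} :=
      (IsLocalRing.specializes_closedPoint (X.hom y)).mem_closed hc ⟨y, subset_closure rfl, rfl⟩
    obtain ⟨z, hz, hzc⟩ := hcp
    have hzx : z = x := hx.subset hzc
    exact specializes_iff_mem_closure.2 (hzx ▸ hz)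
  have hemb : Topology.IsEmbedding b := (X.left.fromSpecStalk x).isEmbedding
  have hdim : topologicalKrullDim X.left ≤ ringKrullDim A := by
    rw [← PrimeSpectrum.topologicalKrullDim_eq_ringKrullDim]
    exact ((hemb.toHomeomorph.trans ((Homeomorph.setCongr (Set.eq_univ_of_forall hsurj)).trans
        (Homeomorph.Set.univ _))).isHomeomorph.topologicalKrullDim_eq).ge
  refine hdim.trans ?_
  let a := Models.stalkHom R X x ϖ
  have hxs : x ∈ Models.specialFibreSet R X := hx.symm ▸ Set.mem_singleton x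
  have hu : ¬ IsUnit a := fun h => (notMem_specialFibreSet_iff hϖ x).2 h hxs
  have hmin : IsLocalRing.maximalIdeal A ∈ (Ideal.span {a}).minimalPrimes := by
    refine ⟨⟨inferInstance, (Ideal.span_singleton_le_iff_mem _).2 hu⟩, ?_⟩
    rintro Q ⟨hQ, hQa⟩ -
    let p : PrimeSpectrum A := ⟨Q, hQ⟩
    have hp : b p ∈ Models.specialFibreSet R X := by
      show X.hom (b p) = _
      rw [← Scheme.Hom.comp_apply, hom_fromSpecStalk]
      apply PrimeSpectrum.ext
      show Q.comap (Models.stalkHom R X x) = IsLocalRing.maximalIdeal R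
      refine ((IsLocalRing.maximalIdeal.isMaximal R).eq_of_le (Ideal.comap_ne_top _ hQ.ne_top) ?_).symm
      rw [hϖ.maximalIdeal_eq, Ideal.span_singleton_le_iff_mem]
      exact hQa (Ideal.mem_span_singleton_self _)
    have hpx : b p = b (closedPoint A) := (hx.subset hp).trans (Scheme.fromSpecStalk_closedPoint).symm
    exact (congrArg PrimeSpectrum.asIdeal (hemb.injective hpx)).ge
  rw [← IsLocalRing.maximalIdeal_height_eq_ringKrullDim]
  exact WithBot.coe_le_coe.2 (Ideal.height_le_one_of_isPrincipal_of_mem_minimalPrimes _ _ hmin)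

/-- A connected closed fibre of an integral surface, proper and flat over a DVR, has a component list. -/
theorem exists_isComponentList [IsProper X.hom] [Flat X.hom] [IsIntegral X.left]
    (hdim : topologicalKrullDim X.left = 2) (hconn : _root_.IsConnected (Models.specialFibreSet R X)) :
    ∃ (n : ℕ) (Γ : Fin n → ArSurf.VertComp R X), 0 < n ∧ Models.IsComponentList R X Γ := by
  classical
  haveI : IsLocallyNoetherian X.left := LocallyOfFiniteType.isLocallyNoetherian X.hom
  haveI : CompactSpace X.left := QuasiCompact.compactSpace_of_compactSpace X.hom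
  haveI : IsNoetherian X.left := ⟨⟩
  let S := Models.specialFibreSet R X
  let b := pullback.fst X.hom (closedPt R)
  let q := pullback.snd X.hom (closedPt R)
  obtain ⟨ϖ, hϖ⟩ := IsDiscreteValuationRing.exists_irreducible R
  have hη : genericPoint X.left ∉ S := by
    rw [notMem_specialFibreSet_iff hϖ]
    exact (Ne.isUnit (stalkHom_ne_zero hϖ.ne_zero _) : IsUnit (Models.stalkHom R X (genericPoint X.left) ϖ : X.left.functionField))
  have hfin := finite_fibreComponents (X := X)
  have hcomp : ∀ Z ∈ Models.fibreComponents R X, ∃ Δ : ArSurf.VertComp R X, Set.range Δ.ι.base = Z := by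
    intro Z hZ
    have hZc := isClosed_of_mem_fibreComponents hZ
    have hlt : topologicalKrullDim Z < ((2 : ℕ) : WithBot ℕ∞) := by
      refine H28Int.dim_lt_of_notMem (genericPoint_spec X.left).def ?_ hZc (fun x _ => trivial)
        (fun h => hη (hZ.1.2 h))
      exact Topology.IsInducing.subtypeVal.topologicalKrullDim_le.trans hdim.le
    obtain ⟨ζ, hζ⟩ : ∃ ζ, IsGenericPoint ζ Z := QuasiSober.sober hZ.1.1 hZc
    have hnpt : ∃ z ∈ Z, z ≠ ζ := by
      by_contra hne
      push Not at hne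
      have hZeq : Z = {ζ} := Set.Subset.antisymm hne (Set.singleton_subset_iff.2 hζ.mem)
      have hothers : IsClosed (⋃ W ∈ Models.fibreComponents R X \ {Z}, W) :=
        (hfin.subset Set.sdiff_subset).isClosed_biUnion fun W hW => isClosed_of_mem_fibreComponents hW.1
      have hS : S = {ζ} := by
        refine Set.Subset.antisymm (fun s hs => ?_) (Set.singleton_subset_iff.2 (hZ.1.2 hζ.mem))
        by_contra hsζ
        have hcover : S ⊆ Z ∪ ⋃ W ∈ Models.fibreComponents R X \ {Z}, W := by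
          intro t ht
          obtain ⟨y, rfl⟩ := (range_fst_closedPt (X := X)).ge ht
          obtain ⟨W, hWirr, hWmax⟩ := exists_maximal_irreducible_subset (R := R) (X := X) ht
          rcases eq_or_ne W Z with rfl | hne'
          · exact Or.inl hWmax
          · exact Or.inr (Set.mem_biUnion ⟨hWirr, hne'⟩ hWmax)
        obtain ⟨t, -, htZ, htO⟩ := isPreconnected_closed_iff.1 hconn.isPreconnected Z _ hZc hothers hcover
          ⟨ζ, hZ.1.2 hζ.mem, hζ.mem⟩ ⟨s, hs, (hcover hs).resolve_left (fun h => hsζ (hne s h))⟩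
        obtain ⟨W, hW, htW⟩ := Set.mem_iUnion₂.1 htO
        have h1 : Z ⊆ W := hZeq ▸ Set.singleton_subset_iff.2 (hne t htZ ▸ htW)
        exact hW.2 (Set.Subset.antisymm (hZ.2 hW.1.1 h1) h1)
      exact absurd (dim_le_one_of_fibre_singleton hS) (by rw [hdim]; decide)
    let Z' : Closeds ↥(pullback X.hom (closedPt R)) := ⟨b ⁻¹' Z, hZc.preimage b.continuous⟩
    let I := Scheme.IdealSheafData.vanishingIdeal Z'
    let j := I.subschemeι
    have hrj : Set.range (j ≫ b) = Z := by
      rw [Scheme.Hom.comp_base, TopCat.coe_comp, Set.range_comp, Scheme.IdealSheafData.range_subschemeι,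
        Scheme.IdealSheafData.coe_support_vanishingIdeal]
      refine Set.image_preimage_eq_of_subset ?_
      rw [range_fst_closedPt]
      exact hZ.1.2
    let e : I.subscheme ≃ₜ Z := ((j ≫ b).isClosedEmbedding.isEmbedding.toHomeomorph).trans (Homeomorph.setCongr hrj)
    haveI : IrreducibleSpace I.subscheme := by
      haveI : IrreducibleSpace Z := Subtype.irreducibleSpace hZ.1.1
      exact e.symm.isHomeomorph.isQuotientMap.surjective.irreducibleSpace e.symm.continuous
    haveI : IsReduced I.subscheme := H17.isReduced_vanishingIdeal_subscheme _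
    haveI : IsIntegral I.subscheme := isIntegral_of_irreducibleSpace_of_isReduced _
    refine ⟨{
      curve := Over.mk (j ≫ q)
      ι := j ≫ b
      isClosedImmersion := inferInstanceAs (IsClosedImmersion (j ≫ b))
      isIntegral := ‹IsIntegral I.subscheme›
      dim_eq := ?_
      w := by
        show (j ≫ b) ≫ X.hom = (j ≫ q) ≫ closedPt R
        rw [Category.assoc, pullback.condition, Category.assoc] }, hrj⟩
    show topologicalKrullDim I.subscheme = 1
    rw [e.isHomeomorph.topologicalKrullDim_eq]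
    obtain ⟨z, hzZ, hzne⟩ := hnpt
    exact le_antisymm (le_one_of_lt_two hlt) (one_le_dim_of_mem hZc hζ hzZ hzne)
  choose Δ hΔ using hcomp
  haveI := hfin.fintype
  let e := (Fintype.equivFin (Models.fibreComponents R X)).symm
  refine ⟨Fintype.card (Models.fibreComponents R X), fun i => Δ (e i).1 (e i).2, Fintype.card_pos_iff.2 ?_, ?_, ?_⟩
  · obtain ⟨s, hs⟩ := hconn.1
    obtain ⟨W, hW, -⟩ := exists_maximal_irreducible_subset (R := R) (X := X) hs
    exact ⟨⟨W, hW⟩⟩
  · intro i i' h
    refine e.injective (Subtype.ext ?_)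
    exact (hΔ _ (e i).2).symm.trans (h.trans (hΔ _ (e i').2))
  · ext Z
    refine ⟨?_, fun hZ => ⟨e.symm ⟨Z, hZ⟩, ?_⟩⟩
    · rintro ⟨i, rfl⟩
      show Set.range (Δ _ (e i).2).ι.base ∈ _
      rw [hΔ]; exact (e i).2
    · show Set.range (Δ (e (e.symm ⟨Z, hZ⟩)).1 (e (e.symm ⟨Z, hZ⟩)).2).ι.base = Z
      rw [hΔ, Equiv.apply_symm_apply]

end Groth.Agent.H28Vert
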