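import Groth.Agent.H28Vert.QuotTensor
import Groth.Agent.H10Coh.Pn.Results
import Groth.Prelude.Def_ModelsG

/-!
# Intersection numbers as lengths of scheme theoretic intersections
-/

set_option autoImplicit false
set_option linter.style.haveILetI false
set_option backward.isDefEq.respectTransparency.types false
universe u

open CategoryTheory CategoryTheory.Limits AlgebraicGeometry Opposite TopologicalSpace

namespace Groth.Agent.H28Vert

open Groth.Agent.H28Int

variable {R : Type u} [CommRing R] [IsDomain R] [IsDiscreteValuationRing R]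
  {X : Over (Spec (CommRingCat.of R))}

/-- The intersection with a curve of a closed subscheme, as a subscheme of the curve. -/
noncomputable def toCurve (Γ : ArSurf.VertComp R X) (D : X.left.IdealSheafData) :
    (D ⊔ Γ.ι.ker).subscheme ⟶ Γ.curve.left :=
  IsClosedImmersion.lift Γ.ι (D ⊔ Γ.ι.ker).subschemeι
    (by rw [Scheme.IdealSheafData.ker_subschemeι]; exact le_sup_right)

theorem toCurve_ι (Γ : ArSurf.VertComp R X) (D : X.left.IdealSheafData) :
    toCurve Γ D ≫ Γ.ι = (D ⊔ Γ.ι.ker).subschemeι :=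
  IsClosedImmersion.lift_fac _ _ _

instance (Γ : ArSurf.VertComp R X) (D : X.left.IdealSheafData) : IsClosedImmersion (toCurve Γ D) := by
  haveI : IsClosedImmersion (toCurve Γ D ≫ Γ.ι) := by rw [toCurve_ι]; infer_instance
  exact IsClosedImmersion.of_comp (toCurve Γ D) Γ.ι

/-- The restriction to a curve of the quotient by an ideal. -/
theorem nonempty_pullback_quotMod (Γ : ArSurf.VertComp R X) (D : X.left.IdealSheafData) :
    Nonempty ((Scheme.Modules.pullback Γ.ι).obj (ClSub.quotMod D) ≅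
      (Coh.push (toCurve Γ D)).obj (Coh.structureModule (D ⊔ Γ.ι.ker).subscheme)) := by
  obtain ⟨e⟩ := nonempty_quotTensorIso D Γ.ι.ker
  let F := Scheme.Modules.pullback Γ.ι
  let G := (Coh.push (toCurve Γ D)).obj (Coh.structureModule (D ⊔ Γ.ι.ker).subscheme)
  haveI := H16Derived.ProjFormula.isIso_counit_of_isClosedImmersion Γ.ι G
  haveI := H16Derived.ProjFormula.isIso_counit_of_isClosedImmersion Γ.ι (Coh.structureModule Γ.curve.left)
  let e₁ : F.obj (ClSub.quotMod Γ.ι.ker) ≅ Coh.structureModule Γ.curve.left :=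
    F.mapIso (quotModKerIso Γ.ι) ≪≫
      asIso ((Scheme.Modules.pullbackPushforwardAdjunction Γ.ι).counit.app _)
  let e₂ : F.obj (ClSub.quotMod (D ⊔ Γ.ι.ker)) ≅ G :=
    F.mapIso (eqToIso (by rw [ClSub.quotMod, ← toCurve_ι]) ≪≫
      ((Scheme.Modules.pushforwardComp (toCurve Γ D) Γ.ι).app _).symm) ≪≫
      asIso ((Scheme.Modules.pullbackPushforwardAdjunction Γ.ι).counit.app G)
  exact ⟨(H10Coh.Tw.rightUnitIso (F.obj (ClSub.quotMod D))).symm ≪≫ PicGrp.tensorModIso (Iso.refl _) e₁.symm ≪≫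
    ((H16Derived.KFlat.Stalk.pullTensorLIso Γ.ι (ClSub.quotMod Γ.ι.ker)).app (ClSub.quotMod D)).symm ≪≫
    F.mapIso e ≪≫ e₂⟩

/-- The intersection number with a divisor is the length of the scheme theoretic intersection. -/
theorem inter_eq_lengthH [IsProper X.hom] (Γ : ArSurf.VertComp R X) (I : X.left.IdealSheafData)
    (hΓ : Γ.ι.base (genericPoint ↥Γ.curve.left) ∉ (I.support : Set ↥X.left))
    {L : X.left.Modules} (hL : ClSub.IsInverseOf L (ClSub.idealMod I)) :
    ArSurf.inter R X L Γ = (Models.lengthH R X (ClSub.quotMod (I ⊔ Γ.ι.ker)) 0 : ℤ) := by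
  let k := IsLocalRing.ResidueField R
  haveI := isProper_curve Γ
  haveI : IsProper (Γ.curve.left ↘ Spec (CommRingCat.of k)) := inferInstanceAs (IsProper Γ.curve.hom)
  haveI := isNoetherian k (X := Γ.curve.left)
  obtain ⟨e⟩ := hL
  have hLi : PicF.IsInvertible L := H17.InvertibleTensor.isInvertible_of_tensor_iso L _ e
  have hIi : PicF.IsInvertible (ClSub.idealMod I) :=
    H17.InvertibleTensor.isInvertible_of_tensor_iso _ L (H10Coh.Tw.commIso _ _ ≪≫ e)
  let F := Scheme.Modules.pullback Γ.ι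
  let u := H16Derived.KFlat.Stalk.structurePullbackIso Γ.ι
  let μ : F.obj (ClSub.idealMod I) ⟶ Coh.structureModule Γ.curve.left := F.map (ClSub.idealModι I) ≫ u.hom
  haveI : F.IsLeftAdjoint := (Scheme.Modules.pullbackPushforwardAdjunction Γ.ι).isLeftAdjoint
  obtain ⟨eQ⟩ := nonempty_pullback_quotMod Γ I
  let j := toCurve Γ I
  let Z := (I ⊔ Γ.ι.ker).subscheme
  let eC : cokernel μ ≅ (Coh.push j).obj (Coh.structureModule Z) :=
    cokernelCompIsIso (F.map (ClSub.idealModι I)) u.hom ≪≫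
      (PreservesCokernel.iso F (ClSub.idealModι I)).symm ≪≫ F.mapIso (cokernelIdealModιIso I) ≪≫ eQ
  have hiso : IsIso ((DerSch.stalkFunctor Γ.curve.left (genericPoint Γ.curve.left)).map μ) := by
    haveI := H25Euler.isIso_stalk_idealModι I hΓ
    have h2 : IsIso ((F ⋙ DerSch.stalkFunctor Γ.curve.left (genericPoint Γ.curve.left) ⋙
        forget₂ (ModuleCat.{u} _) AddCommGrpCat.{u}).map (ClSub.idealModι I)) := by
      rw [← NatIso.isIso_map_iff (H16Derived.KFlat.Stalk.pullStalkNatIso Γ.ι (genericPoint Γ.curve.left)) (ClSub.idealModι I)]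
      rw [Functor.comp_map]
      infer_instance
    have h1 : IsIso ((DerSch.stalkFunctor Γ.curve.left (genericPoint Γ.curve.left)).map (F.map (ClSub.idealModι I))) :=
      @isIso_of_reflects_iso _ _ _ _ _ _ _ (forget₂ (ModuleCat.{u} _) AddCommGrpCat.{u}) h2 _
    rw [Functor.map_comp]
    haveI := h1
    infer_instance
  have hn := H25Euler.notMem_support_kernel_cokernel μ hiso
  obtain ⟨-, -, hdeg⟩ := curveDeg_nonneg k Γ.dim_eq
    (H11Ample.isInvertible_pullback Γ.ι hLi) (H11Ample.isInvertible_pullback Γ.ι hIi)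
    (((H16Derived.KFlat.Stalk.pullTensorLIso Γ.ι (ClSub.idealMod I)).app L).symm ≪≫ F.mapIso e ≪≫ u) μ hn.1 hn.2
  letI : Z.Over (Spec (CommRingCat.of k)) := ⟨j ≫ Γ.curve.hom⟩
  haveI : IsProper (Z ↘ Spec (CommRingCat.of k)) := inferInstanceAs (IsProper (j ≫ Γ.curve.hom))
  haveI := isNoetherian k (X := Z)
  have hdZ : topologicalKrullDim Z ≤ ((0 : ℕ) : WithBot ℕ∞) := by
    have hξ : genericPoint Γ.curve.left ∉ Set.range j := by
      rintro ⟨z, hz⟩
      refine hΓ ?_
      rw [show Γ.ι.base (genericPoint Γ.curve.left) = (j ≫ Γ.ι) z by rw [Scheme.Hom.comp_apply, hz],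
        show j ≫ Γ.ι = _ from toCurve_ι Γ I]
      have hmem := (I ⊔ Γ.ι.ker).range_subschemeι.le ⟨z, rfl⟩
      exact Scheme.IdealSheafData.support_antitone (le_sup_left : I ≤ I ⊔ Γ.ι.ker) hmem
    have hlt : topologicalKrullDim (Set.range j) < ((1 : ℕ) : WithBot ℕ∞) :=
      dim_lt_of_notMem (C := Set.univ) (genericPoint_spec Γ.curve.left)
        (Topology.IsInducing.subtypeVal.topologicalKrullDim_le.trans Γ.dim_eq.le)
        j.isClosedEmbedding.isClosed_range (fun _ _ => trivial) hξ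
    rw [← (IsHomeomorph.topologicalKrullDim_eq _ j.isClosedEmbedding.isEmbedding.toHomeomorph.isHomeomorph)] at hlt
    rcases hdim : topologicalKrullDim Z with _ | n
    · exact bot_le
    · rw [hdim] at hlt
      have : n < ((0 + 1 : ℕ) : ℕ∞) := WithBot.coe_lt_coe.1 hlt
      exact WithBot.coe_le_coe.2 (ENat.lt_natCast_add_one_iff.1 (by exact_mod_cast this))
  have hO : Coh.IsCoh (Coh.structureModule Z) := H10Coh.isCoh_structureModule' Z
  haveI : (Coh.structureModule Z).IsQuasicoherent := hO.1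
  have hfin : Curv2.euler k Z (Coh.structureModule Z) =
      (Module.finrank k (Coh.HH Z (Coh.structureModule Z) 0) : ℤ) := by
    rw [← eulerCharLE_eq k hdZ hO.1, FGA.eulerCharLE]
    simp
  show ArSurf.curveDeg k Γ.curve.left (F.obj L) = _
  rw [hdeg, H25Euler.euler_congr eC, Push.euler_push k j rfl _, hfin]
  congr 1
  haveI : Module.Finite k (Coh.HH Z (Coh.structureModule Z) 0) := H10Coh.finite_HH_proper k Z _ hO 0
  letI : Algebra R k := (IsLocalRing.residue R).toAlgebra
  letI : Module R (Coh.HH Z (Coh.structureModule Z) 0) := Module.compHom _ (IsLocalRing.residue R)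
  haveI : IsScalarTower R k (Coh.HH Z (Coh.structureModule Z) 0) := IsScalarTower.of_algebraMap_smul fun _ _ => rfl
  let s := (I ⊔ Γ.ι.ker).subschemeι
  let eH : Coh.HH X.left (ClSub.quotMod (I ⊔ Γ.ι.ker)) 0 ≃+ Coh.HH Z (Coh.structureModule Z) 0 :=
    (H10Coh.HH0Equiv _).trans (H10Coh.HH0Equiv (Coh.structureModule Z)).symm
  have hlin : ∀ (r : R) x, eH (r • x) = r • eH x := by
    intro r x
    refine (H10Coh.HH0Equiv (Coh.structureModule Z)).injective ?_
    have h0 : (Coh.toGlobal (Z ↘ Spec (CommRingCat.of k)) (IsLocalRing.residue R r) : Γ(Z, ⊤)) =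
        s.appTop (Coh.toGlobal X.hom r : Γ(X.left, ⊤)) := by
      show _ = Coh.toGlobal (s ≫ X.hom) r
      rw [show s ≫ X.hom = (j ≫ Γ.curve.hom) ≫ closedPt R by
        rw [Category.assoc, ← Γ.w, ← Category.assoc, show j ≫ Γ.ι = s from toCurve_ι Γ I]]
      show _ = ((j ≫ Γ.curve.hom) ≫ closedPt R).appTop _
      rw [Scheme.Hom.comp_appTop]
      exact congrArg ((j ≫ Γ.curve.hom).appTop) ((congr($(Scheme.ΓSpecIso_inv_naturality
        (CommRingCat.ofHom (IsLocalRing.residue R))) r)))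
    simp only [eH, AddEquiv.trans_apply]
    refine (AddEquiv.apply_symm_apply (H10Coh.HH0Equiv (Coh.structureModule Z)) _).trans ?_
    refine (H10Coh.HH0Equiv_smul (ClSub.quotMod (I ⊔ Γ.ι.ker)) (Coh.toGlobal X.hom r) x).trans ?_
    refine Eq.trans ?_ (H10Coh.HH0Equiv_smul (Coh.structureModule Z)
      (Coh.toGlobal (Z ↘ Spec (CommRingCat.of k)) (IsLocalRing.residue R r)) _).symm
    refine Eq.trans ?_ (congrArg (fun w : Γ(Coh.structureModule Z, ⊤) =>
      (show Γ(Z, ⊤) from Coh.toGlobal (Z ↘ Spec (CommRingCat.of k)) (IsLocalRing.residue R r)) • w)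
      (AddEquiv.apply_symm_apply (H10Coh.HH0Equiv (Coh.structureModule Z)) _)).symm
    rw [h0]
    rfl
  let eL : Coh.HH X.left (ClSub.quotMod (I ⊔ Γ.ι.ker)) 0 ≃ₗ[R] Coh.HH Z (Coh.structureModule Z) 0 :=
    { eH with map_smul' := hlin }
  rw [Models.lengthH, eL.length_eq,
    Module.length_eq_of_surjective (R := k) (S := R) IsLocalRing.residue_surjective,
    Module.length_eq_finrank]
  rfl

end Groth.Agent.H28Vert
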