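import Groth.Agent.H28Vert.IdealProd
import Groth.Agent.H28Vert.ClosedFibre
import Groth.Agent.H28Vert.Length
import Groth.Agent.H28Vert.Cartier
import Groth.Agent.H8Props.PushClosedBasic
import Groth.Agent.H8Props.FieldDimScheme

/-!
# The filtration of a vertical divisor by its components
-/

set_option autoImplicit false
set_option linter.style.haveILetI false
set_option backward.isDefEq.respectTransparency.types false
universe u

open CategoryTheory CategoryTheory.Limits AlgebraicGeometry Opposite TopologicalSpace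

namespace Groth.Agent.H28Vert

open Groth.Agent.H28Int

section Sequence

variable {X C : Scheme.{u}}

/-- The quotient map `O/(A·I_C) → O/A` and its kernel `I_A|_C`. -/
theorem exists_quot (ι : C ⟶ X) [IsClosedImmersion ι] (hB : BlowUp.IsEffCartierIdeal ι.ker)
    (A : X.IdealSheafData) (hA : BlowUp.IsEffCartierIdeal A) :
    ∃ q : ClSub.quotMod (A * ι.ker) ⟶ ClSub.quotMod A,
      ClSub.toSubscheme (A * ι.ker) ≫ q = ClSub.toSubscheme A ∧ Epi q ∧
      Nonempty (kernel q ≅ (Coh.push ι).obj ((Scheme.Modules.pullback ι).obj (ClSub.idealMod A))) := by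
  let B := ι.ker
  let J := ClSub.idealMod A
  have hJ : PicF.IsInvertible J := H29Blow.isInvertible_of_isEffCartierIdeal A hA
  have hJq : Coh.IsQCoh J := (H11Ample.isCoh_of_isInvertible hJ).1
  let F := Scheme.Modules.pullback ι
  let P := Coh.push ι
  let η : J ⟶ P.obj (F.obj J) := (Scheme.Modules.pullbackPushforwardAdjunction ι).unit.app J
  let π' := ClSub.toSubscheme (A * B)
  let π := ClSub.toSubscheme A
  haveI := H10Coh.epi_toSubscheme (A * B)
  haveI := H10Coh.epi_toSubscheme A
  have hle : A * B ≤ A := fun U => by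
    rw [Scheme.IdealSheafData.ideal_mul, Pi.mul_apply]
    exact Ideal.mul_le_left (I := A.ideal U) (J := B.ideal U) |>.trans le_rfl
  let hπ' := (H10Coh.shortExact_kernel π').gIsCokernel
  let q : ClSub.quotMod (A * B) ⟶ ClSub.quotMod A :=
    hπ'.desc (CokernelCofork.ofπ π (le_of_ideal hle))
  have hq : π' ≫ q = π := hπ'.fac _ WalkingParallelPair.one
  haveI : Epi q := by
    haveI : Epi (π' ≫ q) := hq.symm ▸ inferInstanceAs (Epi π)
    exact epi_of_epi π' q
  let γ : J ⟶ ClSub.quotMod (A * B) := ClSub.idealModι A ≫ π'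
  have hγq : γ ≫ q = 0 := by
    rw [Category.assoc, hq]
    exact kernel.condition _
  have hex : (ShortComplex.mk γ q hγq).Exact := by
    refine H11Tilde.exact_of_locally _ fun W z hz x hx => ?_
    obtain ⟨U, hU, hxU, hUW⟩ := exists_isAffineOpen_mem_and_subset hx
    refine ⟨U, hUW, hxU, ?_⟩
    obtain ⟨c, hc⟩ := (A * B).subschemeι_app_surjective ⟨U, hU⟩
      ((ClSub.quotMod (A * B)).presheaf.map (homOfLE hUW).op z)
    have hc0 : π.app U c = 0 := by
      refine (congr($(congrArg (fun f => Scheme.Modules.Hom.app f U) hq) c)).symm.trans ?_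
      show q.app U (π'.app U c) = 0
      rw [show π'.app U c = (ClSub.quotMod (A * B)).presheaf.map (homOfLE hUW).op z from hc]
      exact (H11Tilde.app_map_apply q hUW z).trans ((congrArg _ hz).trans (map_zero _))
    obtain ⟨m, hm⟩ := (H29Blow.mem_ideal_iff_exists_idealSect A hU c).1
      ((H17.IdealPair.app_eq_zero_iff A hU c).1 hc0)
    refine ⟨m, ?_⟩
    show π'.app U (OmegaSh.idealSect A U m) = _
    rw [hm]
    exact hc
  haveI : Epi η := by
    refine H11Tilde.epi_of_locally_surjective η fun W t x hx => ?_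
    obtain ⟨U, hU, hxU, hUW⟩ := exists_isAffineOpen_mem_and_subset hx
    obtain ⟨z, hz⟩ := H28Pinch.exists_pullSect_eq ι J hJq hU ((P.obj (F.obj J)).presheaf.map (homOfLE hUW).op t)
    exact ⟨U, hUW, hxU, z, hz⟩
  let θ : J ⟶ kernel q := kernel.lift q γ hγq
  haveI : Epi θ := (ShortComplex.mk γ q hγq).exact_iff_epi_kernel_lift.1 hex
  have hloc : ∀ (U : X.Opens) (hU : IsAffineOpen U) (a : Γ(J, U)) (b : Γ(ClSub.idealMod B, U)),
      OmegaSh.idealSect A U a ∈ nonZeroDivisors Γ(X, U) →
      A.ideal ⟨U, hU⟩ = Ideal.span {OmegaSh.idealSect A U a} →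
      B.ideal ⟨U, hU⟩ = Ideal.span {OmegaSh.idealSect B U b} →
      ∀ z : Γ(J, U), η.app U z = 0 ↔ γ.app U z = 0 := by
    intro U hU a b ha hAa hBb z
    have hgen := isGen_idealSect hA hU hAa
    obtain ⟨r, hr⟩ := (hgen.bijective (le_refl U)).2 z
    have hr' : r • a = z := Eq.trans (congrArg (r • ·) (H10Coh.mres_self J le_rfl a).symm) hr
    subst hr'
    have h1 : η.app U (r • a) = 0 ↔ ι.app U r = 0 := by
      show OmegaSh.pullSect ι J U (r • a) = 0 ↔ _
      rw [OmegaSh.pullSect_smul]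
      refine ⟨fun h => ((hgen.pullSect ι).bijective (W := ι ⁻¹ᵁ U) le_rfl).1 ?_, fun h => by rw [h, zero_smul]⟩
      show _ • _ = (0 : Γ(C, ι ⁻¹ᵁ U)) • _
      rw [zero_smul, H10Coh.mres_self _ le_rfl]
      exact h
    have h2 : γ.app U (r • a) = 0 ↔ r * OmegaSh.idealSect A U a ∈ (A * B).ideal ⟨U, hU⟩ := by
      rw [← H29Blow.idealSect_smul]
      exact H17.IdealPair.app_eq_zero_iff (A * B) hU _
    have h3 : ι.app U r = 0 ↔ r ∈ B.ideal ⟨U, hU⟩ := by
      rw [Scheme.Hom.ker_apply, RingHom.mem_ker]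
    rw [h1, h2, h3, Scheme.IdealSheafData.ideal_mul, Pi.mul_apply, hAa, hBb,
      Ideal.span_singleton_mul_span_singleton, Ideal.mem_span_singleton', Ideal.mem_span_singleton']
    constructor
    · rintro ⟨t, ht⟩
      exact ⟨t, by rw [← ht]; ring⟩
    · rintro ⟨t, ht⟩
      refine ⟨t, (mul_cancel_right_mem_nonZeroDivisors ha).1 ?_⟩
      rw [← ht]; ring
  have hkη : kernel.ι η ≫ θ = 0 := by
    rw [← cancel_mono (kernel.ι q), Category.assoc, kernel.lift_ι, zero_comp]
    refine Scheme.Modules.hom_ext _ _ fun W => ?_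
    ext t
    refine H11Tilde.eq_of_locally _ _ fun x hx => ?_
    obtain ⟨U, hU, a, b, hxU, hUW, ha, -, hAa, hBb⟩ := exists_common_gen hA hB hx
    refine ⟨U, hUW, hxU, ?_⟩
    rw [← H11Tilde.app_map_apply, ← H11Tilde.app_map_apply]
    refine (hloc U hU a b ha hAa hBb _).1 ?_
    show (kernel.ι η ≫ η).app U _ = 0
    rw [kernel.condition]
    rfl
  have hkθ : kernel.ι θ ≫ η = 0 := by
    refine Scheme.Modules.hom_ext _ _ fun W => ?_
    ext t
    refine H11Tilde.eq_of_locally _ _ fun x hx => ?_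
    obtain ⟨U, hU, a, b, hxU, hUW, ha, -, hAa, hBb⟩ := exists_common_gen hA hB hx
    refine ⟨U, hUW, hxU, ?_⟩
    rw [← H11Tilde.app_map_apply, ← H11Tilde.app_map_apply]
    refine (hloc U hU a b ha hAa hBb _).2 ?_
    show (kernel.ι θ ≫ γ).app U _ = 0
    rw [show kernel.ι θ ≫ γ = 0 by
      rw [← kernel.lift_ι q γ hγq, ← Category.assoc, kernel.condition, zero_comp]]
    rfl
  let u : P.obj (F.obj J) ⟶ kernel q := Abelian.epiDesc η θ hkη
  let v : kernel q ⟶ P.obj (F.obj J) := Abelian.epiDesc θ η hkθ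
  have hu : η ≫ u = θ := Abelian.comp_epiDesc η θ hkη
  have hv : θ ≫ v = η := Abelian.comp_epiDesc θ η hkθ
  let e : kernel q ≅ P.obj (F.obj J) :=
    { hom := v
      inv := u
      hom_inv_id := by rw [← cancel_epi θ, reassoc_of% hv, hu, Category.comp_id]
      inv_hom_id := by rw [← cancel_epi η, reassoc_of% hu, hv, Category.comp_id] }
  exact ⟨q, hq, inferInstance, ⟨e⟩⟩

/-- The sequence `0 → I_A|_C → O/(A·I_C) → O/A → 0`. -/
theorem exists_ses (ι : C ⟶ X) [IsClosedImmersion ι] (hB : BlowUp.IsEffCartierIdeal ι.ker)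
    (A : X.IdealSheafData) (hA : BlowUp.IsEffCartierIdeal A) :
    ∃ S : ShortComplex X.Modules, S.ShortExact ∧
      Nonempty (S.X₁ ≅ (Coh.push ι).obj ((Scheme.Modules.pullback ι).obj (ClSub.idealMod A))) ∧
      S.X₂ = ClSub.quotMod (A * ι.ker) ∧ S.X₃ = ClSub.quotMod A := by
  obtain ⟨q, -, hq, e⟩ := exists_quot ι hB A hA
  exact ⟨ShortComplex.mk (kernel.ι q) q (kernel.condition q), H10Coh.shortExact_kernel q, e, rfl, rfl⟩

/-- A short exact sequence of direct images along a closed immersion gives additivity. -/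
theorem euler_of_push_ses (k : Type u) [Field k] [C.Over (Spec (CommRingCat.of k))]
    [IsProper (C ↘ Spec (CommRingCat.of k))] (b : C ⟶ X) [IsClosedImmersion b]
    {S : ShortComplex X.Modules} (hS : S.ShortExact) {G₁ G₂ G₃ : C.Modules}
    (h₁ : Coh.IsCoh G₁) (h₂ : Coh.IsCoh G₂) (h₃ : Coh.IsCoh G₃)
    (e₁ : S.X₁ ≅ (Coh.push b).obj G₁) (e₂ : S.X₂ ≅ (Coh.push b).obj G₂) (e₃ : S.X₃ ≅ (Coh.push b).obj G₃) :
    Curv2.euler k C G₂ = Curv2.euler k C G₁ + Curv2.euler k C G₃ := by
  haveI hcounit : IsIso (Scheme.Modules.pullbackPushforwardAdjunction b).counit := by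
    haveI : ∀ G, IsIso ((Scheme.Modules.pullbackPushforwardAdjunction b).counit.app G) := fun G =>
      H16Derived.ProjFormula.isIso_counit_of_isClosedImmersion b G
    exact NatIso.isIso_of_isIso_app _
  let hFF := (Scheme.Modules.pullbackPushforwardAdjunction b).fullyFaithfulROfIsIsoCounit
  haveI : (Coh.push b).IsRightAdjoint :=
    (Scheme.Modules.pullbackPushforwardAdjunction b).isRightAdjoint
  haveI : (Coh.push b).Faithful := hFF.faithful
  haveI : PreservesFiniteColimits (Coh.push b) := H8Props.PushPC.preservesFiniteColimits_push b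
  let f' : G₁ ⟶ G₂ := hFF.preimage (e₁.inv ≫ S.f ≫ e₂.hom)
  let g' : G₂ ⟶ G₃ := hFF.preimage (e₂.inv ≫ S.g ≫ e₃.hom)
  have hf : (Coh.push b).map f' = e₁.inv ≫ S.f ≫ e₂.hom := hFF.map_preimage _
  have hg : (Coh.push b).map g' = e₂.inv ≫ S.g ≫ e₃.hom := hFF.map_preimage _
  have w : f' ≫ g' = 0 := by
    apply (Coh.push b).map_injective
    rw [Functor.map_comp, hf, hg, Functor.map_zero]
    simp [reassoc_of% S.zero]
  let T := ShortComplex.mk f' g' w
  have hT : (T.map (Coh.push b)).ShortExact :=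
    ShortComplex.shortExact_of_iso (ShortComplex.isoMk e₁ e₂ e₃
      (by show e₁.hom ≫ (Coh.push b).map f' = _; rw [hf]; exact Iso.hom_inv_id_assoc e₁ _)
      (by show e₂.hom ≫ (Coh.push b).map g' = _; rw [hg]; exact Iso.hom_inv_id_assoc e₂ _)) hS
  have hT' : T.ShortExact := by
    haveI := hT.mono_f
    haveI := hT.epi_g
    exact { exact := (T.exact_map_iff_of_faithful (Coh.push b)).1 hT.exact
            mono_f := Functor.mono_of_mono_map (Coh.push b) (f := f') (inferInstanceAs (Mono (T.map (Coh.push b)).f))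
            epi_g := Functor.epi_of_epi_map (Coh.push b) (f := g') (inferInstanceAs (Epi (T.map (Coh.push b)).g)) }
  exact (isAddFn_euler k).add T hT' h₁ h₂ h₃

end Sequence

section Lengths

attribute [local instance 10000] H10Coh.hasSheafifyAb H10Coh.hasWeakSheafifyAb H10Coh.hasExtAb H10Coh.enoughInjAb
attribute [local instance] H10Coh.enoughInjMod

open Groth.Agent.H10Coh

variable {R : Type u} [CommRing R] [IsDomain R] [IsDiscreteValuationRing R]
  {X : Over (Spec (CommRingCat.of R))} {Z : Scheme.{u}} [Z.Over (Spec (CommRingCat.of (IsLocalRing.ResidueField R)))]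

/-- Lengths of cohomology of modules pushed from a scheme over the residue field. -/
theorem lengthH_push [IsProper (Z ↘ Spec (CommRingCat.of (IsLocalRing.ResidueField R)))] (i : Z ⟶ X.left)
    [IsAffineHom i] (hi : i ≫ X.hom = (Z ↘ Spec (CommRingCat.of (IsLocalRing.ResidueField R))) ≫ closedPt R)
    (G : Z.Modules) (hG : Coh.IsCoh G) (n : ℕ) :
    Models.lengthH R X ((Coh.push i).obj G) n =
      Module.finrank (IsLocalRing.ResidueField R) (Coh.HH Z G n) := by
  let k := IsLocalRing.ResidueField R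
  let ψX : R →+* Γ(X.left, ⊤) := toΓ X.hom
  let ψZ : k →+* Γ(Z, ⊤) := globA
  have hψ : ψZ.comp (IsLocalRing.residue R) = i.appTop.hom.comp ψX := by
    rw [← toΓ_comp, hi]
    refine RingHom.ext fun r => ?_
    show _ = ((Z ↘ Spec (CommRingCat.of k)) ≫ closedPt R).appTop _
    rw [Scheme.Hom.comp_appTop]
    exact congrArg ((Z ↘ Spec (CommRingCat.of k)).appTop) ((congr($(Scheme.ΓSpecIso_inv_naturality
      (CommRingCat.ofHom (IsLocalRing.residue R))) r)))
  haveI : G.IsQuasicoherent := hG.1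
  let P := (Coh.push i).obj G
  letI := (actM ψZ G).mod n ⊤
  haveI : Module.Finite k (Coh.HH Z G n) := H10Coh.finite_HH_proper k Z G hG n
  letI : Algebra R k := (IsLocalRing.residue R).toAlgebra
  letI : Module R (Coh.HH Z G n) := Module.compHom _ (IsLocalRing.residue R)
  haveI : IsScalarTower R k (Coh.HH Z G n) := IsScalarTower.of_algebraMap_smul fun _ _ => rfl
  let eH : Coh.HH X.left P n ≃+ Coh.HH Z G n :=
    (HHEquiv P n).trans ((affineLerayEquiv i G n ⊤).trans (HHEquiv G n).symm)
  have hlin : ∀ (r : R) x, eH (r • x) = r • eH x := by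
    intro r x
    refine (HHEquiv G n).injective ?_
    refine ((HHEquiv G n).apply_symm_apply _).trans ?_
    refine (congrArg (affineLerayEquiv i G n ⊤) (HHEquiv_smul' P n r x)).trans ?_
    refine Eq.trans ?_ (HHEquiv_smul' G n (IsLocalRing.residue R r) (eH x)).symm
    change affineLerayEquiv i G n ⊤ (postH (smulSh P (ψX r)) n ⊤ _) =
      postH (smulSh G ((ψZ.comp (IsLocalRing.residue R)) r)) n ⊤ _
    rw [smulSh_push i G (ψX r), hψ, show HHEquiv G n (eH x) = affineLerayEquiv i G n ⊤ (HHEquiv P n x) from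
      (HHEquiv G n).apply_symm_apply _]
    exact FRes.pushEquiv_natural i.base (mResSmul (MRes.inj G) (i.appTop (ψX r)))
      (epi_push_of_isAffineHom i G) (epi_push_of_isAffineHom i G) n ⊤ (HHEquiv P n x)
  let eL : Coh.HH X.left P n ≃ₗ[R] Coh.HH Z G n := { eH with map_smul' := hlin }
  rw [Models.lengthH, eL.length_eq,
    Module.length_eq_of_surjective (R := k) (S := R) IsLocalRing.residue_surjective,
    Module.length_eq_finrank]
  rfl

end Lengths

end Groth.Agent.H28Vert
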