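import Groth.Agent.H28Vert.Cartier
import Groth.Agent.H9CI.RegLocal

/-!
# Sections of regular models
-/

set_option autoImplicit false
set_option linter.style.haveILetI false
set_option backward.isDefEq.respectTransparency.types false
universe u

open CategoryTheory CategoryTheory.Limits AlgebraicGeometry Opposite TopologicalSpace IsLocalRing

namespace Groth.Agent.H28Vert

/-- A scheme over a field whose functions form a field, with a rational point, has only constant functions. -/
theorem isIso_appTop_of_point (k : Type u) [Field k] {Z : Scheme.{u}} (f : Z ⟶ Spec (CommRingCat.of k))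
    (hfield : IsField Γ(Z, ⊤)) (z : Z)
    (hz : Function.Surjective fun a : k => (Z.residue z).hom ((Z.presheaf.germ ⊤ z trivial).hom (Coh.toGlobal f a))) :
    IsIso f.appTop := by
  letI := hfield.toField
  let e : Γ(Z, ⊤) →+* Z.residueField z := (Z.residue z).hom.comp (Z.presheaf.germ ⊤ z trivial).hom
  have hψ : Function.Bijective (Coh.toGlobal f) := by
    haveI : Nontrivial (Coh.Γtop Z) := inferInstanceAs (Nontrivial Γ(Z, ⊤))
    refine ⟨(Coh.toGlobal f).injective, fun b => ?_⟩
    obtain ⟨a, ha⟩ := hz (e b)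
    exact ⟨a, e.injective ha⟩
  let σ := Scheme.ΓSpecIso (CommRingCat.of k)
  refine (ConcreteCategory.isIso_iff_bijective f.appTop).2 ?_
  refine (Function.Bijective.of_comp_iff _ (ConcreteCategory.bijective_of_isIso σ.inv)).1 ?_
  exact hψ

variable {R : Type u} [CommRing R] [IsDomain R] [IsDiscreteValuationRing R]
  {X : Over (Spec (CommRingCat.of R))}

/-- A rational point of the generic fibre of a proper model extends to a section. -/
theorem exists_section [IsProper X.hom] (t : Spec (CommRingCat.of (FractionRing R)) ⟶ X.left)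
    (ht : t ≫ X.hom = Spec.map (CommRingCat.ofHom (algebraMap R (FractionRing R)))) :
    ∃ σ : Spec (CommRingCat.of R) ⟶ X.left, σ ≫ X.hom = 𝟙 _ := by
  have h : UniversallyClosed X.hom := inferInstance
  rw [UniversallyClosed.eq_valuativeCriterion] at h
  obtain ⟨⟨l⟩⟩ := h.1 { R := R, K := FractionRing R, i₁ := t, i₂ := 𝟙 _, commSq := ⟨by rw [ht, Category.comp_id]⟩ }
  exact ⟨l.l, l.fac_right⟩

variable (σ : Spec (CommRingCat.of R) ⟶ X.left) (hσ : σ ≫ X.hom = 𝟙 _)

include hσ in
theorem stalkClosedPointTo_stalkHom (r : R) :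
    (Scheme.stalkClosedPointTo (R := CommRingCat.of R) σ).hom (Models.stalkHom R X (σ (closedPoint R)) r) = (r : CommRingCat.of R) := by
  let S := Spec (CommRingCat.of R)
  show (X.left.presheaf.germ ⊤ (σ (closedPoint R)) trivial ≫ Scheme.stalkClosedPointTo (R := CommRingCat.of R) σ).hom
    ((X.hom.appTop).hom ((Scheme.ΓSpecIso (CommRingCat.of R)).inv.hom r)) = r
  rw [Scheme.germ_stalkClosedPointTo]
  have h : X.hom.appTop ≫ σ.app ⊤ = 𝟙 _ := by
    show X.hom.app ⊤ ≫ σ.app (X.hom ⁻¹ᵁ ⊤) = _
    rw [← Scheme.Hom.comp_app]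
    have h2 : ∀ (φ : S ⟶ S) (_ : φ = 𝟙 S), φ.app ⊤ = 𝟙 _ := by rintro φ rfl; exact Scheme.Hom.id_app _
    exact h2 _ hσ
  have h' : ∀ a, (σ.app ⊤).hom ((X.hom.appTop).hom a) = a := fun a => congr($(h) a)
  rw [CommRingCat.comp_apply]
  erw [h']
  simp
  exact congr($((Scheme.ΓSpecIso (CommRingCat.of R)).inv_hom_id) r)

include hσ in
/-- The closed point of a section is a rational point at which the fibre is regular. -/
theorem section_closedPoint [IsSeparated X.hom] (hreg : Models.IsRegularScheme X.left) {ϖ : R} (hϖ : Irreducible ϖ) :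
    IsClosed ({σ (closedPoint R)} : Set X.left) ∧
      Function.Surjective ((X.left.residue (σ (closedPoint R))).hom.comp (Models.stalkHom R X (σ (closedPoint R)))) ∧
      Models.stalkHom R X (σ (closedPoint R)) ϖ ∈ maximalIdeal (X.left.presheaf.stalk (σ (closedPoint R))) ∧
      Models.stalkHom R X (σ (closedPoint R)) ϖ ∉ maximalIdeal (X.left.presheaf.stalk (σ (closedPoint R))) ^ 2 ∧
      IsRegularLocalRing (X.left.presheaf.stalk (σ (closedPoint R)) ⧸
        Ideal.map (Models.stalkHom R X (σ (closedPoint R))) (maximalIdeal R)) := by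
  let x := σ (closedPoint R)
  let π : X.left.presheaf.stalk x →+* R := (Scheme.stalkClosedPointTo (R := CommRingCat.of R) σ).hom
  have hπ : ∀ r, π (Models.stalkHom R X x r) = r := stalkClosedPointTo_stalkHom σ hσ
  haveI : IsLocalHom π := Scheme.isLocalHom_stalkClosedPointTo' σ
  have hm : Models.stalkHom R X x ϖ ∈ maximalIdeal (X.left.presheaf.stalk x) := fun hu => by
    have := hu.map π
    rw [hπ] at this
    exact hϖ.not_isUnit this
  have hm2 : Models.stalkHom R X x ϖ ∉ maximalIdeal (X.left.presheaf.stalk x) ^ 2 := fun h2 => by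
    have h3 := Ideal.mem_map_of_mem π h2
    rw [hπ, Ideal.map_pow] at h3
    have h4 := Ideal.pow_right_mono ((local_hom_TFAE π).out 0 2 |>.1 ‹_›) 2 h3
    rw [hϖ.maximalIdeal_eq, Ideal.span_singleton_pow, Ideal.mem_span_singleton] at h4
    obtain ⟨c, hc⟩ := h4
    refine hϖ.not_isUnit (IsUnit.of_mul_eq_one c (mul_left_cancel₀ hϖ.ne_zero ?_))
    rw [mul_one, ← mul_assoc, ← sq]
    exact hc.symm
  refine ⟨?_, ?_, hm, hm2, ?_⟩
  · haveI : IsClosedImmersion σ := by
      haveI : IsClosedImmersion (σ ≫ X.hom) := hσ ▸ inferInstanceAs (IsClosedImmersion (𝟙 _))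
      exact IsClosedImmersion.of_comp σ X.hom
    rw [← Set.image_singleton]
    exact σ.isClosedEmbedding.isClosedMap _ ((isClosed_singleton_closedPoint R))
  · intro a
    obtain ⟨b, rfl⟩ := X.left.residue_surjective x a
    refine ⟨π b, ?_⟩
    show IsLocalRing.residue _ (Models.stalkHom R X x (π b)) = IsLocalRing.residue _ b
    refine (Ideal.Quotient.mk_eq_mk_iff_sub_mem _ _).2 ?_
    intro hu
    have h1 := hu.map π
    rw [map_sub, hπ, sub_self] at h1
    exact not_isUnit_zero h1
  · haveI := hreg x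
    rw [hϖ.maximalIdeal_eq, Ideal.map_span, Set.image_singleton]
    exact (H9CI.quotient_step hm hm2).1

omit [IsDomain R] [IsDiscreteValuationRing R] in
theorem stalkId_le_maximal (I : X.left.IdealSheafData) (V : X.left.affineOpens) {x : X.left} (hx : x ∈ V.1)
    (hs : x ∈ (I.support : Set X.left)) : stalkId I V hx ≤ maximalIdeal (X.left.presheaf.stalk x) := by
  refine Ideal.map_le_iff_le_comap.2 fun b hb => ?_
  intro hbu
  exact ((X.left.mem_zeroLocus_iff _ x).1 ((Scheme.IdealSheafData.mem_support_iff_of_mem hx).1 hs) b hb)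
    (by rw [← X.left.mem_basicOpen _ x hx] at hbu; exact hbu)

/-- Components through a point with `ϖ ∉ 𝔪²` are reduced in the fibre. -/
theorem mult_eq_one_of_mem [IsLocallyNoetherian X.left] [Flat X.hom] (hreg : Models.IsRegularScheme X.left)
    {n : ℕ} {Γ : Fin n → ArSurf.VertComp R X} (hΓ : Models.IsComponentList R X Γ) (i : Fin n)
    (hpos : 0 < Models.mult R X (Γ i)) {x : X.left} (hx : x ∈ Set.range (Γ i).ι.base) {ϖ : R} (hϖ : Irreducible ϖ)
    (h2 : Models.stalkHom R X x ϖ ∉ maximalIdeal (X.left.presheaf.stalk x) ^ 2) :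
    Models.mult R X (Γ i) = 1 := by
  classical
  by_contra hne
  obtain ⟨V, hV, hxV, -⟩ := exists_isAffineOpen_mem_and_subset (U := (⊤ : X.left.Opens)) (x := x) trivial
  refine h2 ?_
  have hle : Models.specialFibreIdeal R X ≤ (Γ i).ι.ker ^ 2 := by
    rw [specialFibreIdeal_eq_prod hreg hΓ, ← Finset.mul_prod_erase _ _ (Finset.mem_univ i)]
    intro W b hb
    rw [Scheme.IdealSheafData.ideal_mul] at hb
    have h3 := Ideal.mul_le_left hb
    simp only [Scheme.IdealSheafData.ideal_pow, Pi.pow_apply] at h3 ⊢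
    exact Ideal.pow_le_pow_right (by omega) h3
  have h4 : stalkId (Models.specialFibreIdeal R X) ⟨V, hV⟩ hxV ≤ stalkId ((Γ i).ι.ker ^ 2) ⟨V, hV⟩ hxV :=
    Ideal.map_mono (hle _)
  rw [specialFibreIdeal_stalk, hϖ.maximalIdeal_eq, Ideal.map_span, Set.image_singleton,
    Ideal.span_singleton_le_iff_mem] at h4
  have h5 : stalkId ((Γ i).ι.ker ^ 2) ⟨V, hV⟩ hxV = stalkId (Γ i).ι.ker ⟨V, hV⟩ hxV ^ 2 := by
    simpa using stalkId_prod (X := X.left) ({i} : Finset (Fin n)) (fun j => (Γ j).ι.ker) (fun _ => 2) ⟨V, hV⟩ hxV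
  rw [h5] at h4
  exact Ideal.pow_right_mono (stalkId_le_maximal _ _ hxV ((Γ i).ι.support_ker.ge (subset_closure hx))) 2 h4

/-- A scheme in the closed fibre through a rational point has constant functions, when they form a field. -/
theorem isIso_appTop_of_closed {Z : Scheme.{u}} (j : Z ⟶ X.left) [IsClosedImmersion j]
    (q : Z ⟶ Spec (CommRingCat.of (ResidueField R)))
    (hq : j ≫ X.hom = q ≫ Spec.map (CommRingCat.ofHom (residue R)))
    (hfield : IsField Γ(Z, ⊤)) (z : Z)
    (hz : Function.Surjective ((X.left.residue (j z)).hom.comp (Models.stalkHom R X (j z)))) :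
    IsIso q.appTop := by
  refine isIso_appTop_of_point _ q hfield z fun a => ?_
  obtain ⟨b, rfl⟩ := Z.residue_surjective z a
  obtain ⟨c, rfl⟩ := j.stalkMap_surjective z b
  obtain ⟨r, hr⟩ := hz ((X.left.residue (j z)).hom c)
  refine ⟨residue R r, ?_⟩
  have key : ∀ r : R, (j.stalkMap z).hom (Models.stalkHom R X (j z) r) =
      (Z.presheaf.germ ⊤ z trivial).hom (Coh.toGlobal q (residue R r)) := by
    intro r
    show (j.stalkMap z).hom ((X.left.presheaf.germ ⊤ (j z) trivial).hom (Coh.toGlobal X.hom r)) = _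
    refine (Scheme.Hom.germ_stalkMap_apply j ⊤ z trivial _).trans ?_
    refine congrArg (Z.presheaf.germ ⊤ z trivial).hom ?_
    have h1 : ∀ (φ ψ : Z ⟶ Spec (CommRingCat.of R)) (_ : φ = ψ), φ.appTop = ψ.appTop := by rintro φ ψ rfl; rfl
    have h2 := congr($(h1 _ _ hq) ((Scheme.ΓSpecIso (CommRingCat.of R)).inv r))
    refine h2.trans ?_
    show q.appTop.hom ((Spec.map (CommRingCat.ofHom (residue R))).appTop.hom _) = _
    refine congrArg q.appTop.hom ?_
    exact congr($((Scheme.ΓSpecIso_inv_naturality (CommRingCat.ofHom (residue R))).symm) r)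
  show (Z.residue z).hom ((Z.presheaf.germ ⊤ z trivial).hom (Coh.toGlobal q (residue R r))) = _
  rw [← key]
  show IsLocalRing.residue _ _ = IsLocalRing.residue _ _
  refine (Ideal.Quotient.mk_eq_mk_iff_sub_mem _ _).2 ?_
  rw [← map_sub]
  exact map_nonunit (j.stalkMap z).hom _ ((Ideal.Quotient.mk_eq_mk_iff_sub_mem _ _).1 hr)

end Groth.Agent.H28Vert
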