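import Groth.Agent.H28Vert.CompList2
import Groth.Agent.H28Vert.Form
import Groth.Agent.H28Vert.Sub
import Groth.Agent.H05EGA4.DimFibre
import Groth.Agent.H28Neron.SmoothDim
import Groth.Agent.H28Neron.Extend

/-!
# Smooth models of curves
-/

set_option autoImplicit false
set_option linter.style.haveILetI false
set_option backward.isDefEq.respectTransparency.types false
universe u

open CategoryTheory CategoryTheory.Limits AlgebraicGeometry Opposite TopologicalSpace

namespace Groth.Agent.H28Vert

variable {R : Type u} [CommRing R] [IsDomain R] [IsDiscreteValuationRing R] {X C : Scheme.{u}}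
  {p : X ⟶ Spec (CommRingCat.of R)} {f : C ⟶ Spec (CommRingCat.of (FractionRing R))}

/-- A flat model of an integral scheme is irreducible. -/
theorem irreducibleSpace_of_model [Flat p] [IsIntegral C] (g : C ⟶ X)
    (hg : IsPullback g f p (Spec.map (CommRingCat.ofHom (algebraMap R (FractionRing R))))) :
    IrreducibleSpace X := by
  let φ := Spec.map (CommRingCat.ofHom (algebraMap R (FractionRing R)))
  have hgen : ∀ x : X, g (genericPoint C) ⤳ x := fun x => by
    have h0 : φ (IsLocalRing.closedPoint (FractionRing R)) ⤳ p x := by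
      refine (PrimeSpectrum.le_iff_specializes (φ (IsLocalRing.closedPoint (FractionRing R))) (p x)).1 ?_
      intro a ha
      change algebraMap R (FractionRing R) a ∈ IsLocalRing.maximalIdeal (FractionRing R) at ha
      rw [IsLocalRing.maximalIdeal_eq_bot, Ideal.mem_bot, IsFractionRing.to_map_eq_zero_iff] at ha
      rw [ha]
      exact Ideal.zero_mem _
    obtain ⟨x', hx', hpx'⟩ := Flat.generalizingMap p h0
    obtain ⟨z, hz⟩ : x' ∈ Set.range g := by
      obtain ⟨z, hz, -⟩ := Scheme.Pullback.exists_preimage_pullback x' _ hpx'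
      exact ⟨hg.isoPullback.inv z, by rw [← Scheme.Hom.comp_apply, hg.isoPullback_inv_fst, hz]⟩
    exact (((genericPoint_spec C).specializes trivial).map g.continuous).trans (hz ▸ hx')
  have hirr : IsIrreducible (Set.univ : Set X) := by
    have h := (isIrreducible_singleton (x := g (genericPoint C))).closure
    rwa [Set.eq_univ_of_forall fun x => specializes_iff_mem_closure.1 (hgen x)] at h
  haveI : PreirreducibleSpace X := ⟨hirr.2⟩
  exact ⟨⟨g (genericPoint C)⟩⟩

/-- A smooth model of a curve is a regular integral surface whose fibres have dimension at most one. -/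
theorem smoothModel_facts [Smooth p] (hC : Curve.IsSmoothProperCurve (FractionRing R) C f)
    (hX : Models.IsModel R X p C f) :
    (∀ x : X, IsRegularLocalRing (X.presheaf.stalk x)) ∧ IsIntegral X ∧
      ∀ y, topologicalKrullDim ↥(p.fiber y) ≤ ((1 : ℕ) : WithBot ℕ∞) := by
  obtain ⟨hfl, -, -, g, hg⟩ := hX
  obtain ⟨-, -, hint, hdim⟩ := hC
  haveI := hint
  haveI := hfl
  haveI : IsRegularRing R := inferInstance
  haveI := irreducibleSpace_of_model g hg
  haveI : IsReduced X := H28Neron.isReduced_of_smooth p
  refine ⟨fun x => H28Neron.isRegularLocalRing_stalk_of_smooth p x, isIntegral_of_irreducibleSpace_of_isReduced _,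
    fun y => topologicalKrullDim_le_of_stalks _ fun u => ?_⟩
  let φ := Spec.map (CommRingCat.ofHom (algebraMap R (FractionRing R)))
  haveI : IrreducibleSpace ↥(pullback p φ) :=
    (Scheme.homeoOfIso hg.isoPullback).surjective.irreducibleSpace (Scheme.homeoOfIso hg.isoPullback).continuous
  have hd : topologicalKrullDim ↥(pullback p φ) = ((1 : ℕ) : WithBot ℕ∞) := by
    rw [← (Scheme.homeoOfIso hg.isoPullback).isHomeomorph.topologicalKrullDim_eq, hdim]
    rfl
  have h1 : FlatMor.localDim (p.fiber y) u = ((1 : ℕ) : WithBot ℕ∞) := by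
    rw [← H8Props.FieldDim.fibreDimAt_eq_localDim p u, H28Neron.SmoothDim.fibreDimAt_eq_generic (K := FractionRing R) p, hd]
  haveI := H8Props.FieldDim.locallyOfFiniteType_fiberToSpec p y
  refine le_trans ?_ h1.le
  rw [H8Props.FieldDim.localDim_eq_stalk_add_cdim (k := (Spec (CommRingCat.of R)).residueField y) (p.fiberToSpecResidueField y) u]
  refine le_add_of_nonneg_right ?_
  haveI : Nonempty (closure ({u} : Set ↥(p.fiber y))) := ⟨⟨u, subset_closure rfl⟩⟩
  haveI : Nonempty (IrreducibleCloseds ↥(closure ({u} : Set ↥(p.fiber y)))) :=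
    ⟨⟨closure {⟨u, subset_closure rfl⟩}, isIrreducible_singleton.closure, isClosed_closure⟩⟩
  exact Order.krullDim_nonneg

end Groth.Agent.H28Vert
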