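import Groth.Agent.H28Vert.ClosedFibre
import Groth.Agent.H28Vert.Chain
import Groth.Agent.H28Vert.GeomConnAux
import Groth.Agent.H10ZMT.Stein

/-!
# Functions on the closed fibre extend when they form a separable field extension
-/

set_option autoImplicit false
set_option linter.style.haveILetI false
set_option backward.isDefEq.respectTransparency.types false
universe u

open CategoryTheory CategoryTheory.Limits AlgebraicGeometry Opposite TopologicalSpace IsLocalRing Polynomial

namespace Groth.Agent.H28Vert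

/-- An intermediate subring between a field and a finite extension field is a subfield. -/
theorem subfield_of_subring {k F : Type u} [Field k] [Field F] (κ : k →+* F) (hκ : κ.Finite) (S : Subring F)
    (hS : ∀ c, κ c ∈ S) : ∃ L : Subfield F, ∀ x, x ∈ L ↔ x ∈ S := by
  letI := κ.toAlgebra
  haveI : FiniteDimensional k F := hκ
  let La : Subalgebra k F := { S with algebraMap_mem' := hS }
  exact ⟨(La.toIntermediateField fun x hx =>
    La.inv_mem_of_algebraic (x := ⟨x, hx⟩) (Algebra.IsIntegral.isIntegral (R := k) x).isAlgebraic).toSubfield,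
    fun x => Iff.rfl⟩

set_option maxHeartbeats 1600000 in
/-- If `X.appTop → H⁰(Y)` has image the subfield `L`, and `u` is separable over `L`, then `u ∈ L`. -/
theorem mem_of_separable {S : Scheme.{u}} [IsLocallyNoetherian S] [IsAffine S] {X Y T₀ : Scheme.{u}}
    (f : X ⟶ S) [IsProper f] (b : Y ⟶ X) (q : Y ⟶ T₀) [IsAffine T₀] (c₀ : T₀ ⟶ S)
    (hY : IsPullback b q f c₀) [Nonempty Y] {F : Type u} [Field F] (eF : Γ(Y, ⊤) ≅ CommRingCat.of F)
    (L : Subfield F) (hL : ∀ a, eF.hom (b.appTop a) ∈ L) (hL' : ∀ x ∈ L, ∃ a, eF.hom (b.appTop a) = x)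
    (hT₀ : ∀ s, eF.hom (q.appTop s) ∈ L) (hc₀ : Function.Surjective c₀.appTop)
    (u : F) (hint : IsIntegral L u) (hsep : IsSeparable L u) : u ∈ L := by
  classical
  by_contra hu
  haveI : IsFinite f.fromNormalization := Groth.Agent.S1297.result f
  haveI : IsAffine f.normalization := isAffine_of_isAffineHom f.fromNormalization
  haveI := H10ZMT.geometricallyConnected_toNormalization f
  let Ω := AlgebraicClosure L
  let m := minpoly L u
  have hdeg : m.natDegree ≠ 1 := fun h => hu (by
    obtain ⟨c, hc⟩ := minpoly.natDegree_eq_one_iff.1 h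
    exact hc ▸ c.2)
  have hmm : m.Monic := minpoly.monic hint
  have hspl : (m.map (algebraMap L Ω)).Splits := IsAlgClosed.splits _
  let roots := (m.map (algebraMap L Ω)).roots
  have hnd : roots.Nodup := nodup_roots (Polynomial.Separable.map hsep)
  have hcard : roots.card = m.natDegree := by
    rw [← (m.natDegree_map (algebraMap L Ω))]
    exact Polynomial.splits_iff_card_roots.1 hspl
  have hdeg0 : m.natDegree ≠ 0 := (minpoly.natDegree_pos hint).ne'
  have hcardF : roots.toFinset.card = m.natDegree := by rw [Multiset.toFinset_card_of_nodup hnd, hcard]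
  obtain ⟨α, hα⟩ : roots.toFinset.Nonempty := Finset.card_pos.1 (by omega)
  obtain ⟨β, hβ, hβα⟩ : ∃ β, β ∈ roots.toFinset ∧ β ≠ α := Finset.exists_mem_ne (by omega) α
  let ρ : Γ(X, ⊤) →+* L := (eF.hom.hom.comp b.appTop.hom).codRestrict L.toSubring hL
  let N := f.normalization
  let φ : Γ(N, ⊤) ⟶ CommRingCat.of Ω := f.toNormalization.appTop ≫ CommRingCat.ofHom ((algebraMap L Ω).comp ρ)
  let pt : Spec (CommRingCat.of Ω) ⟶ N := Spec.map φ ≫ N.isoSpec.inv
  have hpt : ∀ n, pt.appTop n = (Scheme.ΓSpecIso (CommRingCat.of Ω)).inv (φ n) := fun n => by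
    show (N.isoSpec.inv.appTop ≫ (Spec.map φ).appTop) n = _
    rw [CommRingCat.comp_apply, isoSpec_inv_appTop_apply, specMap_appTop_inv]
  let P := pullback f.toNormalization pt
  let pX : P ⟶ X := pullback.fst f.toNormalization pt
  let pΩ : P ⟶ Spec (CommRingCat.of Ω) := pullback.snd f.toNormalization pt
  haveI : ConnectedSpace P :=
    GeometricallyConnected.geometrically_connectedSpace pt pX pΩ (IsPullback.of_hasPullback _ _)
  let jΩ : Ω →+* Γ(P, ⊤) := pΩ.appTop.hom.comp (Scheme.ΓSpecIso (CommRingCat.of Ω)).inv.hom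
  have hbase : ∀ a : Γ(X, ⊤), pX.appTop a = jΩ (algebraMap L Ω (ρ a)) := by
    intro a
    haveI : IsIso f.toNormalization.appTop := H10ZMT.isIso_app_toNormalization f ⊤
    obtain ⟨n, rfl⟩ := (ConcreteCategory.bijective_of_isIso f.toNormalization.appTop).2 a
    have h2 := congr($(congrArg Scheme.Hom.appTop (pullback.condition (f := f.toNormalization) (g := pt))) n)
    rw [Scheme.Hom.comp_appTop, Scheme.Hom.comp_appTop] at h2
    refine h2.trans ?_
    show pΩ.appTop (pt.appTop n) = _
    rw [hpt]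
    rfl
  -- `P` lies over the closed fibre
  obtain ⟨qP, hqP⟩ : ∃ qP : P ⟶ T₀, pX ≫ f = qP ≫ c₀ ∧ ∀ s, qP.appTop s = jΩ (algebraMap L Ω ⟨_, hT₀ s⟩) := by
    let χ : Γ(T₀, ⊤) ⟶ CommRingCat.of Ω := CommRingCat.ofHom
      ((algebraMap L Ω).comp ((eF.hom.hom.comp q.appTop.hom).codRestrict L.toSubring hT₀))
    refine ⟨pΩ ≫ Spec.map χ ≫ T₀.isoSpec.inv, ?_, fun s => ?_⟩
    · refine ext_of_isAffine ?_
      ext s
      simp only [Scheme.Hom.comp_appTop, CommRingCat.comp_apply]
      rw [hbase, isoSpec_inv_appTop_apply, specMap_appTop_inv]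
      refine congrArg (fun x => pΩ.appTop ((Scheme.ΓSpecIso (CommRingCat.of Ω)).inv x)) (congrArg (algebraMap L Ω) (Subtype.ext ?_))
      show eF.hom (b.appTop (f.appTop s)) = eF.hom (q.appTop (c₀.appTop s))
      have h2 := congr($(congrArg Scheme.Hom.appTop hY.w) s)
      rw [Scheme.Hom.comp_appTop, Scheme.Hom.comp_appTop] at h2
      exact congrArg eF.hom.hom h2
    · simp only [Scheme.Hom.comp_appTop, CommRingCat.comp_apply]
      rw [isoSpec_inv_appTop_apply, specMap_appTop_inv]
      rfl
  let pY : P ⟶ Y := hY.lift pX qP hqP.1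
  have hpY : pY ≫ b = pX := hY.lift_fst _ _ _
  let ψ : F →+* Γ(P, ⊤) := pY.appTop.hom.comp eF.inv.hom
  have hψL : ∀ l : L, ψ (l : F) = jΩ (algebraMap L Ω l) := by
    rintro ⟨x, hx⟩
    obtain ⟨a, rfl⟩ := hL' x hx
    show pY.appTop (eF.inv (eF.hom (b.appTop a))) = _
    rw [show eF.inv (eF.hom (b.appTop a)) = b.appTop a from congr($(eF.hom_inv_id) (b.appTop a))]
    have h1 : pY.appTop (b.appTop a) = pX.appTop a := by
      rw [← hpY, Scheme.Hom.comp_appTop]; rfl
    exact h1.trans (hbase a)
  have hprod : ∏ γ ∈ roots.toFinset, (ψ u - jΩ γ) = 0 := by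
    have h1 : (m.map (algebraMap L Ω)) = (roots.map fun γ => Polynomial.X - C γ).prod :=
      hspl.eq_prod_roots_of_monic (hmm.map _)
    have h2 : (m.map (algebraMap L Ω)).eval₂ jΩ (ψ u) = 0 := by
      rw [Polynomial.eval₂_map]
      have h3 : jΩ.comp (algebraMap L Ω) = ψ.comp (algebraMap L F) := RingHom.ext fun l => (hψL l).symm
      rw [h3, ← Polynomial.hom_eval₂, show eval₂ (algebraMap L F) u m = 0 from minpoly.aeval L u, map_zero]
    rw [h1, ← Polynomial.coe_eval₂RingHom, map_multiset_prod, Multiset.map_map] at h2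
    rw [Finset.prod_eq_multiset_prod, Multiset.toFinset_val, Multiset.Nodup.dedup hnd]
    simpa using h2
  obtain ⟨z⟩ := ‹Nonempty Y›
  have hpoint : ∀ γ ∈ roots.toFinset, ∃ w, w ∉ P.basicOpen (ψ u - jΩ γ) := by
    intro γ hγ
    have hγ' : aeval γ m = 0 := by
      rw [aeval_def, ← Polynomial.eval_map]
      exact isRoot_of_mem_roots (Multiset.mem_toFinset.1 hγ)
    obtain ⟨σ, hσ⟩ : ∃ σ : IntermediateField.adjoin L ({u} : Set F) →ₐ[L] Ω,
        σ ⟨u, IntermediateField.mem_adjoin_simple_self L u⟩ = γ :=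
      ⟨(IntermediateField.adjoin.powerBasis hint).lift γ (by
          rw [IntermediateField.adjoin.powerBasis_gen, IntermediateField.minpoly_gen]; exact hγ'),
        (IntermediateField.adjoin.powerBasis hint).lift_gen γ _⟩
    let e : F →+* Y.residueField z := ((Y.residue z).hom.comp (Y.presheaf.germ ⊤ z trivial).hom).comp eF.inv.hom
    obtain ⟨T, _, i₁, i₂, hi⟩ := exists_common_extension
      (e.comp (IntermediateField.adjoin L ({u} : Set F)).val.toRingHom) σ.toRingHom
    let tY : Spec (CommRingCat.of T) ⟶ Y := Spec.map (CommRingCat.ofHom i₁) ≫ Y.fromSpecResidueField z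
    let tΩ : Spec (CommRingCat.of T) ⟶ Spec (CommRingCat.of Ω) := Spec.map (CommRingCat.ofHom i₂)
    have htY : ∀ c, tY.appTop (eF.inv c) = (Scheme.ΓSpecIso (CommRingCat.of T)).inv (i₁ (e c)) := by
      intro c
      show ((Y.fromSpecResidueField z).appTop ≫ (Spec.map (CommRingCat.ofHom i₁)).appTop) (eF.inv c) = _
      rw [CommRingCat.comp_apply, fromSpecResidueField_appTop_apply]
      exact specMap_appTop_inv (CommRingCat.ofHom i₁) _
    have htΩ : ∀ t, tΩ.appTop ((Scheme.ΓSpecIso (CommRingCat.of Ω)).inv t) =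
        (Scheme.ΓSpecIso (CommRingCat.of T)).inv (i₂ t) := fun t => specMap_appTop_inv (CommRingCat.ofHom i₂) t
    have hiL : ∀ l : L, i₁ (e (l : F)) = i₂ (algebraMap L Ω l) := fun l => by
      have h := hi (algebraMap L (IntermediateField.adjoin L ({u} : Set F)) l)
      rw [RingHom.comp_apply] at h
      refine h.trans ?_
      exact congrArg i₂ (σ.commutes l)
    have hlift : (tY ≫ b) ≫ f.toNormalization = tΩ ≫ pt := by
      refine ext_of_isAffine ?_
      ext n
      simp only [Scheme.Hom.comp_appTop, CommRingCat.comp_apply]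
      rw [hpt, htΩ]
      have h1 : b.appTop (f.toNormalization.appTop n) = eF.inv (eF.hom (b.appTop (f.toNormalization.appTop n))) :=
        (congr($(eF.hom_inv_id) (b.appTop (f.toNormalization.appTop n)))).symm
      rw [h1, htY]
      exact congrArg _ (hiL (ρ (f.toNormalization.appTop n)))
    let t : Spec (CommRingCat.of T) ⟶ P := pullback.lift (tY ≫ b) tΩ hlift
    have htpY : t ≫ pY = tY := by
      refine hY.hom_ext ?_ ?_
      · rw [Category.assoc, hpY, pullback.lift_fst]
      · refine ext_of_isAffine ?_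
        ext s
        rw [Category.assoc, hY.lift_snd]
        simp only [Scheme.Hom.comp_appTop, CommRingCat.comp_apply]
        rw [hqP.2]
        show (pΩ.appTop ≫ t.appTop) _ = _
        rw [← Scheme.Hom.comp_appTop, pullback.lift_snd, htΩ]
        refine Eq.trans ?_ (congrArg tY.appTop (congr($(eF.hom_inv_id) (q.appTop s))))
        show _ = tY.appTop (eF.inv (eF.hom (q.appTop s)))
        rw [htY]
        exact congrArg _ (hiL ⟨_, hT₀ s⟩).symm
    refine ⟨t (closedPoint T), fun hz => ?_⟩
    have h1 : closedPoint T ∈ t ⁻¹ᵁ P.basicOpen (ψ u - jΩ γ) := hz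
    rw [Scheme.preimage_basicOpen] at h1
    have h2 : t.app ⊤ (ψ u - jΩ γ) = 0 := by
      show t.appTop.hom (ψ u - jΩ γ) = 0
      rw [map_sub]
      have h3 : t.appTop.hom (ψ u) = tY.appTop (eF.inv u) := by
        rw [← htpY, Scheme.Hom.comp_appTop]; rfl
      have h4 : t.appTop.hom (jΩ γ) = (Scheme.ΓSpecIso (CommRingCat.of T)).inv (i₂ γ) := by
        show (pΩ.appTop ≫ t.appTop) ((Scheme.ΓSpecIso (CommRingCat.of Ω)).inv γ) = _
        rw [← Scheme.Hom.comp_appTop, pullback.lift_snd, htΩ]
      rw [h3, h4, htY, sub_eq_zero]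
      refine congrArg _ ?_
      rw [← hσ]
      exact hi ⟨u, IntermediateField.mem_adjoin_simple_self L u⟩
    rw [h2, Scheme.basicOpen_zero] at h1
    exact h1
  exact hβα (eq_of_values jΩ (ψ u) roots.toFinset hprod hβ hα (hpoint β hβ) (hpoint α hα))

variable {R : Type u} [CommRing R] [IsDomain R] [IsDiscreteValuationRing R] [PerfectField (ResidueField R)]
  {X : Over (Spec (CommRingCat.of R))} [IsProper X.hom]

/-- If the functions on the closed fibre form a field, they all extend to `X` (perfect residue field). -/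
theorem surjective_appTop_of_isField
    (hfield : IsField Γ(pullback X.hom (closedPt R), ⊤)) :
    Function.Surjective (pullback.fst X.hom (closedPt R)).appTop := by
  let f := X.hom
  let Y := pullback f (closedPt R)
  let b : Y ⟶ X.left := pullback.fst f (closedPt R)
  let q : Y ⟶ Spec (CommRingCat.of (ResidueField R)) := pullback.snd f (closedPt R)
  letI := hfield.toField
  haveI : Nonempty Y := by
    by_contra h
    rw [not_nonempty_iff] at h
    exact not_subsingleton Γ(Y, ⊤) inferInstance
  let κ : ResidueField R →+* Γ(Y, ⊤) := q.appTop.hom.comp (Scheme.ΓSpecIso (CommRingCat.of (ResidueField R))).inv.hom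
  have hκfin : κ.Finite := finite_toGlobal_of_isProper q
  have hc₀ : Function.Surjective (closedPt R).appTop := by
    intro t
    obtain ⟨c, rfl⟩ := (ConcreteCategory.bijective_of_isIso (Scheme.ΓSpecIso (CommRingCat.of (ResidueField R))).inv).2 t
    obtain ⟨r, rfl⟩ := residue_surjective c
    exact ⟨_, specMap_appTop_inv (CommRingCat.ofHom (residue R)) r⟩
  have hsq : ∀ s, b.appTop (f.appTop s) = q.appTop ((closedPt R).appTop s) := fun s => by
    have h2 := congr($(congrArg Scheme.Hom.appTop (pullback.condition (f := f) (g := closedPt R))) s)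
    rw [Scheme.Hom.comp_appTop, Scheme.Hom.comp_appTop] at h2
    exact h2
  have hS : ∀ c, κ c ∈ b.appTop.hom.range := fun c => by
    obtain ⟨s, hs⟩ := hc₀ ((Scheme.ΓSpecIso (CommRingCat.of (ResidueField R))).inv c)
    refine ⟨f.appTop s, (hsq s).trans ?_⟩
    rw [hs]
    rfl
  obtain ⟨L, hL⟩ := subfield_of_subring κ hκfin _ hS
  intro u
  refine RingHom.mem_range.1 ((hL u).1 ?_)
  letI : Algebra (ResidueField R) L := (κ.codRestrict L.toSubring fun c => (hL _).2 (hS c)).toAlgebra
  letI : Algebra (ResidueField R) Γ(Y, ⊤) := κ.toAlgebra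
  haveI : IsScalarTower (ResidueField R) L Γ(Y, ⊤) := .of_algebraMap_eq fun c => rfl
  haveI : FiniteDimensional (ResidueField R) Γ(Y, ⊤) := hκfin
  refine mem_of_separable f b q (closedPt R) (IsPullback.of_hasPullback _ _) (Iso.refl _) L
    (fun a => (hL _).2 ⟨a, rfl⟩) (fun x hx => (hL x).1 hx) (fun s => (hL _).2 ?_) hc₀ u
    ((Algebra.IsIntegral.isIntegral (R := ResidueField R) u).tower_top) ?_
  · obtain ⟨s', rfl⟩ := hc₀ s
    exact ⟨f.appTop s', hsq s'⟩
  · exact (Algebra.IsSeparable.isSeparable (ResidueField R) u).tower_top L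

end Groth.Agent.H28Vert
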