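import Groth.Agent.H28Vert.Filtration
import Groth.Agent.H28Vert.Form

/-!
# Euler characteristics of vertical divisors
-/

set_option autoImplicit false
set_option linter.style.haveILetI false
set_option backward.isDefEq.respectTransparency.types false
universe u

open CategoryTheory CategoryTheory.Limits AlgebraicGeometry Opposite TopologicalSpace

namespace Groth.Agent.H28Vert

open Groth.Agent.H28Int

variable {R : Type u} [CommRing R] [IsDomain R] [IsDiscreteValuationRing R]
  {X : Over (Spec (CommRingCat.of R))}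

theorem specialFibreIdeal_ideal {ϖ : R} (hϖ : IsLocalRing.maximalIdeal R = Ideal.span {ϖ}) (V : X.left.affineOpens) :
    (Models.specialFibreIdeal R X).ideal V = Ideal.span {baseSect X ϖ V.1} := by
  let S := Spec (CommRingCat.of R)
  have h : (Curv2.idealSheaf R (IsLocalRing.maximalIdeal R)).ideal ⟨⊤, isAffineOpen_top S⟩ =
      (IsLocalRing.maximalIdeal R).map (Scheme.ΓSpecIso (CommRingCat.of R)).inv.hom := by
    show Ideal.map (S.presheaf.map (homOfLE le_top).op).hom _ = _
    rw [show (homOfLE (le_top : (⊤ : S.Opens) ≤ ⊤)).op = 𝟙 _ from rfl, CategoryTheory.Functor.map_id,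
      CommRingCat.hom_id, Ideal.map_id]
  rw [Models.specialFibreIdeal, H29Blow.ideal_comap _ X.hom ⟨⊤, isAffineOpen_top S⟩ V le_top, h, hϖ,
    Ideal.map_span, Set.image_singleton, Ideal.map_span, Set.image_singleton]
  rfl

/-- The ideal of the closed fibre is the kernel of its embedding. -/
theorem ker_fst_eq : (pullback.fst X.hom (closedPt R)).ker = Models.specialFibreIdeal R X := by
  obtain ⟨ϖ, hϖ⟩ := IsDiscreteValuationRing.exists_irreducible R
  refine Scheme.IdealSheafData.ext (funext fun V => ?_)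
  rw [specialFibreIdeal_ideal hϖ.maximalIdeal_eq V, Scheme.Hom.ker_apply]
  exact ker_fst_app hϖ.maximalIdeal_eq V.2

theorem dim_fibre_le_one {n : ℕ} {Γ : Fin n → ArSurf.VertComp R X} (hΓ : Models.IsComponentList R X Γ) :
    topologicalKrullDim ↥(pullback X.hom (closedPt R)) ≤ ((1 : ℕ) : WithBot ℕ∞) := by
  rw [H8Props.FieldDim.dim_eq_iSup_cdim]
  refine iSup_le fun y => ?_
  obtain ⟨l, hl⟩ := exists_mem_range_toFibre hΓ y
  let j := toFibre (Γ l)
  have hsub : closure ({y} : Set ↥(pullback X.hom (closedPt R))) ⊆ Set.range j :=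
    closure_minimal (Set.singleton_subset_iff.2 hl) j.isClosedEmbedding.isClosed_range
  refine (H8Props.FieldDim.dim_mono hsub).trans (le_of_eq ?_)
  rw [← IsHomeomorph.topologicalKrullDim_eq _ j.isClosedEmbedding.isEmbedding.toHomeomorph.isHomeomorph]
  exact (Γ l).dim_eq

variable (R X) in
/-- The Euler characteristic of a module supported on the closed fibre, by lengths. -/
noncomputable def chiLen (F : X.left.Modules) : ℤ :=
  (Models.lengthH R X F 0 : ℤ) - (Models.lengthH R X F 1 : ℤ)

variable [IsProper X.hom]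

/-- A closed subscheme of the closed fibre as the image of a module on the fibre. -/
theorem exists_fibre_quot (hd : topologicalKrullDim ↥(pullback X.hom (closedPt R)) ≤ ((1 : ℕ) : WithBot ℕ∞))
    (E : X.left.IdealSheafData) (hE : Models.specialFibreIdeal R X ≤ E) :
    ∃ G : (pullback X.hom (closedPt R)).Modules, Coh.IsCoh G ∧
      Nonempty (ClSub.quotMod E ≅ (Coh.push (pullback.fst X.hom (closedPt R))).obj G) ∧
      Curv2.euler (IsLocalRing.ResidueField R) (pullback X.hom (closedPt R)) G = chiLen R X (ClSub.quotMod E) := by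
  let k := IsLocalRing.ResidueField R
  let Y := pullback X.hom (closedPt R)
  let b := pullback.fst X.hom (closedPt R)
  haveI := isNoetherian k (X := Y)
  let Z := E.subscheme
  let t : Z ⟶ Y := IsClosedImmersion.lift b E.subschemeι
    (by rw [Scheme.IdealSheafData.ker_subschemeι, ker_fst_eq]; exact hE)
  have ht : t ≫ b = E.subschemeι := IsClosedImmersion.lift_fac _ _ _
  haveI : IsClosedImmersion t := by
    haveI : IsClosedImmersion (t ≫ b) := by rw [ht]; infer_instance
    exact IsClosedImmersion.of_comp t b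
  letI : Z.Over (Spec (CommRingCat.of k)) := ⟨t ≫ (Y ↘ Spec (CommRingCat.of k))⟩
  haveI : IsProper (Z ↘ Spec (CommRingCat.of k)) := inferInstanceAs (IsProper (t ≫ _))
  haveI := isNoetherian k (X := Z)
  let O := Coh.structureModule Z
  have hO : Coh.IsCoh O := H10Coh.isCoh_structureModule' Z
  haveI : O.IsQuasicoherent := hO.1
  refine ⟨(Coh.push t).obj O, LeadDev.isCoh_push_structure t,
    ⟨eqToIso (by rw [ClSub.quotMod, ← ht]) ≪≫ ((Scheme.Modules.pushforwardComp t b).app O).symm⟩, ?_⟩
  have hdZ : topologicalKrullDim Z ≤ ((1 : ℕ) : WithBot ℕ∞) :=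
    (t.isClosedEmbedding.isInducing.topologicalKrullDim_le).trans hd
  have hi : E.subschemeι ≫ X.hom = (Z ↘ Spec (CommRingCat.of k)) ≫ closedPt R := by
    rw [← ht, Category.assoc, pullback.condition]
    exact (Category.assoc _ _ _).symm
  rw [Push.euler_push k t rfl O, ← eulerCharLE_eq k hdZ hO.1, FGA.eulerCharLE, chiLen,
    show ClSub.quotMod E = (Coh.push E.subschemeι).obj O from rfl,
    lengthH_push E.subschemeι hi O hO, lengthH_push E.subschemeι hi O hO]
  simp [Finset.sum_range_succ]
  ring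

/-- The intersection number as a first difference on the curve. -/
theorem inter_eq_D_curve (Γ : ArSurf.VertComp R X) {L M : X.left.Modules}
    (e : CohB1.tensorMod L M ≅ Coh.structureModule X.left) :
    haveI := isProper_curve Γ
    ArSurf.inter R X L Γ = D (IsLocalRing.ResidueField R) [(Scheme.Modules.pullback Γ.ι).obj M]
      (Coh.structureModule Γ.curve.left) := by
  let k := IsLocalRing.ResidueField R
  haveI := isProper_curve Γ
  haveI : IsProper (Γ.curve.left ↘ Spec (CommRingCat.of k)) := inferInstanceAs (IsProper Γ.curve.hom)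
  have hLi : PicF.IsInvertible L := H17.InvertibleTensor.isInvertible_of_tensor_iso L _ e
  have hMi : PicF.IsInvertible M :=
    H17.InvertibleTensor.isInvertible_of_tensor_iso _ L (H10Coh.Tw.commIso _ _ ≪≫ e)
  let F := Scheme.Modules.pullback Γ.ι
  let eP : CohB1.tensorMod (F.obj L) (F.obj M) ≅ Coh.structureModule _ :=
    ((H16Derived.KFlat.Stalk.pullTensorLIso Γ.ι M).app L).symm ≪≫ F.mapIso e ≪≫
      H16Derived.KFlat.Stalk.structurePullbackIso Γ.ι
  have hP := H11Ample.isInvertible_pullback Γ.ι hLi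
  have hN := H11Ample.isInvertible_pullback Γ.ι hMi
  have h1 : ArSurf.inter R X L Γ = - D k [F.obj L] (Coh.structureModule Γ.curve.left) :=
    Curves.curveDeg_eq k Γ.dim_eq hP
  rw [h1, D_flip k (l := []) (by simp) hP hN eP Γ.dim_eq.le, neg_neg]

variable [Flat X.hom] [IsLocallyNoetherian X.left] {n : ℕ} {Γ : Fin n → ArSurf.VertComp R X}
  (hreg : Models.IsRegularScheme X.left) (hΓ : Models.IsComponentList R X Γ)
  {L : Fin n → X.left.Modules} (hL : ∀ j, ClSub.IsInverseOf (L j) (ClSub.idealMod (Γ j).ι.ker))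

variable (Γ) in
/-- The ideal of the divisor with the given coefficients. -/
noncomputable def divIdeal (a : Fin n → ℕ) : X.left.IdealSheafData := ∏ j, (Γ j).ι.ker ^ a j

include hreg hΓ in
theorem isEffCartierIdeal_divIdeal (a : Fin n → ℕ) : BlowUp.IsEffCartierIdeal (divIdeal Γ a) :=
  isEffCartierIdeal_prod _ _ (fun j _ => isEffCartierIdeal_ker hreg hΓ j) a

omit [IsProper X.hom] [Flat X.hom] [IsLocallyNoetherian X.left] in
theorem divIdeal_antitone {a c : Fin n → ℕ} (h : ∀ j, a j ≤ c j) : divIdeal Γ c ≤ divIdeal Γ a := by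
  classical
  have hc : divIdeal Γ c = divIdeal Γ a * divIdeal Γ (fun j => c j - a j) := by
    rw [divIdeal, divIdeal, divIdeal, ← Finset.prod_mul_distrib]
    exact Finset.prod_congr rfl fun j _ => by rw [← pow_add, Nat.add_sub_cancel' (h j)]
  intro U
  rw [hc, Scheme.IdealSheafData.ideal_mul, Pi.mul_apply]
  exact Ideal.mul_le_left (I := (divIdeal Γ a).ideal U)

omit [IsProper X.hom] [Flat X.hom] [IsLocallyNoetherian X.left] in
theorem divIdeal_succ (a : Fin n → ℕ) (i : Fin n) :
    divIdeal Γ (fun j => a j + if j = i then 1 else 0) = divIdeal Γ a * (Γ i).ι.ker := by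
  classical
  rw [divIdeal, divIdeal]
  simp only [pow_add]
  rw [Finset.prod_mul_distrib]
  refine congrArg _ ((Finset.prod_eq_single i (fun j _ hj => by rw [if_neg hj, pow_zero]) (fun h =>
    absurd (Finset.mem_univ i) h)).trans (by rw [if_pos rfl, pow_one]))

omit [Flat X.hom] [IsLocallyNoetherian X.left] in
include hL in
theorem D_pullback_divIdeal (hker : ∀ j, BlowUp.IsEffCartierIdeal (Γ j).ι.ker) (i : Fin n) (a : Fin n → ℕ) :
    haveI := isProper_curve (Γ i)
    D (IsLocalRing.ResidueField R) [(Scheme.Modules.pullback (Γ i).ι).obj (ClSub.idealMod (divIdeal Γ a))]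
      (Coh.structureModule (Γ i).curve.left) = ∑ j, (a j : ℤ) * ArSurf.inter R X (L j) (Γ i) := by
  classical
  let k := IsLocalRing.ResidueField R
  haveI := isProper_curve (Γ i)
  let C := (Γ i).curve.left
  haveI : IsProper (C ↘ Spec (CommRingCat.of k)) := inferInstanceAs (IsProper (Γ i).curve.hom)
  haveI := isNoetherian k (X := C)
  let F := Scheme.Modules.pullback (Γ i).ι
  let d : X.left.IdealSheafData → ℤ := fun A => D k [F.obj (ClSub.idealMod A)] (Coh.structureModule C)
  have hinv : ∀ {A : X.left.IdealSheafData}, BlowUp.IsEffCartierIdeal A → PicF.IsInvertible (F.obj (ClSub.idealMod A)) :=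
    fun hA => H11Ample.isInvertible_pullback _ (H29Blow.isInvertible_of_isEffCartierIdeal _ hA)
  have hmul : ∀ {A B : X.left.IdealSheafData}, BlowUp.IsEffCartierIdeal A → BlowUp.IsEffCartierIdeal B →
      d (A * B) = d A + d B := by
    intro A B hA hB
    obtain ⟨e⟩ := nonempty_idealMod_mul hA hB
    let e' : F.obj (ClSub.idealMod (A * B)) ≅ CohB1.tensorMod (F.obj (ClSub.idealMod A)) (F.obj (ClSub.idealMod B)) :=
      F.mapIso e.symm ≪≫ (H16Derived.KFlat.Stalk.pullTensorLIso (Γ i).ι (ClSub.idealMod B)).app (ClSub.idealMod A)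
    show Curv2.euler k C _ - Curv2.euler k C (CohB1.tensorMod (F.obj (ClSub.idealMod (A * B))) _) = _
    rw [H25Euler.euler_congr (PicGrp.tensorModIso e' (Iso.refl (Coh.structureModule C)))]
    exact D_cons_tensor k (l := []) (by simp) (hinv hA) (hinv hB) (H10Coh.isCoh_structureModule' C)
      ((topologicalKrullDim_subspace_le C _).trans (Γ i).dim_eq.le)
  have htop : d 1 = 0 := by
    have h := hmul (A := 1) (B := 1) H29Blow.isEffCartierIdeal_top H29Blow.isEffCartierIdeal_top
    rw [one_mul] at h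
    omega
  have hpow : ∀ j (m : ℕ), BlowUp.IsEffCartierIdeal ((Γ j).ι.ker ^ m) ∧ d ((Γ j).ι.ker ^ m) = m * d (Γ j).ι.ker := by
    intro j m
    induction m with
    | zero => rw [pow_zero, Nat.cast_zero, zero_mul]; exact ⟨H29Blow.isEffCartierIdeal_top, htop⟩
    | succ m ih =>
      rw [pow_succ]
      refine ⟨isEffCartierIdeal_mul ih.1 (hker j), ?_⟩
      rw [hmul ih.1 (hker j), ih.2]
      push_cast; ring
  have hprod : ∀ s : Finset (Fin n), d (∏ j ∈ s, (Γ j).ι.ker ^ a j) = ∑ j ∈ s, (a j : ℤ) * d (Γ j).ι.ker := by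
    intro s
    induction s using Finset.induction with
    | empty => rw [Finset.prod_empty, Finset.sum_empty]; exact htop
    | insert x s hx ih =>
      rw [Finset.prod_insert hx, Finset.sum_insert hx, hmul (hpow x (a x)).1
        (isEffCartierIdeal_prod s _ (fun j _ => hker j) a), (hpow x (a x)).2, ih]
  refine (hprod Finset.univ).trans (Finset.sum_congr rfl fun j _ => ?_)
  obtain ⟨e⟩ := hL j
  exact congrArg ((a j : ℤ) * ·) (inter_eq_D_curve (Γ i) e).symm

include hreg hΓ hL in
/-- Adding a component to a vertical divisor. -/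
theorem chiLen_succ (a : Fin n → ℕ) (i : Fin n)
    (ha : ∀ j, a j + (if j = i then 1 else 0) ≤ Models.mult R X (Γ j)) :
    chiLen R X (ClSub.quotMod (divIdeal Γ (fun j => a j + if j = i then 1 else 0))) -
        chiLen R X (ClSub.quotMod (divIdeal Γ a)) =
      -(∑ j, (a j : ℤ) * ArSurf.inter R X (L j) (Γ i)) +
        ((Models.wdeg R X (Γ i) : ℤ) - (Models.h1 R X (Γ i) : ℤ)) := by
  let k := IsLocalRing.ResidueField R
  let Y := pullback X.hom (closedPt R)
  let b := pullback.fst X.hom (closedPt R)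
  haveI := isNoetherian k (X := Y)
  have hd := dim_fibre_le_one hΓ
  haveI := isProper_curve (Γ i)
  let C := (Γ i).curve.left
  haveI : IsProper (C ↘ Spec (CommRingCat.of k)) := inferInstanceAs (IsProper (Γ i).curve.hom)
  haveI := isNoetherian k (X := C)
  have hsp : ∀ c : Fin n → ℕ, (∀ j, c j ≤ Models.mult R X (Γ j)) → Models.specialFibreIdeal R X ≤ divIdeal Γ c :=
    fun c hc => by rw [specialFibreIdeal_eq_prod hreg hΓ]; exact divIdeal_antitone hc
  have hA := isEffCartierIdeal_divIdeal hreg hΓ a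
  obtain ⟨S, hS, ⟨e₁⟩, h2, h3⟩ := exists_ses (Γ i).ι (isEffCartierIdeal_ker hreg hΓ i) _ hA
  obtain ⟨G₂, hG₂, ⟨e₂⟩, hχ₂⟩ := exists_fibre_quot hd _ (hsp _ ha)
  obtain ⟨G₃, hG₃, ⟨e₃⟩, hχ₃⟩ := exists_fibre_quot hd _ (hsp a fun j => (Nat.le_add_right _ _).trans (ha j))
  let j := toFibre (Γ i)
  let M := (Scheme.Modules.pullback (Γ i).ι).obj (ClSub.idealMod (divIdeal Γ a))
  have hM : PicF.IsInvertible M := H11Ample.isInvertible_pullback _ (H29Blow.isInvertible_of_isEffCartierIdeal _ hA)
  haveI : M.IsQuasicoherent := (H11Ample.isCoh_of_isInvertible hM).1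
  have hG₁ : Coh.IsCoh ((Coh.push j).obj M) :=
    H10Coh.isCoh_push_of_isFinite j _ (H11Ample.isCoh_of_isInvertible hM)
  have hj : j ≫ (Y ↘ Spec (CommRingCat.of k)) = C ↘ Spec (CommRingCat.of k) := pullback.lift_snd _ _ _
  have key := euler_of_push_ses k b hS hG₁ hG₂ hG₃
    (e₁ ≪≫ eqToIso (by rw [toFibre_fst]) ≪≫ ((Scheme.Modules.pushforwardComp j b).app M).symm)
    (eqToIso (by rw [h2, divIdeal_succ]) ≪≫ e₂) (eqToIso h3 ≪≫ e₃)
  rw [hχ₂, hχ₃, Push.euler_push k j hj M] at key
  have h4 : Curv2.euler k C M = Curv2.euler k C (Coh.structureModule C) -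
      D k [M] (Coh.structureModule C) := by
    show _ = _ - (Curv2.euler k C _ - Curv2.euler k C (CohB1.tensorMod M _))
    rw [H25Euler.euler_congr (H10Coh.Tw.rightUnitIso M)]
    ring
  have h5 : Curv2.euler k C (Coh.structureModule C) = (Models.wdeg R X (Γ i) : ℤ) - (Models.h1 R X (Γ i) : ℤ) := by
    rw [← eulerCharLE_eq k (d := 1) (Γ i).dim_eq.le H10Coh.isQuasicoherent_unit, FGA.eulerCharLE]
    simp [Finset.sum_range_succ, Models.wdeg, Models.h1]
    ring
  have h6 := D_pullback_divIdeal hL (isEffCartierIdeal_ker hreg hΓ) i a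
  rw [h4, h5, h6] at key
  linarith [key]

end Groth.Agent.H28Vert
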