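import Groth.Agent.H28Vert.PicVert
import Groth.Agent.H28Vert.Form
import Groth.Agent.H11Ample.Converse
import Groth.Agent.H28NT.GlobalFunctions

/-!
# Vertical divisors with isomorphic twists
-/

set_option autoImplicit false
set_option linter.style.haveILetI false
set_option backward.isDefEq.respectTransparency.types false
universe u

open CategoryTheory CategoryTheory.Limits AlgebraicGeometry Opposite TopologicalSpace

namespace Groth.Agent.H28Vert

attribute [local instance] picLaw

variable {R : Type u} [CommRing R] [IsDomain R] [IsDiscreteValuationRing R]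

theorem pos_of_isComponentList {X C : Scheme.{u}} (p : X ⟶ Spec (CommRingCat.of R)) [IsProper p] (g : C ⟶ X)
    [Nonempty C] {n : ℕ} {Γ : Fin n → ArSurf.VertComp R (Over.mk p)}
    (hΓ : Models.IsComponentList R (Over.mk p) Γ) : 0 < n := by
  rcases Nat.eq_zero_or_pos n with rfl | h
  · exfalso
    obtain ⟨z⟩ : Nonempty C := inferInstance
    obtain ⟨x, hx⟩ : IsLocalRing.closedPoint R ∈ Set.range p :=
      (IsLocalRing.specializes_closedPoint (p (g z))).mem_closed p.isClosedMap.isClosed_range ⟨g z, rfl⟩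
    obtain ⟨y, -⟩ : x ∈ Set.range (pullback.fst (Over.mk p).hom (closedPt R)) := by
      rw [Scheme.Pullback.range_fst]
      exact ⟨IsLocalRing.closedPoint _, (IsLocalRing.PrimeSpectrum.comap_residue R _).trans hx.symm⟩
    obtain ⟨l, -⟩ := exists_mem_range_toFibre hΓ y
    exact l.elim0
  · exact h

theorem multiTwist_iso_iff {X C : Scheme.{u}} (f : C ⟶ Spec (CommRingCat.of (FractionRing R)))
    (p : X ⟶ Spec (CommRingCat.of R)) (hC : Curve.IsSmoothProperCurve (FractionRing R) C f) (hH0 : IsIso f.appTop)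
    (hX : Models.IsRegularProperModel R X p C f) {n : ℕ} (Γ : Fin n → ArSurf.VertComp R (Over.mk p))
    (hΓ : Models.IsComponentList R (Over.mk p) Γ) (L : Fin n → X.Modules)
    (hL : ∀ i, ClSub.IsInverseOf (L i) (ClSub.idealMod (Γ i).ι.ker)) (a b : Fin n → ℕ) :
    Nonempty (FGA.multiTwist L a ≅ FGA.multiTwist L b) ↔
      ∃ c : ℤ, ∀ i, (a i : ℤ) - (b i : ℤ) = c * (Models.mult R (Over.mk p) (Γ i) : ℤ) := by
  obtain ⟨⟨hfl, hlft, -, g, hg⟩, hp, hreg⟩ := hX
  haveI : LocallyOfFiniteType p := hlft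
  haveI : IsProper p := hp
  haveI : Flat p := hfl
  haveI : IsProper (Over.mk p).hom := hp
  haveI : Flat (Over.mk p).hom := hfl
  haveI : IsLocallyNoetherian (Over.mk p).left := LocallyOfFiniteType.isLocallyNoetherian p
  obtain ⟨-, -, hint, -⟩ := hC
  have hn := pos_of_isComponentList p g hΓ
  have hsurj : Function.Surjective (Coh.toGlobal (Over.mk p).hom) :=
    H28NT.toGlobal_surjective_of_genericFibre R p f g hg
      (haveI := hH0; (ConcreteCategory.bijective_of_isIso f.appTop).2)
  let m : Fin n → ℕ := fun i => Models.mult R (Over.mk p) (Γ i)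
  let q : Fin n → PicLoc.PicSet (Over.mk p).left := fun i => idealCls (isEffCartierIdeal_ker hreg hΓ i)
  have hLi : ∀ i, PicF.IsInvertible (L i) := fun i => by
    obtain ⟨e⟩ := hL i
    exact H17.InvertibleTensor.isInvertible_of_tensor_iso (L i) _ e
  have hLq : ∀ i, PicGrp.cls (L i) (hLi i) = (q i)⁻¹ := fun i =>
    eq_inv_of_mul_eq_one_left ((PicGrp.cls_mul_cls_eq_one_iff (hLi i) _).2 (hL i))
  obtain ⟨ha, ea⟩ := cls_multiTwist hLi a
  obtain ⟨hb, eb⟩ := cls_multiTwist hLi b
  have key : Nonempty (FGA.multiTwist L a ≅ FGA.multiTwist L b) ↔ ∏ i, q i ^ a i = ∏ i, q i ^ b i := by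
    rw [← PicGrp.cls_eq_cls_iff ha hb, ea, eb]
    simp only [hLq, inv_pow, Finset.prod_inv_distrib, inv_inj]
  rw [key]
  have hm1 : ∏ i, q i ^ m i = 1 := prod_idealCls_mult hreg hΓ
  constructor
  · intro h
    let N : ℕ := ∑ i, b i
    have hbN : ∀ i, b i ≤ a i + N * m i := fun i =>
      le_trans (Finset.single_le_sum (f := b) (fun j _ => Nat.zero_le _) (Finset.mem_univ i))
        (le_trans (Nat.le_mul_of_pos_right N (mult_pos hΓ i)) (Nat.le_add_left _ _))
    have he : ∏ i, q i ^ (a i + N * m i - b i) = 1 := by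
      have h1 : (∏ i, q i ^ (a i + N * m i - b i)) * ∏ i, q i ^ b i = ∏ i, q i ^ b i := by
        rw [← Finset.prod_mul_distrib]
        calc ∏ i, q i ^ (a i + N * m i - b i) * q i ^ b i = ∏ i, q i ^ a i * (q i ^ m i) ^ N :=
              Finset.prod_congr rfl fun i _ => by
                rw [← pow_add, Nat.sub_add_cancel (hbN i), pow_add, ← pow_mul, mul_comm N]
          _ = _ := by rw [Finset.prod_mul_distrib, Finset.prod_pow, hm1, one_pow, mul_one, h]
      exact mul_eq_right.1 h1
    rw [← idealCls_prod Finset.univ (fun j => (Γ j).ι.ker) (fun j => isEffCartierIdeal_ker hreg hΓ j)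
      (fun i => a i + N * m i - b i)] at he
    obtain ⟨c, hc⟩ := exists_mult_of_idealCls_eq_one hreg hΓ hsurj hn _ he
    refine ⟨(c : ℤ) - N, fun i => ?_⟩
    have h2 := congrArg (fun t : ℕ => (t : ℤ)) (hc i)
    simp only [Nat.cast_sub (hbN i), Nat.cast_add, Nat.cast_mul] at h2
    show _ = _ * (m i : ℤ)
    linear_combination h2
  · rintro ⟨c, hc⟩
    have h1 : ∀ i, q i ^ a i = q i ^ b i * (q i ^ m i) ^ c := fun i => by
      rw [← zpow_natCast, ← zpow_natCast, ← zpow_natCast, ← zpow_mul, ← zpow_add]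
      congr 1
      have := hc i
      change _ = _ * (m i : ℤ) at this
      linear_combination this
    simp only [h1]
    rw [Finset.prod_mul_distrib, Finset.prod_zpow, hm1, one_zpow, mul_one]

theorem tensorPow_multGcd_trivial {X : Over (Spec (CommRingCat.of R))} [IsLocallyNoetherian X.left] [Flat X.hom]
    (hreg : Models.IsRegularScheme X.left) {n : ℕ} {Γ : Fin n → ArSurf.VertComp R X}
    (hΓ : Models.IsComponentList R X Γ) (L : X.left.Modules)
    (hL : ClSub.IsInverseOf L
      (ClSub.idealMod (∏ i, (Γ i).ι.ker ^ (Models.mult R X (Γ i) / Models.multGcd R X Γ)))) :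
    Nonempty (CohB1.tensorPow L (Models.multGcd R X Γ) ≅ Coh.structureModule X.left) ∧
      Nonempty (CohB1.tensorPow ((Scheme.Modules.pullback
          (∏ i, (Γ i).ι.ker ^ (Models.mult R X (Γ i) / Models.multGcd R X Γ)).subschemeι).obj
          (ClSub.idealMod (∏ i, (Γ i).ι.ker ^ (Models.mult R X (Γ i) / Models.multGcd R X Γ))))
          (Models.multGcd R X Γ) ≅
        Coh.structureModule (∏ i, (Γ i).ι.ker ^ (Models.mult R X (Γ i) / Models.multGcd R X Γ)).subscheme) := by
  let d := Models.multGcd R X Γ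
  let hD := isEffCartierIdeal_prod Finset.univ (fun j => (Γ j).ι.ker) (fun j _ => isEffCartierIdeal_ker hreg hΓ j)
    (fun i => Models.mult R X (Γ i) / d)
  let J := ClSub.idealMod (∏ i, (Γ i).ι.ker ^ (Models.mult R X (Γ i) / d))
  have hJ : PicF.IsInvertible J := H29Blow.isInvertible_of_isEffCartierIdeal _ hD
  have h1 : idealCls hD ^ d = 1 := by
    rw [idealCls_prod Finset.univ (fun j => (Γ j).ι.ker) (fun j => isEffCartierIdeal_ker hreg hΓ j), ← Finset.prod_pow]
    refine Eq.trans (Finset.prod_congr rfl fun i _ => ?_) (prod_idealCls_mult hreg hΓ)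
    rw [← pow_mul]
    congr 1
    exact Nat.div_mul_cancel (Finset.gcd_dvd (Finset.mem_univ i))
  have hLi : PicF.IsInvertible L := by
    obtain ⟨e⟩ := hL
    exact H17.InvertibleTensor.isInvertible_of_tensor_iso L _ e
  have hLc : PicGrp.cls L hLi = (idealCls hD)⁻¹ :=
    eq_inv_of_mul_eq_one_left ((PicGrp.cls_mul_cls_eq_one_iff hLi hJ).2 hL)
  refine ⟨(PicGrp.cls_eq_one_iff (isInvertible_tensorPow hLi d)).1 ?_, ?_⟩
  · rw [cls_tensorPow hLi, hLc, inv_pow, h1, inv_one]
  · obtain ⟨e⟩ : Nonempty (CohB1.tensorPow J d ≅ Coh.structureModule X.left) :=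
      (PicGrp.cls_eq_one_iff (isInvertible_tensorPow hJ d)).1 ((cls_tensorPow hJ d).trans h1)
    let s := (∏ i, (Γ i).ι.ker ^ (Models.mult R X (Γ i) / d)).subschemeι
    obtain ⟨e'⟩ := H11Ample.exists_iso_pullback_tensorPow s hJ d
    exact ⟨e'.symm ≪≫ (Scheme.Modules.pullback s).mapIso e ≪≫ H16Derived.KFlat.Stalk.structurePullbackIso s⟩

end Groth.Agent.H28Vert
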