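import Groth.Agent.H28Vert.Fund
import Groth.Agent.H28Vert.PicVert2
import Groth.Agent.H28Vert.CompList
import Groth.Agent.H28Vert.Chain
import Groth.Agent.H28Vert.GeomConnAux

/-!
# Functions on the closed fibre and geometric multiplicities
-/

set_option autoImplicit false
set_option linter.style.haveILetI false
set_option backward.isDefEq.respectTransparency.types false
universe u

open CategoryTheory CategoryTheory.Limits AlgebraicGeometry Opposite TopologicalSpace IsLocalRing
open scoped TensorProduct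

namespace Groth.Agent.H28Vert

section fibre

variable {R : Type u} [CommRing R] [IsDomain R] [IsDiscreteValuationRing R]
  {X : Over (Spec (CommRingCat.of R))} [IsProper X.hom] [Flat X.hom]
  {n : ℕ} {Γ : Fin n → ArSurf.VertComp R X}

/-- When the multiplicities are coprime, the functions on the closed fibre form a field. -/
theorem isField_fibre (hreg : Models.IsRegularScheme X.left)
    (hΓ : Models.IsComponentList R X Γ) (hconn : _root_.IsPreconnected (Models.specialFibreSet R X))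
    (hn : 0 < n) (hgcd : Models.multGcd R X Γ = 1) : IsField Γ(pullback X.hom (closedPt R), ⊤) := by
  haveI : IsLocallyNoetherian X.left := LocallyOfFiniteType.isLocallyNoetherian X.hom
  have hker := fun i => isEffCartierIdeal_ker hreg hΓ i
  have hex : ∀ i, ∃ L : X.left.Modules, ClSub.IsInverseOf L (ClSub.idealMod (Γ i).ι.ker) := fun i => by
    obtain ⟨L, -, hL⟩ := H11Sym.exists_inverse (H29Blow.isInvertible_of_isEffCartierIdeal _ (hker i))
    exact ⟨L, hL⟩
  choose L hL using hex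
  let b := pullback.fst X.hom (closedPt R)
  have hF := isField_globalSections hL hker hn (fun i => Models.mult R X (Γ i))
    (fun i => mult_pos hΓ i) (fun a haz hne hdeg => by
      refine eq_zero_of_degrees hΓ hL hconn hn a ?_ ?_ ?_ <;>
        simpa only [hgcd, Nat.div_one] using ‹_›)
  have hprod : divIdeal Γ (fun i => Models.mult R X (Γ i)) = b.ker := by
    rw [ker_fst_eq, specialFibreIdeal_eq_prod hreg hΓ]
    rfl
  rw [hprod] at hF
  haveI : IsIso b.toImage := inferInstance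
  haveI : IsIso b.toImage.appTop := inferInstanceAs (IsIso (b.toImage.app ⊤))
  exact MulEquiv.isField hF (asIso b.toImage.appTop).commRingCatIsoToRingEquiv.symm.toMulEquiv

omit [Flat X.hom] in
/-- The local ring of the closed fibre at a maximal point has the multiplicity as its length. -/
theorem exists_length_eq_mult (hΓ : Models.IsComponentList R X Γ) (ξ : ↥(pullback X.hom (closedPt R)))
    (hξ : ∀ η, η ⤳ ξ → η = ξ) : ∃ i, Models.mult R X (Γ i) =
      (Module.length ((pullback X.hom (closedPt R)).presheaf.stalk ξ)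
        ((pullback X.hom (closedPt R)).presheaf.stalk ξ)).toNat := by
  let b := pullback.fst X.hom (closedPt R)
  obtain ⟨l, w, hw⟩ := exists_mem_range_toFibre hΓ ξ
  refine ⟨l, ?_⟩
  have hgen : toFibre (Γ l) (genericPoint (Γ l).curve.left) = ξ :=
    hξ _ (hw ▸ (genericPoint_specializes w).map (toFibre (Γ l)).continuous)
  have hpt : b ξ = Models.genPtOf R X (Γ l) := by
    rw [← hgen, ← Scheme.Hom.comp_apply, show toFibre (Γ l) ≫ b = (Γ l).ι from toFibre_fst _]
    rfl
  let B := (pullback X.hom (closedPt R)).presheaf.stalk ξ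
  let A := X.left.presheaf.stalk (b ξ)
  letI : Algebra A B := (b.stalkMap ξ).hom.toAlgebra
  have hs : Function.Surjective (algebraMap A B) := b.stalkMap_surjective ξ
  have hk : LinearMap.ker (Algebra.linearMap A B) =
      Ideal.map (Models.stalkHom R X (b ξ)) (IsLocalRing.maximalIdeal R) := by
    rw [← ker_stalkMap_fst ξ]
    rfl
  have hlen : Module.length A (A ⧸ Ideal.map (Models.stalkHom R X (b ξ)) (IsLocalRing.maximalIdeal R)) =
      Module.length B B :=
    ((Submodule.quotEquivOfEq _ _ hk.symm).trans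
      (LinearMap.quotKerEquivOfSurjective (Algebra.linearMap A B) hs)).length_eq.trans
      (Module.length_eq_of_surjective (R := B) (S := A) hs)
  unfold Models.mult
  rw [← hpt]
  exact congrArg ENat.toNat hlen

end fibre

section base_change

theorem isLocalRing_of_connected {A : Type u} [CommRing A] [IsArtinianRing A]
    (h : ConnectedSpace (PrimeSpectrum A)) : IsLocalRing A := by
  haveI := h
  haveI : Subsingleton (PrimeSpectrum A) := PreconnectedSpace.trivial_of_discrete
  obtain ⟨p⟩ := h.toNonempty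
  haveI : Nontrivial A := ⟨⟨0, 1, fun e => p.isPrime.ne_top ((Ideal.eq_top_iff_one _).2 (e ▸ p.asIdeal.zero_mem))⟩⟩
  obtain ⟨m, hm⟩ := Ideal.exists_maximal A
  exact IsLocalRing.of_unique_max_ideal ⟨m, hm, fun m' hm' =>
    congrArg PrimeSpectrum.asIdeal (Subsingleton.elim (⟨m', hm'.isPrime⟩ : PrimeSpectrum A) ⟨m, hm.isPrime⟩)⟩

/-- Lengths at any point of a scheme flat over an Artinian local ring are multiples of its length. -/
theorem dvd_length_stalk {A : CommRingCat.{u}} [IsArtinianRing A] [IsLocalRing A] {P : Scheme.{u}}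
    (φ : P ⟶ Spec A) [Flat φ] (x : P) :
    (Module.length A A).toNat ∣ (Module.length (P.presheaf.stalk x) (P.presheaf.stalk x)).toNat := by
  obtain ⟨U, hU, hxU, -⟩ := exists_isAffineOpen_mem_and_subset (U := (⊤ : P.Opens)) (x := x) trivial
  let S := P.presheaf.stalk x
  let ρ : Γ(Spec A, ⊤) →+* Γ(P, U) := (φ.appLE ⊤ U le_top).hom
  letI := TopCat.Presheaf.algebra_section_stalk P.presheaf (⟨x, hxU⟩ : U)
  haveI := hU.isLocalization_stalk ⟨x, hxU⟩
  have h1 : ρ.Flat := HasRingHomProperty.appLE (P := @Flat) φ inferInstance ⟨⊤, isAffineOpen_top _⟩ ⟨U, hU⟩ le_top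
  have h2 : (algebraMap Γ(P, U) S).Flat :=
    RingHom.flat_algebraMap_iff.2 (IsLocalization.flat S (hU.primeIdealOf ⟨x, hxU⟩).asIdeal.primeCompl)
  have h3 : ((Scheme.ΓSpecIso A).inv.hom).Flat :=
    RingHom.Flat.of_bijective (ConcreteCategory.bijective_of_isIso (Scheme.ΓSpecIso A).inv)
  let ψ : A →+* S := (algebraMap Γ(P, U) S).comp (ρ.comp (Scheme.ΓSpecIso A).inv.hom)
  have hψ : ψ.Flat := (h3.comp h1).comp h2
  letI : Algebra A S := ψ.toAlgebra
  haveI : Module.Flat A S := hψ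
  haveI : IsLocalHom (algebraMap A S) := ⟨fun a ha => by
    by_contra hu
    have hp : ((IsLocalRing.maximalIdeal S).comap (algebraMap A S)) = IsLocalRing.maximalIdeal A :=
      IsLocalRing.eq_maximalIdeal inferInstance
    exact (hp.ge ((IsLocalRing.mem_maximalIdeal a).2 hu) : algebraMap A S a ∈ IsLocalRing.maximalIdeal S) ha⟩
  have h := IsLocalRing.length_baseChange A S A
  rw [(TensorProduct.AlgebraTensorModule.rid A S S).length_eq] at h
  rw [h, ENat.toNat_mul]
  exact dvd_mul_right _ _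

/-- If the geometric fibre is connected and its local lengths are coprime, a field of functions is the base. -/
theorem bijective_of_geometric {k : Type u} [Field k] {Y P : Scheme.{u}} [Nonempty Y]
    (q : Y ⟶ Spec (CommRingCat.of k)) [IsProper q] (hfield : IsField Γ(Y, ⊤))
    {Ω : Type u} [Field Ω] [IsAlgClosed Ω] [Algebra k Ω] (π : P ⟶ Y) (pΩ : P ⟶ Spec (CommRingCat.of Ω))
    (hP : IsPullback π pΩ q (Spec.map (CommRingCat.ofHom (algebraMap k Ω)))) [ConnectedSpace P]
    (hd : ∀ ℓ : ℕ, ℓ.Prime → ∃ x : P, ¬ (ℓ ∣ (Module.length (P.presheaf.stalk x) (P.presheaf.stalk x)).toNat)) :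
    Function.Bijective q.appTop := by
  letI := hfield.toField
  let κ : k →+* Γ(Y, ⊤) := q.appTop.hom.comp (Scheme.ΓSpecIso (CommRingCat.of k)).inv.hom
  letI : Algebra k Γ(Y, ⊤) := κ.toAlgebra
  haveI : FiniteDimensional k Γ(Y, ⊤) := finite_toGlobal_of_isProper q
  haveI : IsArtinianRing (Ω ⊗[k] Γ(Y, ⊤)) := IsArtinianRing.of_finite Ω _
  let iH : Γ(Y, ⊤) ⟶ CommRingCat.of (Ω ⊗[k] Γ(Y, ⊤)) :=
    CommRingCat.ofHom (Algebra.TensorProduct.includeRight (R := k) (A := Ω) (B := Γ(Y, ⊤))).toRingHom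
  let iΩ : CommRingCat.of Ω ⟶ CommRingCat.of (Ω ⊗[k] Γ(Y, ⊤)) :=
    CommRingCat.ofHom Algebra.TensorProduct.includeLeftRingHom
  have hbot : IsPullback (Spec.map iH) (Spec.map iΩ) (Spec.map (CommRingCat.ofHom κ))
      (Spec.map (CommRingCat.ofHom (algebraMap k Ω))) :=
    isPullback_SpecMap_of_isPushout _ _ _ _ (CommRingCat.isPushout_tensorProduct k Ω Γ(Y, ⊤)).flip
  have hq : Y.toSpecΓ ≫ Spec.map (CommRingCat.ofHom κ) = q := by
    refine ext_of_isAffine ?_
    ext s
    obtain ⟨c, rfl⟩ := (ConcreteCategory.bijective_of_isIso (Scheme.ΓSpecIso (CommRingCat.of k)).inv).2 s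
    rw [Scheme.Hom.comp_appTop, CommRingCat.comp_apply, specMap_appTop_inv, Scheme.toSpecΓ_appTop]
    exact congr($((Scheme.ΓSpecIso Γ(Y, ⊤)).inv_hom_id) _)
  let φ : P ⟶ Spec (CommRingCat.of (Ω ⊗[k] Γ(Y, ⊤))) := hbot.lift (π ≫ Y.toSpecΓ) pΩ (by
    rw [Category.assoc, hq]; exact hP.w)
  have hsq : IsPullback π φ Y.toSpecΓ (Spec.map iH) := by
    refine IsPullback.of_bot (v₂₁ := Spec.map iΩ) (v₂₂ := Spec.map (CommRingCat.ofHom κ))
      (h₃₁ := Spec.map (CommRingCat.ofHom (algebraMap k Ω))) ?_ (hbot.lift_fst _ _ _).symm hbot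
    rw [hq, hbot.lift_snd]
    exact hP
  haveI : Subsingleton ↥(Spec Γ(Y, ⊤)) := inferInstanceAs (Subsingleton (PrimeSpectrum Γ(Y, ⊤)))
  haveI : Flat Y.toSpecΓ := inferInstance
  haveI : Surjective Y.toSpecΓ := ⟨fun t => ⟨Classical.arbitrary Y, Subsingleton.elim _ _⟩⟩
  haveI : Flat φ := MorphismProperty.of_isPullback hsq inferInstance
  haveI : Surjective φ := MorphismProperty.of_isPullback hsq inferInstance
  have hc : ConnectedSpace (PrimeSpectrum (Ω ⊗[k] Γ(Y, ⊤))) := φ.surjective.connectedSpace φ.continuous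
  haveI := isLocalRing_of_connected hc
  have hlen : (Module.length (Ω ⊗[k] Γ(Y, ⊤)) (Ω ⊗[k] Γ(Y, ⊤))).toNat = 1 := by
    by_contra hne
    obtain ⟨ℓ, hℓ, hdvd⟩ := Nat.exists_prime_and_dvd hne
    obtain ⟨x, hx⟩ := hd ℓ hℓ
    exact hx (hdvd.trans (dvd_length_stalk φ x))
  have hlen' : Module.length (Ω ⊗[k] Γ(Y, ⊤)) (Ω ⊗[k] Γ(Y, ⊤)) = 1 :=
    (ENat.toNat_eq_iff one_ne_zero).1 hlen
  haveI : IsSimpleModule (Ω ⊗[k] Γ(Y, ⊤)) (Ω ⊗[k] Γ(Y, ⊤)) := Module.length_eq_one_iff.1 hlen'
  have hF : IsField (Ω ⊗[k] Γ(Y, ⊤)) := by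
    rw [IsLocalRing.isField_iff_maximalIdeal_eq]
    exact (eq_bot_or_eq_top (IsLocalRing.maximalIdeal (Ω ⊗[k] Γ(Y, ⊤)))).resolve_right
      (IsLocalRing.maximalIdeal.isMaximal _).ne_top
  haveI : IsDomain (Ω ⊗[k] Γ(Y, ⊤)) := hF.isDomain
  have hr : Module.finrank Ω (Ω ⊗[k] Γ(Y, ⊤)) = 1 := by
    let e : Ω ≃ₗ[Ω] (Ω ⊗[k] Γ(Y, ⊤)) := LinearEquiv.ofBijective (Algebra.linearMap Ω (Ω ⊗[k] Γ(Y, ⊤)))
      IsAlgClosed.algebraMap_bijective_of_isIntegral
    rw [← e.finrank_eq, Module.finrank_self]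
  rw [Module.finrank_baseChange] at hr
  have hκ : Function.Bijective κ :=
    ⟨κ.injective, fun x => Algebra.mem_bot.1 ((Subalgebra.bot_eq_top_of_finrank_eq_one hr).symm ▸ Algebra.mem_top)⟩
  refine ⟨fun a c h => ?_, fun x => ?_⟩
  · obtain ⟨a, rfl⟩ := (ConcreteCategory.bijective_of_isIso (Scheme.ΓSpecIso (CommRingCat.of k)).inv).2 a
    obtain ⟨c, rfl⟩ := (ConcreteCategory.bijective_of_isIso (Scheme.ΓSpecIso (CommRingCat.of k)).inv).2 c
    exact congrArg _ (hκ.1 h)
  · obtain ⟨c, hc'⟩ := hκ.2 x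
    exact ⟨_, hc'⟩

end base_change

end Groth.Agent.H28Vert
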