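import Groth.Agent.H28Vert.Length
import Groth.Agent.H28Vert.Symm
import Groth.Agent.H28Surf.DivisorH1
import Groth.Agent.H25Par.FibKer
import Groth.Agent.H17.Image

/-!
# Two vertical curves with intersection number one
-/

set_option autoImplicit false
set_option linter.style.haveILetI false
set_option backward.isDefEq.respectTransparency.types false
universe u

open CategoryTheory CategoryTheory.Limits AlgebraicGeometry Opposite TopologicalSpace

namespace Groth.Agent.H28Vert

open Groth.Agent.H28Int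

variable {R : Type u} [CommRing R] [IsDomain R] [IsDiscreteValuationRing R]
  {X : Over (Spec (CommRingCat.of R))}

/-- A vertical curve of intersection one meets the other transversally in a rational point. -/
theorem exists_meet_point [IsProper X.hom] (Γ Δ : ArSurf.VertComp R X)
    (hne : Set.range Γ.ι.base ≠ Set.range Δ.ι.base) {L : X.left.Modules}
    (hL : ClSub.IsInverseOf L (ClSub.idealMod Δ.ι.ker)) (h1 : ArSurf.inter R X L Γ = 1)
    (hmeet : ¬ Disjoint (Set.range Γ.ι.base) (Set.range Δ.ι.base)) :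
    ∃ x : X.left, Set.range Γ.ι.base ∩ Set.range Δ.ι.base = {x} ∧
      Γ.ι.ker ⊔ Δ.ι.ker = Scheme.IdealSheafData.vanishingIdeal ⟨closure {x}, isClosed_closure⟩ ∧
      Function.Surjective ((X.left.residue x).hom.comp (Models.stalkHom R X x)) := by
  classical
  haveI := isProper_curve Γ
  haveI := Γ.isClosedImmersion
  haveI := Δ.isClosedImmersion
  haveI : IsIntegral Γ.curve.left := Γ.isIntegral
  let k := IsLocalRing.ResidueField R
  haveI : IsProper (Γ.curve.left ↘ Spec (CommRingCat.of k)) := inferInstanceAs (IsProper Γ.curve.hom)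
  haveI := isNoetherian k (X := Γ.curve.left)
  have hsup : ∀ Θ : ArSurf.VertComp R X, (Θ.ι.ker.support : Set X.left) = Set.range Θ.ι.base := fun Θ => by
    haveI := Θ.isClosedImmersion
    rw [Scheme.Hom.support_ker]
    exact Θ.ι.isClosedEmbedding.isClosed_range.closure_eq
  have hgp := genericPoint_notMem Γ Δ hne
  have hlen := inter_eq_lengthH Γ Δ.ι.ker hgp hL
  rw [h1] at hlen
  set J := Δ.ι.ker ⊔ Γ.ι.ker with hJ
  let s := J.subschemeι
  let Z := J.subscheme
  have hJs : (J.support : Set X.left) = Set.range Γ.ι.base ∩ Set.range Δ.ι.base := by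
    rw [hJ, Scheme.IdealSheafData.support_sup, TopologicalSpace.Closeds.coe_inf, hsup, hsup, Set.inter_comm]
  have hrs : Set.range s = Set.range Γ.ι.base ∩ Set.range Δ.ι.base := J.range_subschemeι.trans hJs
  obtain ⟨z₀⟩ : Nonempty Z := by
    obtain ⟨x, hx, hx'⟩ := Set.not_disjoint_iff.1 hmeet
    obtain ⟨z, -⟩ : x ∈ Set.range s := hrs.ge ⟨hx, hx'⟩
    exact ⟨z⟩
  let q : Γ(ClSub.quotMod J, ⊤) → Γ(Z, ⊤) := fun w => w
  have hlen1 : Module.length R (Coh.HH X.left (ClSub.quotMod J) 0) = 1 := by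
    have h : (Module.length R (Coh.HH X.left (ClSub.quotMod J) 0)).toNat = 1 := by
      have h' : (Models.lengthH R X (ClSub.quotMod J) 0 : ℤ) = 1 := hlen.symm
      exact_mod_cast h'
    exact (ENat.toNat_eq_iff one_ne_zero).1 h
  haveI : IsSimpleModule R (Coh.HH X.left (ClSub.quotMod J) 0) := Module.length_eq_one_iff.1 hlen1
  haveI : Nonempty (⊤ : Z.Opens) := ⟨⟨z₀, trivial⟩⟩
  haveI : Nontrivial Γ(Z, ⊤) := by
    refine ⟨1, 0, fun h => ?_⟩
    have h' := congrArg (Z.presheaf.germ ⊤ z₀ trivial).hom h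
    rw [map_one, map_zero] at h'
    exact one_ne_zero h'
  let ψ : R →+* Γ(Z, ⊤) := Coh.toGlobal (s ≫ X.hom)
  have hψ : Function.Surjective ψ := by
    intro w
    let E := H10Coh.HH0Equiv (ClSub.quotMod J)
    let o := E.symm (show Γ(ClSub.quotMod J, ⊤) from (1 : Γ(Z, ⊤)))
    have ho : o ≠ 0 := fun h => one_ne_zero (α := Γ(Z, ⊤)) (by
      have := congrArg E h
      rwa [AddEquiv.apply_symm_apply, map_zero] at this)
    obtain ⟨r, hr⟩ : ∃ r : R, r • o = E.symm (show Γ(ClSub.quotMod J, ⊤) from w) :=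
      (IsSimpleModule.toSpanSingleton_surjective R ho) _
    refine ⟨r, ?_⟩
    have h2 := congrArg E hr
    rw [AddEquiv.apply_symm_apply] at h2
    refine Eq.trans ?_ h2
    refine Eq.trans ?_ (H10Coh.HH0Equiv_smul (ClSub.quotMod J) (Coh.toGlobal X.hom r) o).symm
    refine Eq.trans ?_ (congrArg (fun v : Γ(ClSub.quotMod J, ⊤) => (show Γ(X.left, ⊤) from Coh.toGlobal X.hom r) • v)
      (AddEquiv.apply_symm_apply E (show Γ(ClSub.quotMod J, ⊤) from (1 : Γ(Z, ⊤))))).symm
    exact (mul_one (s.appTop (Coh.toGlobal X.hom r : Γ(X.left, ⊤)) : Γ(Z, ⊤))).symm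
  let j := toCurve Γ Δ.ι.ker
  let ψk : k →+* Γ(Z, ⊤) := Coh.toGlobal (j ≫ Γ.curve.hom)
  have hψk : Function.Surjective ψk := fun w => by
    obtain ⟨r, rfl⟩ := hψ w
    refine ⟨IsLocalRing.residue R r, ?_⟩
    show _ = Coh.toGlobal (s ≫ X.hom) r
    rw [show s ≫ X.hom = (j ≫ Γ.curve.hom) ≫ closedPt R by
      rw [Category.assoc, ← Γ.w, ← Category.assoc, show j ≫ Γ.ι = s from toCurve_ι Γ Δ.ι.ker]]
    show _ = ((j ≫ Γ.curve.hom) ≫ closedPt R).appTop _
    rw [Scheme.Hom.comp_appTop]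
    exact congrArg ((j ≫ Γ.curve.hom).appTop) ((congr($(Scheme.ΓSpecIso_inv_naturality
      (CommRingCat.ofHom (IsLocalRing.residue R))) r)))
  haveI : PreconnectedSpace Z := H28Surf.preconnectedSpace_of_surjective ψk hψk
  have hjs : ∀ z, Γ.ι (j z) = s z := fun z => by
    rw [← Scheme.Hom.comp_apply, show j ≫ Γ.ι = s from toCurve_ι Γ Δ.ι.ker]
  obtain ⟨hfin, hcl⟩ := H25Par.finite_of_isClosed_of_notMem Γ.dim_eq.le (S := Set.range j)
    j.isClosedEmbedding.isClosed_range (by
      rintro ⟨z, hz⟩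
      refine hgp ((hsup Δ).ge (hrs.le ⟨z, ?_⟩).2)
      rw [← hjs, hz])
  haveI : Finite Z := by
    haveI : Finite (Set.range j) := hfin.to_subtype
    exact Finite.of_injective (Set.rangeFactorization j) fun a b h =>
      j.isClosedEmbedding.injective (congrArg Subtype.val h)
  haveI : T1Space Z := ⟨fun z => by
    rw [← Set.preimage_image_eq ({z} : Set Z) j.isClosedEmbedding.injective, Set.image_singleton]
    exact (hcl _ ⟨z, rfl⟩).preimage j.continuous⟩
  haveI : Subsingleton Z := PreconnectedSpace.trivial_of_discrete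
  have htop : ∀ (U : Z.Opens), z₀ ∈ U → U = ⊤ := fun U hU =>
    eq_top_iff.2 fun z _ => Subsingleton.elim z₀ z ▸ hU
  haveI : IsAffine Z := by
    obtain ⟨U, hU, hzU, -⟩ := exists_isAffineOpen_mem_and_subset (U := (⊤ : Z.Opens)) (x := z₀) trivial
    rw [htop U hzU] at hU
    haveI : IsAffine (⊤ : Z.Opens).toScheme := hU
    exact IsAffine.of_isIso Z.topIso.inv
  have hF : IsField Γ(Z, ⊤) := by
    refine ⟨exists_pair_ne _, mul_comm, fun {a} ha => ?_⟩
    obtain ⟨c, rfl⟩ := hψk a
    have hc : c ≠ 0 := fun h => ha (by rw [h, map_zero])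
    exact ⟨ψk c⁻¹, by rw [← map_mul, mul_inv_cancel₀ hc, map_one]⟩
  haveI : IsReduced Z := by
    haveI := hF.isDomain
    haveI : _root_.IsReduced Γ(Z, ⊤) := inferInstance
    exact isReduced_of_isOpenImmersion Z.isoSpec.hom
  have hrange : Set.range s = {s z₀} := Set.eq_singleton_iff_unique_mem.2
    ⟨⟨z₀, rfl⟩, by rintro _ ⟨z, rfl⟩; rw [Subsingleton.elim z z₀]⟩
  refine ⟨s z₀, hrs.symm.trans hrange, ?_, ?_⟩
  · refine (sup_comm _ _).trans ((Scheme.IdealSheafData.ker_subschemeι J).symm.trans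
      ((H17.ker_eq_vanishingIdeal s).trans (congrArg Scheme.IdealSheafData.vanishingIdeal ?_)))
    exact TopologicalSpace.Closeds.ext (congrArg closure hrange)
  · intro a
    let φ := s.residueFieldMap z₀
    obtain ⟨b, hb⟩ := Z.residue_surjective z₀ (φ a)
    obtain ⟨U, hU, w, rfl⟩ := Z.presheaf.exists_germ_eq b
    obtain rfl := htop U hU
    obtain ⟨r, rfl⟩ := hψ w
    refine ⟨r, φ.hom.injective (Eq.trans ?_ hb)⟩
    show φ (X.left.residue (s z₀) (X.left.presheaf.germ ⊤ (s z₀) trivial (Coh.toGlobal X.hom r))) = _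
    rw [← CommRingCat.comp_apply, Scheme.residue_residueFieldMap, CommRingCat.comp_apply,
      Scheme.Hom.germ_stalkMap_apply]
    rfl

end Groth.Agent.H28Vert
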